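import Mathlib
import Cfsg.Agent.LieClassical.OrthTrans

/-!
# Stabilisers of totally singular subspaces in `E Q` are maximal (helper884)

`Q` is a nondegenerate quadratic form of Witt index at least two in dimension at least five over any field
(`Good Q`), `E Q` the group generated by the Siegel transformations (the commutator subgroup of `O Q`),
`W ≠ 0` totally singular.  If there is no singular vector in `W^⊥` outside `W`, or `2 dim W + 3 ≤ dim V`, then a
subgroup of `E Q` containing the stabiliser of `W` in `E Q` stabilises `W` or is equal to `E Q`.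
-/

set_option autoImplicit false

namespace Cfsg.Agent.H884.SingMax

open QuadraticMap Cfsg.Agent.LieClassical.OrthCore Cfsg.Agent.LieClassical.OrthTrans

variable {F V : Type*} [Field F] [AddCommGroup V] [Module F V] {Q : QuadraticForm F V}

/-- `x` is orthogonal to `W`. -/
def Perp (Q : QuadraticForm F V) (W : Submodule F V) (x : V) : Prop := ∀ w ∈ W, polar Q w x = 0

theorem Perp.left {W : Submodule F V} {x : V} (h : Perp Q W x) {w : V} (hw : w ∈ W) :
    polar Q x w = 0 := by rw [polar_comm]; exact h w hw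

/-- Orthogonality inside a totally singular subspace. -/
theorem perp_of_mem {W : Submodule F V} (hW : ∀ w ∈ W, Q w = 0) {x : V} (hx : x ∈ W) : Perp Q W x := by
  intro w hw
  have h := hW _ (W.add_mem hw hx)
  rw [Q_add, hW w hw, hW x hx, zero_add, zero_add] at h
  exact h

theorem isRefl_polarBilin (Q : QuadraticForm F V) : (polarBilin Q).IsRefl := by
  intro x y h
  rw [polarBilin_apply_apply] at h ⊢
  rw [polar_comm]; exact h

theorem nondegenerate_of_nondeg (hQ : Nondeg Q) : (polarBilin Q).Nondegenerate := by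
  refine ⟨fun x hx => hQ x hx, fun x hx => hQ x fun y => ?_⟩
  rw [polar_comm]; exact hx y

theorem mem_orthogonal_iff {W : Submodule F V} {x : V} :
    x ∈ (LinearMap.BilinForm.orthogonal (polarBilin Q) W) ↔ Perp Q W x := by
  rw [LinearMap.BilinForm.mem_orthogonal_iff]
  rfl

/-- `W^⊥⊥ = W`. -/
theorem mem_of_perp_perp [FiniteDimensional F V] (hQ : Nondeg Q) (W : Submodule F V) {x : V}
    (h : ∀ v, Perp Q W v → polar Q v x = 0) : x ∈ W := by
  have h1 := LinearMap.BilinForm.orthogonal_orthogonal (nondegenerate_of_nondeg hQ)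
    (isRefl_polarBilin Q) W
  rw [← h1, mem_orthogonal_iff]
  intro v hv
  exact h v (mem_orthogonal_iff.1 hv)

theorem exists_perp_polar_ne [FiniteDimensional F V] (hQ : Nondeg Q) (W : Submodule F V) {x : V}
    (hx : x ∉ W) : ∃ v, Perp Q W v ∧ polar Q x v ≠ 0 := by
  by_contra h
  push Not at h
  exact hx (mem_of_perp_perp hQ W fun v hv => by rw [polar_comm]; exact h v hv)

theorem Perp.add {W : Submodule F V} {x y : V} (hx : Perp Q W x) (hy : Perp Q W y) :
    Perp Q W (x + y) := fun w hw => by rw [polar_add_right, hx w hw, hy w hw, add_zero]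

theorem Perp.smul {W : Submodule F V} {x : V} (c : F) (hx : Perp Q W x) : Perp Q W (c • x) :=
  fun w hw => by rw [polar_smul_right, hx w hw, smul_zero]

theorem Perp.sub {W : Submodule F V} {x y : V} (hx : Perp Q W x) (hy : Perp Q W y) :
    Perp Q W (x - y) := fun w hw => by rw [polar_sub_right, hx w hw, hy w hw, sub_zero]

/-- The usual trick: a vector outside two hyperplanes. -/
theorem exists_both {P : V → Prop} (hP : ∀ a b, P a → P b → P (a + b)) {x y a b : V} (ha : P a)
    (hb : P b) (hxa : polar Q x a ≠ 0) (hyb : polar Q y b ≠ 0) :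
    ∃ c, P c ∧ polar Q x c ≠ 0 ∧ polar Q y c ≠ 0 := by
  by_cases h1 : polar Q y a = 0
  · by_cases h2 : polar Q x b = 0
    · refine ⟨a + b, hP a b ha hb, ?_, ?_⟩
      · rw [polar_add_right, h2, add_zero]; exact hxa
      · rw [polar_add_right, h1, zero_add]; exact hyb
    · exact ⟨b, hb, h2, hyb⟩
  · exact ⟨a, ha, hxa, h1⟩

/-! ### Transitivity -/

/-- The stabiliser of `W` is transitive on singular points not orthogonal to `W`. -/
theorem trans_out {W : Submodule F V} (hW : ∀ w ∈ W, Q w = 0) {x y : V} (hx : Q x = 0)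
    (hy : Q y = 0) (hxW : ¬ Perp Q W x) (hyW : ¬ Perp Q W y) :
    ∃ g ∈ E Q, (∀ w ∈ W, g w ∈ W) ∧ ∃ c : F, c ≠ 0 ∧ g x = c • y := by
  unfold Perp at hxW hyW
  push Not at hxW hyW
  obtain ⟨a, ha, hax⟩ := hxW
  obtain ⟨b, hb, hby⟩ := hyW
  rw [polar_comm] at hax hby
  obtain ⟨u, hu, hxu, hyu⟩ := exists_both (P := fun v => v ∈ W) (fun a b ha hb => W.add_mem ha hb)
    ha hb hax hby
  have huQ : Q u = 0 := hW u hu
  set x1 := (polar Q x u)⁻¹ • x with hx1
  set y1 := (polar Q y u)⁻¹ • y with hy1
  have h : Hyp Q u x1 := by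
    refine ⟨huQ, ?_, ?_⟩
    · rw [hx1, QuadraticMap.map_smul, hx, smul_zero]
    · rw [hx1, polar_smul_right, polar_comm Q u x, smul_eq_mul, inv_mul_cancel₀ hxu]
  have h' : Hyp Q u y1 := by
    refine ⟨huQ, ?_, ?_⟩
    · rw [hy1, QuadraticMap.map_smul, hy, smul_zero]
    · rw [hy1, polar_smul_right, polar_comm Q u y, smul_eq_mul, inv_mul_cancel₀ hyu]
  have hw : polar Q u (y1 - x1) = 0 := by
    rw [polar_sub_right, h.pair, h'.pair, sub_self]
  have hg : siegel Q u (y1 - x1) huQ hw x1 = y1 := by
    have hQ' : Q (y1 - x1) = - polar Q y1 x1 := by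
      rw [sub_eq_add_neg, Q_add, QuadraticMap.map_neg, polar_neg_right, h.right, h'.right]
      ring
    rw [siegel_apply, h.pair, hQ', polar_sub_left, h.polar_right]
    module
  refine ⟨siegel Q u (y1 - x1) huQ hw, siegel_mem_E _ _, ?_, polar Q x u * (polar Q y u)⁻¹,
    mul_ne_zero hxu (inv_ne_zero hyu), ?_⟩
  · intro w hwW
    rw [siegel_apply, perp_of_mem hW hwW u hu]
    simp only [zero_smul, add_zero, mul_zero, sub_zero]
    exact W.sub_mem hwW (W.smul_mem _ hu)
  · have e : x = polar Q x u • x1 := by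
      rw [hx1, smul_smul, mul_inv_cancel₀ hxu, one_smul]
    nth_rewrite 1 [e]
    rw [map_smul, hg, hy1, smul_smul]

/-- In `W^⊥`, orthogonal to a hyperbolic pair, there is a nonsingular vector if `dim V ≥ 2 dim W + 3`. -/
theorem exists_nonsing_perp [FiniteDimensional F V] (hQ : Nondeg Q) {W : Submodule F V}
    (hdim : 2 * Module.finrank F W + 3 ≤ Module.finrank F V)
    {x y : V} (hxW : Perp Q W x) (hyW : Perp Q W y) (hxy : Hyp Q x y) :
    ∃ v, Perp Q W v ∧ polar Q x v = 0 ∧ polar Q y v = 0 ∧ Q v ≠ 0 := by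
  by_contra hcon
  push Not at hcon
  set U : Submodule F V := W ⊔ Submodule.span F {x, y} with hU
  set X := LinearMap.BilinForm.orthogonal (polarBilin Q) U with hX
  have hmem : ∀ v, v ∈ X ↔ Perp Q W v ∧ polar Q x v = 0 ∧ polar Q y v = 0 := by
    intro v
    rw [hX, mem_orthogonal_iff]
    constructor
    · intro h
      refine ⟨fun w hw => h w (Submodule.mem_sup_left hw),
        h x (Submodule.mem_sup_right (Submodule.subset_span (by simp))),
        h y (Submodule.mem_sup_right (Submodule.subset_span (by simp)))⟩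
    · rintro ⟨h1, h2, h3⟩ u hu
      rw [hU, Submodule.mem_sup] at hu
      obtain ⟨w, hw, s, hs, rfl⟩ := hu
      rw [Submodule.mem_span_pair] at hs
      obtain ⟨a, b, rfl⟩ := hs
      rw [polar_add_left, polar_add_left, polar_smul_left, polar_smul_left, h1 w hw, h2, h3]
      simp
  have hXW : X ≤ W := by
    intro v hv
    have hvU : v ∈ U := by
      apply mem_of_perp_perp hQ
      intro t ht
      have htX : t ∈ X := mem_orthogonal_iff.2 ht
      have h1 := (hmem v).1 hv
      have h2 := (hmem t).1 htX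
      have h3 := (hmem (t + v)).1 (X.add_mem htX hv)
      have h4 := hcon _ h3.1 h3.2.1 h3.2.2
      rw [Q_add, hcon _ h1.1 h1.2.1 h1.2.2, hcon _ h2.1 h2.2.1 h2.2.2, zero_add, zero_add] at h4
      exact h4
    obtain ⟨h1, h2, h3⟩ := (hmem v).1 hv
    rw [hU, Submodule.mem_sup] at hvU
    obtain ⟨w, hw, s, hs, rfl⟩ := hvU
    rw [Submodule.mem_span_pair] at hs
    obtain ⟨a, b, rfl⟩ := hs
    rw [polar_add_right, polar_add_right, polar_smul_right, polar_smul_right, hxW.left hw,
      hxy.polar_left, hxy.pair] at h2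
    rw [polar_add_right, polar_add_right, polar_smul_right, polar_smul_right, hyW.left hw,
      hxy.polar_right, hxy.pair'] at h3
    simp only [smul_eq_mul, mul_zero, mul_one, zero_add, add_zero] at h2 h3
    rw [h2, h3, zero_smul, zero_smul, add_zero, add_zero]
    exact hw
  have h1 := Submodule.finrank_mono hXW
  have h2 : Module.finrank F X = Module.finrank F V - Module.finrank F U :=
    LinearMap.BilinForm.finrank_orthogonal (nondegenerate_of_nondeg hQ) U
  have h3 : Module.finrank F U ≤ Module.finrank F W + 2 := by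
    refine (Submodule.finrank_add_le_finrank_add_finrank _ _).trans ?_
    have : Module.finrank F (Submodule.span F ({x, y} : Set V)) ≤ 2 := by
      classical
      have h := finrank_span_finset_le_card (R := F) ({x, y} : Finset V)
      rw [Finset.coe_pair] at h
      exact h.trans Finset.card_le_two
    omega
  omega

/-- The pointwise stabiliser of `W` is transitive on singular points of `W^⊥` outside `W`. -/
theorem trans_in [FiniteDimensional F V] (hQ : Nondeg Q) {W : Submodule F V}
    (hdim : 2 * Module.finrank F W + 3 ≤ Module.finrank F V)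
    {x y : V} (hx : Q x = 0) (hy : Q y = 0) (hxP : Perp Q W x) (hyP : Perp Q W y) (hxW : x ∉ W)
    (hyW : y ∉ W) :
    ∃ g ∈ E Q, (∀ w ∈ W, g w = w) ∧ ∃ c : F, c ≠ 0 ∧ g x = c • y := by
  -- the non-orthogonal case
  have key : ∀ x y : V, Q x = 0 → Q y = 0 → Perp Q W x → Perp Q W y → polar Q x y ≠ 0 →
      ∃ g ∈ E Q, (∀ w ∈ W, g w = w) ∧ ∃ c : F, c ≠ 0 ∧ g x = c • y := by
    intro x y hx hy hxP hyP hne
    set y1 := (polar Q x y)⁻¹ • y with hy1
    have h : Hyp Q x y1 := by
      refine ⟨hx, ?_, ?_⟩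
      · rw [hy1, QuadraticMap.map_smul, hy, smul_zero]
      · rw [hy1, polar_smul_right, smul_eq_mul, inv_mul_cancel₀ hne]
    have hy1P : Perp Q W y1 := hyP.smul _
    obtain ⟨v, hvP, hxv, hyv, hv⟩ := exists_nonsing_perp hQ hdim hxP hy1P h
    have hxv' : polar Q x (-(Q v)⁻¹ • v) = 0 := by rw [polar_smul_right, hxv, smul_zero]
    have hvx : polar Q v x = 0 := by rw [polar_comm]; exact hxv
    have hvy : polar Q v y1 = 0 := by rw [polar_comm]; exact hyv
    set g := siegel Q y1 v h.right hyv with hg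
    set g' := siegel Q x (-(Q v)⁻¹ • v) h.left hxv' with hg'
    have e1 : g x = x + v - Q v • y1 := by
      rw [hg, siegel_apply, h.pair', hvx]
      module
    have e2 : g' y1 = y1 - (Q v)⁻¹ • v - (Q v)⁻¹ • x := by
      rw [hg', siegel_apply, h.pair, polar_smul_left, hvy, QuadraticMap.map_smul]
      simp only [smul_eq_mul, mul_zero, mul_one, zero_smul, sub_zero, one_smul, neg_mul_neg]
      rw [mul_assoc, inv_mul_cancel₀ hv, mul_one]
      module
    have e3 : g x = (-Q v) • g' y1 := by
      rw [e1, e2]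
      match_scalars
      · field_simp
      · field_simp
      · ring
    have hfix : ∀ a b : V, ∀ (ha : Q a = 0) (hab : polar Q a b = 0), Perp Q W a → Perp Q W b →
        ∀ w ∈ W, siegel Q a b ha hab w = w := by
      intro a b ha hab haP hbP w hw
      rw [siegel_apply, haP.left hw, hbP.left hw]
      simp
    refine ⟨g'⁻¹ * g, (E Q).mul_mem ((E Q).inv_mem (siegel_mem_E _ _)) (siegel_mem_E _ _), ?_,
      (-Q v) * (polar Q x y)⁻¹, mul_ne_zero (neg_ne_zero.2 hv) (inv_ne_zero hne), ?_⟩
    · intro w hw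
      have h1 : g w = w := hfix _ _ _ _ hy1P hvP w hw
      have h2 : g' w = w := hfix _ _ _ _ hxP (hvP.smul _) w hw
      show g'.symm (g w) = w
      rw [h1, LinearEquiv.symm_apply_eq, h2]
    · show g'.symm (g x) = _
      rw [LinearEquiv.symm_apply_eq, e3, mul_smul, ← hy1]
      exact (map_smul g' (-Q v) y1).symm
  by_cases hne : polar Q x y = 0
  · -- a singular vector of `W^⊥` not orthogonal to both
    obtain ⟨a, haP, hxa⟩ := exists_perp_polar_ne hQ W hxW
    obtain ⟨b, hbP, hyb⟩ := exists_perp_polar_ne hQ W hyW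
    obtain ⟨v, hvP, hxv, hyv⟩ := exists_both (P := Perp Q W) (fun a b ha hb => ha.add hb)
      haP hbP hxa hyb
    set z := v - (Q v * (polar Q x v)⁻¹) • x with hz
    have hzP : Perp Q W z := hvP.sub (hxP.smul _)
    have hzQ : Q z = 0 := by
      have e : z = v + (-(Q v * (polar Q x v)⁻¹)) • x := by rw [hz]; module
      rw [e, Q_add, QuadraticMap.map_smul, hx, polar_smul_right, polar_comm Q v x]
      simp only [smul_eq_mul, mul_zero, add_zero]
      field_simp
      ring
    have hxz : polar Q x z ≠ 0 := by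
      rw [hz, polar_sub_right, polar_smul_right, polar_self_of_sing hx, smul_zero, sub_zero]
      exact hxv
    have hzy : polar Q z y ≠ 0 := by
      rw [hz, polar_sub_left, polar_smul_left, hne, smul_zero, sub_zero, polar_comm]
      exact hyv
    obtain ⟨g1, hg1, h1, c1, hc1, e1⟩ := key x z hx hzQ hxP hzP hxz
    obtain ⟨g2, hg2, h2, c2, hc2, e2⟩ := key z y hzQ hy hzP hyP hzy
    refine ⟨g2 * g1, (E Q).mul_mem hg2 hg1, ?_, c1 * c2, mul_ne_zero hc1 hc2, ?_⟩
    · intro w hw
      show g2 (g1 w) = w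
      rw [h1 w hw, h2 w hw]
    · show g2 (g1 x) = _
      rw [e1, map_smul, e2, smul_smul]
  · exact key x y hx hy hxP hyP hne

/-! ### Span of the singular vectors of `W^⊥` outside `W` -/

/-- If `W^⊥ \ W` contains a singular vector then its singular vectors span `W^⊥`. -/
theorem span_in [FiniteDimensional F V] (hQ : Nondeg Q) {W : Submodule F V}
    (hW : ∀ w ∈ W, Q w = 0) {z : V} (hz : Q z = 0) (hzP : Perp Q W z) (hzW : z ∉ W)
    (U : Submodule F V) (hU : ∀ v, Q v = 0 → Perp Q W v → v ∉ W → v ∈ U) :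
    ∀ v, Perp Q W v → v ∈ U := by
  have hzU : z ∈ U := hU z hz hzP hzW
  have hWU : ∀ w ∈ W, w ∈ U := by
    intro w hw
    have h1 : w + z ∈ U := by
      apply hU
      · rw [Q_add, hW w hw, hz, hzP w hw]; simp
      · exact (perp_of_mem hW hw).add hzP
      · intro h
        apply hzW
        have := W.sub_mem h hw
        rwa [add_sub_cancel_left] at this
    have := U.sub_mem h1 hzU
    rwa [add_sub_cancel_right] at this
  obtain ⟨a, haP, hza⟩ := exists_perp_polar_ne hQ W hzW
  set b := (polar Q z a)⁻¹ • a with hb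
  have hbP : Perp Q W b := haP.smul _
  have hzb : polar Q z b = 1 := by
    rw [hb, polar_smul_right, smul_eq_mul, inv_mul_cancel₀ hza]
  clear_value b
  set z' := b - Q b • z with hz'
  have hz'P : Perp Q W z' := hbP.sub (hzP.smul _)
  have hyp : Hyp Q z z' := by
    refine ⟨hz, ?_, ?_⟩
    · have e : z' = b + (-(Q b)) • z := by rw [hz']; module
      rw [e, Q_add, QuadraticMap.map_smul, hz, polar_smul_right, polar_comm Q b z, hzb]
      simp
    · rw [hz', polar_sub_right, polar_smul_right, polar_self_of_sing hz, smul_zero, sub_zero, hzb]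
  have hz'U : z' ∈ U := by
    apply hU z' hyp.right hz'P
    intro h
    have h1 := hzP z' h
    rw [hyp.pair'] at h1
    exact one_ne_zero h1
  intro v hv
  set v' := LieClassical.OrthTrans.proj Q z z' v with hv'
  have e : v = v' + polar Q z' v • z + polar Q z v • z' := by
    rw [hv', LieClassical.OrthTrans.proj]; module
  have hv'P : Perp Q W v' := (hv.sub (hzP.smul _)).sub (hz'P.smul _)
  have hzv' : polar Q z v' = 0 := polar_proj_left hyp v
  have hz'v' : polar Q z' v' = 0 := polar_proj_right hyp v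
  have ht : v' + (z + (-(Q v')) • z') ∈ U := by
    apply hU
    · rw [Q_add, Q_add, QuadraticMap.map_smul, hz, hyp.right, polar_add_right, polar_smul_right,
        polar_smul_right, hyp.pair, polar_comm Q v' z, polar_comm Q v' z', hzv', hz'v']
      simp
    · exact hv'P.add (hzP.add (hz'P.smul _))
    · intro h
      have h1 := hz'P _ h
      rw [polar_comm, polar_add_right, polar_add_right, polar_smul_right, hz'v', hyp.pair',
        hyp.polar_right] at h1
      simp at h1
  have hv'U : v' ∈ U := by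
    have h1 := U.sub_mem ht (U.add_mem hzU (U.smul_mem (-(Q v')) hz'U))
    rwa [add_sub_cancel_right] at h1
  rw [e]
  exact U.add_mem (U.add_mem hv'U (U.smul_mem _ hzU)) (U.smul_mem _ hz'U)

/-! ### The main theorem -/

/-- All Siegel transformations with first vector `x` are in `H`. -/
def Sat (Q : QuadraticForm F V) (H : Subgroup (V ≃ₗ[F] V)) (x : V) : Prop :=
  Q x = 0 ∧ ∀ (v : V) (hx : Q x = 0) (hv : polar Q x v = 0), siegel Q x v hx hv ∈ H

theorem Sat.map {H : Subgroup (V ≃ₗ[F] V)} (hH : H ≤ E Q) {x : V} (hx : Sat Q H x)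
    {h : V ≃ₗ[F] V} (hh : h ∈ H) : Sat Q H (h x) := by
  have hO : h ∈ O Q := E_le_O (hH hh)
  refine ⟨by rw [mem_O.1 hO]; exact hx.1, fun v hx' hv => ?_⟩
  obtain ⟨v, rfl⟩ := h.surjective v
  have hv' : polar Q x v = 0 := by rw [← polar_map hO]; exact hv
  rw [← siegel_conj hO hx.1 hv' hx' hv]
  exact H.mul_mem (H.mul_mem hh (hx.2 v hx.1 hv')) (H.inv_mem hh)

theorem Sat.smul {H : Subgroup (V ≃ₗ[F] V)} {x : V} (hx : Sat Q H x) {c : F} :
    Sat Q H (c • x) := by
  have hcx : Q (c • x) = 0 := by rw [QuadraticMap.map_smul, hx.1, smul_zero]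
  refine ⟨hcx, fun v hx' hv => ?_⟩
  by_cases hc : c = 0
  · have : siegel Q (c • x) v hx' hv = 1 := by
      ext t
      rw [siegel_apply, hc]
      simp
    rw [this]
    exact H.one_mem
  · have hv' : polar Q x (c • v) = 0 := by
      rw [polar_smul_left] at hv
      rw [polar_smul_right]; exact hv
    have : siegel Q (c • x) v hx' hv = siegel Q x (c • v) hx.1 hv' := by
      ext t
      rw [siegel_apply, siegel_apply, QuadraticMap.map_smul, polar_smul_left, polar_smul_left]
      simp only [smul_eq_mul]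
      module
    rw [this]
    exact hx.2 _ _ _

theorem Sat.of_smul {H : Subgroup (V ≃ₗ[F] V)} {x : V} {c : F} (hc : c ≠ 0)
    (hx : Sat Q H (c • x)) : Sat Q H x := by
  have := hx.smul (c := c⁻¹)
  rwa [smul_smul, inv_mul_cancel₀ hc, one_smul] at this

/-- **Stabilisers of totally singular subspaces are maximal.**  -/
theorem stabilizer_maximal (hG : Good Q) {W : Submodule F V} (hW : ∀ w ∈ W, Q w = 0)
    (hbig : (∃ x, Q x = 0 ∧ Perp Q W x ∧ x ∉ W) →
      2 * Module.finrank F W + 3 ≤ Module.finrank F V)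
    (H : Subgroup (V ≃ₗ[F] V)) (hH : H ≤ E Q) (hPH : ∀ g ∈ E Q, (∀ w ∈ W, g w ∈ W) → g ∈ H) :
    (∀ h ∈ H, ∀ w ∈ W, h w ∈ W) ∨ H = E Q := by
  have : FiniteDimensional F V :=
    Module.finite_of_finrank_pos (by have := hG.dim; omega)
  by_contra hcon
  push Not at hcon
  obtain ⟨⟨h, hh, w0, hw0, hhw⟩, hne⟩ := hcon
  apply hne
  have hO : h ∈ O Q := E_le_O (hH hh)
  -- it is enough that every singular vector is saturated
  suffices hall : ∀ x, Q x = 0 → Sat Q H x by
    apply le_antisymm hH
    rw [E, Subgroup.closure_le]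
    rintro _ ⟨u, w, hu, hw, rfl⟩
    exact (hall u hu).2 w hu hw
  -- vectors of `W` are saturated
  have hWS : ∀ x ∈ W, Sat Q H x := by
    intro x hx
    refine ⟨hW x hx, fun v hx' hv => hPH _ (siegel_mem_E _ _) fun w hw => ?_⟩
    rw [siegel_apply, perp_of_mem hW hw x hx]
    simp only [zero_smul, add_zero, mul_zero, sub_zero]
    exact W.sub_mem hw (W.smul_mem _ hx)
  -- saturation spreads
  have hin : ∀ x y, Sat Q H x → Perp Q W x → x ∉ W → Q y = 0 → Perp Q W y → y ∉ W →
      Sat Q H y := by
    intro x y hx hxP hxW hy hyP hyW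
    obtain ⟨g, hg, hgW, c, hc, e⟩ := trans_in hG.nondeg (hbig ⟨x, hx.1, hxP, hxW⟩) hx.1 hy hxP hyP
      hxW hyW
    have hgH : g ∈ H := hPH g hg fun w hw => by rw [hgW w hw]; exact hw
    have := hx.map hH hgH
    rw [e] at this
    exact this.of_smul hc
  have hout : ∀ x y, Sat Q H x → ¬ Perp Q W x → Q y = 0 → ¬ Perp Q W y → Sat Q H y := by
    intro x y hx hxP hy hyP
    obtain ⟨g, hg, hgW, c, hc, e⟩ := trans_out hW hx.1 hy hxP hyP
    have := hx.map hH (hPH g hg hgW)
    rw [e] at this
    exact this.of_smul hc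
  by_contra hnot
  push Not at hnot
  obtain ⟨y0, hy0, hy0S⟩ := hnot
  have hx0 : Sat Q H (h w0) := (hWS w0 hw0).map hH hh
  -- `h⁻¹` maps singular vectors of `W^⊥ \ W` to vectors orthogonal to `W`
  have hinv : ∀ {v : V}, Sat Q H v → Sat Q H (h.symm v) := by
    intro v hv
    exact hv.map hH (H.inv_mem hh)
  have hinv' : ∀ {v : V}, Sat Q H (h.symm v) → Sat Q H v := by
    intro v hv
    have := hv.map hH hh
    rwa [LinearEquiv.apply_symm_apply] at this
  have hQsymm : ∀ v, Q (h.symm v) = Q v := by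
    intro v
    have := mem_O.1 hO (h.symm v)
    rw [LinearEquiv.apply_symm_apply] at this
    exact this.symm
  have hmain : ∀ v, Q v = 0 → Perp Q W v → v ∉ W → polar Q v (h w0) = 0 := by
    intro v hv hvP hvW
    have hperp : Perp Q W (h.symm v) := by
      by_cases hx0P : Perp Q W (h w0)
      · -- then `W^⊥ \ W` is saturated, so the rest is not
        have hvS : Sat Q H v := hin _ _ hx0 hx0P hhw hv hvP hvW
        by_contra hnp
        have h1 := hinv hvS
        -- all singular vectors are saturated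
        apply hy0S
        by_cases hy0P : Perp Q W y0
        · by_cases hy0W : y0 ∈ W
          · exact hWS y0 hy0W
          · exact hin _ _ hx0 hx0P hhw hy0 hy0P hy0W
        · exact hout _ _ h1 hnp hy0 hy0P
      · -- then the outside is saturated
        by_contra hnp
        have h1 : Sat Q H (h.symm v) := hout _ _ hx0 hx0P (by rw [hQsymm]; exact hv) hnp
        have h2 := hinv' h1
        apply hy0S
        by_cases hy0P : Perp Q W y0
        · by_cases hy0W : y0 ∈ W
          · exact hWS y0 hy0W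
          · exact hin _ _ h2 hvP hvW hy0 hy0P hy0W
        · exact hout _ _ hx0 hx0P hy0 hy0P
    have h1 := hperp w0 hw0
    rw [← polar_map hO, LinearEquiv.apply_symm_apply] at h1
    rw [polar_comm]; exact h1
  -- is there a singular vector in `W^⊥ \ W`?
  by_cases hex : ∃ x, Q x = 0 ∧ Perp Q W x ∧ x ∉ W
  · obtain ⟨z, hz, hzP, hzW⟩ := hex
    apply hhw
    apply mem_of_perp_perp hG.nondeg
    have := span_in hG.nondeg hW hz hzP hzW (LinearMap.ker ((polarBilin Q).flip (h w0))) (by
      intro v hv hvP hvW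
      rw [LinearMap.mem_ker, LinearMap.flip_apply, polarBilin_apply_apply]
      exact hmain v hv hvP hvW)
    intro v hv
    have h1 := this v hv
    rwa [LinearMap.mem_ker, LinearMap.flip_apply, polarBilin_apply_apply] at h1
  · push Not at hex
    apply hy0S
    by_cases hy0P : Perp Q W y0
    · exact hWS y0 (hex y0 hy0 hy0P)
    · by_cases hx0P : Perp Q W (h w0)
      · exact absurd (hex _ hx0.1 hx0P) hhw
      · exact hout _ _ hx0 hx0P hy0 hy0P

/-- Some element of `E Q` moves `W ≠ 0`. -/
theorem exists_moving (hG : Good Q) {W : Submodule F V} (hW : ∀ w ∈ W, Q w = 0) (hW0 : W ≠ ⊥) :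
    ∃ g ∈ E Q, ∃ w ∈ W, g w ∉ W := by
  obtain ⟨w, hw, hw0⟩ := (Submodule.ne_bot_iff W).1 hW0
  obtain ⟨y, hy⟩ := exists_hyp hG.nondeg (hW w hw) hw0
  obtain ⟨g, hg, e⟩ := hG.trans_sing (hW w hw) hy.right hw0 hy.right_ne
  refine ⟨g, hg, w, hw, ?_⟩
  rw [e]
  intro h
  have h1 := perp_of_mem hW h w hw
  rw [hy.pair] at h1
  exact one_ne_zero h1

end Cfsg.Agent.H884.SingMax
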