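import Mathlib
import Cfsg.Agent.H887.SiegelMethod
import Cfsg.Agent.H884.SingMax
import Cfsg.Agent.H884.SingMaxPlus
import Cfsg.Agent.LieClassical.OrthFinite

/-!
# Overgroups of unitary groups in orthogonal groups (helper884)

`V` a quadratic space over a finite field `F`, `j` a linear map generating a field `K = F[j]` of degree two whose
elements are adjoint-closed and rescale `Q` (`Herm Q j a b`).  If a subgroup `H` of `O Q` contains the unitary
transvections `T Q z (c j z)` (`z` singular) then `H` normalises `K` or `E Q ≤ H`.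
-/

set_option autoImplicit false
set_option linter.unusedSectionVars false

namespace Cfsg.Agent.H884.HermMax

open QuadraticMap Cfsg.Agent.LieClassical.OrthCore Cfsg.Agent.LieClassical.OrthTrans
  Cfsg.Agent.LieClassical.OrthFinite Cfsg.Agent.ClassicalGeometry.OrthAutBasic
  Cfsg.Agent.H887.SiegelMethod Cfsg.Agent.H884.SingMax

variable {F V : Type*} [Field F] [AddCommGroup V] [Module F V] {Q : QuadraticForm F V}

/-- `j` generates a quadratic extension field, acting by similarities of `Q`. -/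
structure Herm (Q : QuadraticForm F V) (j : V →ₗ[F] V) (a b : F) : Prop where
  sq : ∀ x, j (j x) = a • j x - b • x
  adj : ∀ x y, polar Q (j x) y = polar Q x (a • y - j y)
  norm : ∀ x, Q (j x) = b * Q x
  pol : ∀ x, polar Q x (j x) = a * Q x
  irr : ∀ s t : F, s * s + a * (s * t) + b * (t * t) = 0 → s = 0 ∧ t = 0
  disc : a * a - 4 * b ≠ 0

/-- The `K`-line of `x`. -/
def KL (j : V →ₗ[F] V) (x : V) : Submodule F V := Submodule.span F {x, j x}

theorem mem_KL {j : V →ₗ[F] V} {x y : V} : y ∈ KL j x ↔ ∃ s t : F, s • x + t • j x = y := by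
  rw [KL, Submodule.mem_span_pair]

theorem self_mem_KL (j : V →ₗ[F] V) (x : V) : x ∈ KL j x :=
  mem_KL.2 ⟨1, 0, by rw [one_smul, zero_smul, add_zero]⟩

theorem j_mem_KL (j : V →ₗ[F] V) (x : V) : j x ∈ KL j x :=
  mem_KL.2 ⟨0, 1, by rw [one_smul, zero_smul, zero_add]⟩

theorem finrank_KL_le (j : V →ₗ[F] V) (x : V) : Module.finrank F (KL j x) ≤ 2 := by
  classical
  have h := finrank_span_finset_le_card (R := F) ({x, j x} : Finset V)
  rw [Finset.coe_pair] at h
  exact h.trans Finset.card_le_two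

section

variable {j : V →ₗ[F] V} {a b : F} (hj : Herm Q j a b)

include hj

theorem Herm.j_mem {x y : V} (hy : y ∈ KL j x) : j y ∈ KL j x := by
  obtain ⟨s, t, rfl⟩ := mem_KL.1 hy
  rw [map_add, map_smul, map_smul, hj.sq]
  refine mem_KL.2 ⟨-(t * b), s + t * a, ?_⟩
  module

theorem Herm.KL_le {x y : V} (hy : y ∈ KL j x) : KL j y ≤ KL j x := by
  intro z hz
  obtain ⟨s, t, rfl⟩ := mem_KL.1 hz
  exact (KL j x).add_mem ((KL j x).smul_mem _ hy) ((KL j x).smul_mem _ (hj.j_mem hy))

/-- The `K`-lines partition the nonzero vectors. -/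
theorem Herm.KL_symm {x y : V} (hy : y ∈ KL j x) (hy0 : y ≠ 0) : x ∈ KL j y := by
  obtain ⟨s, t, rfl⟩ := mem_KL.1 hy
  have hN : s * s + a * (s * t) + b * (t * t) ≠ 0 := by
    intro h
    obtain ⟨rfl, rfl⟩ := hj.irr s t h
    apply hy0
    simp
  set N := s * s + a * (s * t) + b * (t * t) with hNdef
  refine mem_KL.2 ⟨N⁻¹ * (s + a * t), - (N⁻¹ * t), ?_⟩
  rw [map_add, map_smul, map_smul, hj.sq]
  have e : (N⁻¹ * (s + a * t)) • (s • x + t • j x) + -(N⁻¹ * t) • (s • j x + t • (a • j x - b • x)) =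
      (N⁻¹ * N) • x := by
    rw [hNdef]
    module
  rw [e, inv_mul_cancel₀ hN, one_smul]

/-- `x`, `j x` are independent. -/
theorem Herm.indep {x : V} (hx : x ≠ 0) {s t : F} (h : s • x + t • j x = 0) : s = 0 ∧ t = 0 := by
  by_contra hne
  have hN : s * s + a * (s * t) + b * (t * t) ≠ 0 := fun h' => hne (hj.irr s t h')
  apply hx
  set N := s * s + a * (s * t) + b * (t * t) with hNdef
  have e : (s + a * t) • (s • x + t • j x) + (-t) • j (s • x + t • j x) = N • x := by
    rw [map_add, map_smul, map_smul, hj.sq, hNdef]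
    module
  rw [h, map_zero, smul_zero, smul_zero, add_zero] at e
  exact (smul_eq_zero.1 e.symm).resolve_left hN

theorem Herm.Q_KL {x y : V} (hx : Q x = 0) (hy : y ∈ KL j x) : Q y = 0 := by
  obtain ⟨s, t, rfl⟩ := mem_KL.1 hy
  rw [Q_add, QuadraticMap.map_smul, QuadraticMap.map_smul, hj.norm, polar_smul_left,
    polar_smul_right, hj.pol, hx]
  simp

omit hj in
/-- Orthogonality to a `K`-line. -/
theorem perp_KL {x v : V} : Perp Q (KL j x) v ↔ polar Q x v = 0 ∧ polar Q (j x) v = 0 := by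
  constructor
  · intro h
    exact ⟨h _ (self_mem_KL j x), h _ (j_mem_KL j x)⟩
  · rintro ⟨h1, h2⟩ w hw
    obtain ⟨s, t, rfl⟩ := mem_KL.1 hw
    rw [polar_add_left, polar_smul_left, polar_smul_left, h1, h2]
    simp

/-- Orthogonality of `K`-lines is symmetric. -/
theorem Herm.perp_symm {x v : V} (h : Perp Q (KL j x) v) : Perp Q (KL j v) x := by
  obtain ⟨h1, h2⟩ := perp_KL.1 h
  refine perp_KL.2 ⟨by rw [polar_comm]; exact h1, ?_⟩
  rw [hj.adj, polar_sub_right, polar_smul_right, polar_comm Q v x, h1, polar_comm Q v (j x), h2]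
  simp

/-- The whole `K`-line of a vector orthogonal to a `K`-line is orthogonal to it. -/
theorem Herm.perp_of_mem {x v y : V} (h : Perp Q (KL j x) v) (hy : y ∈ KL j v) :
    Perp Q (KL j x) y := by
  have h' := hj.perp_symm h
  apply hj.perp_symm
  intro w hw
  exact h' w (hj.KL_le hy hw)

theorem Herm.perp_mono {x x' v : V} (h : Perp Q (KL j x) v) (hx' : x' ∈ KL j x) :
    Perp Q (KL j x') v := fun w hw => h w (hj.KL_le hx' hw)

/-! ### The vectors `D z v = (j - j') h(v, z) z` -/

omit hj in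
/-- The displacement of the unitary transvection with centre `z`. -/
def D (Q : QuadraticForm F V) (j : V →ₗ[F] V) (z v : V) : V := polar Q z v • j z - polar Q (j z) v • z

omit hj in
theorem D_mem (z v : V) : D Q j z v ∈ KL j z := by
  refine mem_KL.2 ⟨- polar Q (j z) v, polar Q z v, ?_⟩
  rw [D]; module

/-- A unitary transvection commutes with `j`. -/
theorem Herm.D_j (z v : V) : D Q j z (j v) = j (D Q j z v) := by
  have h1 : polar Q z (j v) = a * polar Q z v - polar Q (j z) v := by
    rw [hj.adj z v, polar_sub_right, polar_smul_right, smul_eq_mul]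
    ring
  have h2 : polar Q (j z) (j v) = b * polar Q z v := by
    rw [hj.adj z (j v), hj.sq, ← sub_add, sub_self, zero_add, polar_smul_right, smul_eq_mul]
  rw [D, D, h1, h2, map_sub, map_smul, map_smul, hj.sq]
  module

theorem Herm.polar_j_self {z : V} (hz : Q z = 0) : polar Q z (j z) = 0 := by
  rw [hj.pol, hz, mul_zero]

theorem Herm.T_apply_j {z : V} (hz : Q z = 0) (v : V) : T Q z (j z) v = v + D Q j z v := by
  rw [T_apply_root hz (by rw [hj.norm, hz, mul_zero]) (hj.polar_j_self hz), D]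
  abel

end

/-- A subgroup containing the unitary transvections. -/
structure Over (Q : QuadraticForm F V) (j : V →ₗ[F] V) (H : Subgroup (V ≃ₗ[F] V)) : Prop where
  le : H ≤ O Q
  mem : ∀ z, Q z = 0 → ∀ c : F, T Q z (c • j z) ∈ H

section

variable {j : V →ₗ[F] V} {a b : F} {H : Subgroup (V ≃ₗ[F] V)}

/-- Lemma A. -/
theorem D_mem_Ts (hj : Herm Q j a b) (hH : Over Q j H) {y z w : V} (hz : Q z = 0)
    (hzy : Perp Q (KL j z) y) (hw : w ∈ Ts Q H y) : D Q j z w ∈ Ts Q H y := by
  have h1 : T Q z (j z) ∈ H := by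
    have := hH.mem z hz 1
    rwa [one_smul] at this
  have hyz := perp_KL.1 hzy
  refine root_mem_Ts hH.le hz (by rw [hj.norm, hz, mul_zero]) (hj.polar_j_self hz) h1 ?_ hw
  rw [T_apply_root hz (by rw [hj.norm, hz, mul_zero]) (hj.polar_j_self hz), hyz.1, hyz.2]
  simp

/-- Existence of singular vectors in `A` outside `B`. -/
theorem exists_sing_diff [Finite F] [FiniteDimensional F V] {A B : Submodule F V}
    (h : Module.finrank F B + 3 ≤ Module.finrank F A) : ∃ v ∈ A, Q v = 0 ∧ v ∉ B := by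
  obtain ⟨C, hC⟩ := Submodule.exists_isCompl (B.submoduleOf A)
  have h1 := Submodule.finrank_add_eq_of_isCompl hC
  have h2 : Module.finrank F (B.submoduleOf A) ≤ Module.finrank F B := by
    have e : Module.finrank F ↥((B.submoduleOf A).map A.subtype) =
        Module.finrank F (B.submoduleOf A) :=
      (Submodule.equivMapOfInjective A.subtype Subtype.val_injective _).finrank_eq.symm
    rw [← e]
    apply Submodule.finrank_mono
    rintro _ ⟨x, hx, rfl⟩
    exact hx
  have h3 : Module.finrank F ↥(C.map A.subtype) = Module.finrank F C :=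
    (Submodule.equivMapOfInjective A.subtype Subtype.val_injective _).finrank_eq.symm
  obtain ⟨v, hv, hv0, hQv⟩ := exists_sing_mem (Q := Q) (C.map A.subtype) (by omega)
  obtain ⟨x, hx, rfl⟩ := hv
  refine ⟨_, x.2, hQv, fun hB => hv0 ?_⟩
  have : x ∈ B.submoduleOf A ⊓ C := ⟨hB, hx⟩
  rw [hC.inf_eq_bot, Submodule.mem_bot] at this
  rw [this]; rfl

theorem finrank_perp_ge [FiniteDimensional F V] (hQ : Nondeg Q) (W : Submodule F V) {n : ℕ}
    (h : Module.finrank F W ≤ n) :
    Module.finrank F V ≤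
      Module.finrank F (LinearMap.BilinForm.orthogonal (polarBilin Q) W) + n := by
  have := SingMaxPlus.finrank_orthogonal hQ W
  omega

theorem finrank_sup_le' [FiniteDimensional F V] (A B : Submodule F V) {m n : ℕ}
    (h1 : Module.finrank F A ≤ m) (h2 : Module.finrank F B ≤ n) :
    Module.finrank F ↥(A ⊔ B) ≤ m + n :=
  (Submodule.finrank_add_le_finrank_add_finrank A B).trans (by omega)

/-- A singular vector orthogonal to `W` and outside `B`. -/
theorem exists_sing_perp_diff [Finite F] [FiniteDimensional F V] (hQ : Nondeg Q)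
    (W B : Submodule F V) {m n : ℕ} (h1 : Module.finrank F W ≤ m) (h2 : Module.finrank F B ≤ n)
    (h : m + n + 3 ≤ Module.finrank F V) : ∃ v, Perp Q W v ∧ Q v = 0 ∧ v ∉ B := by
  have h3 := finrank_perp_ge hQ W h1
  obtain ⟨v, hv, hQv, hvB⟩ := exists_sing_diff (Q := Q)
    (A := LinearMap.BilinForm.orthogonal (polarBilin Q) W) (B := B) (by omega)
  exact ⟨v, mem_orthogonal_iff.1 hv, hQv, hvB⟩

theorem _root_.Cfsg.Agent.H884.SingMax.Perp.sup {A B : Submodule F V} {v : V} (hA : Perp Q A v) (hB : Perp Q B v) :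
    Perp Q (A ⊔ B) v := by
  intro w hw
  obtain ⟨x, hx, y, hy, rfl⟩ := Submodule.mem_sup.1 hw
  rw [polar_add_left, hA x hx, hB y hy, add_zero]

theorem _root_.Cfsg.Agent.H884.SingMax.Perp.of_sup_left {A B : Submodule F V} {v : V} (h : Perp Q (A ⊔ B) v) : Perp Q A v :=
  fun w hw => h w (Submodule.mem_sup_left hw)

theorem _root_.Cfsg.Agent.H884.SingMax.Perp.of_sup_right {A B : Submodule F V} {v : V} (h : Perp Q (A ⊔ B) v) : Perp Q B v :=
  fun w hw => h w (Submodule.mem_sup_right hw)

/-- The sum of two orthogonal singular `K`-lines is totally singular. -/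
theorem Herm.sup_sing (hj : Herm Q j a b) {y u : V} (hy : Q y = 0) (hu : Q u = 0)
    (hyu : Perp Q (KL j y) u) : ∀ w ∈ KL j y ⊔ KL j u, Q w = 0 := by
  intro w hw
  obtain ⟨x, hx, z, hz, rfl⟩ := Submodule.mem_sup.1 hw
  rw [Q_add, hj.Q_KL hy hx, hj.Q_KL hu hz, hj.perp_of_mem hyu hz x hx]
  simp

/-- The spread step: if `w ∈ Ts y`, `u` is a singular vector orthogonal to the `K`-lines of `y` and `w`, and
`w ∉ K y + K u`, then the `K`-line of `u` is in `Ts y`. -/
theorem spread [Finite F] [FiniteDimensional F V] (hj : Herm Q j a b) (hH : Over Q j H)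
    (hQ : Nondeg Q) (hd : 11 ≤ Module.finrank F V) {y w u : V} (hy : Q y = 0) (hw : w ∈ Ts Q H y)
    (hu : Q u = 0) (hyu : Perp Q (KL j y) u) (huw : Perp Q (KL j u) w)
    (hn : w ∉ KL j y ⊔ KL j u) : KL j u ≤ Ts Q H y := by
  -- a singular `s` orthogonal to `K y + K u` with `f(s, w) ≠ 0`
  obtain ⟨s, hs, hsP, hsw⟩ : ∃ s, Q s = 0 ∧ Perp Q (KL j y ⊔ KL j u) s ∧ polar Q s w ≠ 0 := by
    by_contra hcon
    push Not at hcon
    apply hn
    apply mem_of_perp_perp hQ
    obtain ⟨z, hzP, hz, hzn⟩ := exists_sing_perp_diff hQ (KL j y ⊔ KL j u) (KL j y ⊔ KL j u)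
      (finrank_sup_le' _ _ (finrank_KL_le j y) (finrank_KL_le j u))
      (finrank_sup_le' _ _ (finrank_KL_le j y) (finrank_KL_le j u)) (by omega)
    have hU := span_in hQ (hj.sup_sing hy hu hyu) hz hzP hzn
      (LinearMap.ker ((polarBilin Q).flip w)) (fun v hv hvP _ => by
        rw [LinearMap.mem_ker, LinearMap.flip_apply, polarBilin_apply_apply]
        exact hcon v hv hvP)
    intro v hv
    have := hU v hv
    rwa [LinearMap.mem_ker, LinearMap.flip_apply, polarBilin_apply_apply] at this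
  have hsy : Perp Q (KL j y) s := hsP.of_sup_left
  have hsu : Perp Q (KL j u) s := hsP.of_sup_right
  -- the polarised displacement
  have key : ∀ s', s' ∈ KL j s → polar Q s' w • j u - polar Q (j s') w • u ∈ Ts Q H y := by
    intro s' hs'
    have hs'Q : Q s' = 0 := hj.Q_KL hs hs'
    have hs'y : Perp Q (KL j y) s' := hj.perp_of_mem hsy hs'
    have hs'u : Perp Q (KL j u) s' := hj.perp_of_mem hsu hs'
    have h1 : polar Q s' u = 0 := by rw [polar_comm]; exact hs'u u (self_mem_KL j u)
    have hsum : Q (s' + u) = 0 := by rw [Q_add, hs'Q, hu, h1]; simp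
    have hsumy : Perp Q (KL j y) (s' + u) := hs'y.add hyu
    have e1 := D_mem_Ts hj hH hsum (hj.perp_symm hsumy) hw
    have e2 := D_mem_Ts hj hH hs'Q (hj.perp_symm hs'y) hw
    have e3 := (Ts Q H y).sub_mem e1 e2
    have h2 : polar Q u w = 0 := huw u (self_mem_KL j u)
    have h3 : polar Q (j u) w = 0 := huw _ (j_mem_KL j u)
    have e4 : D Q j (s' + u) w - D Q j s' w = polar Q s' w • j u - polar Q (j s') w • u := by
      rw [D, D, map_add, polar_add_left, polar_add_left, h2, h3]
      module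
    rwa [e4] at e3
  have k1 := key s (self_mem_KL j s)
  have k2 := key (j s) (j_mem_KL j s)
  set p := polar Q s w with hp
  set r := polar Q (j s) w with hr
  have hr2 : polar Q (j (j s)) w = a * r - b * p := by
    rw [hj.sq, polar_sub_left, polar_smul_left, polar_smul_left, ← hp, ← hr]
    rfl
  rw [hr2] at k2
  have hN : r * r - a * (p * r) + b * (p * p) ≠ 0 := by
    intro h
    have h' : r * r + a * (r * (-p)) + b * ((-p) * (-p)) = 0 := by linear_combination h
    exact hsw (neg_eq_zero.1 (hj.irr r (-p) h').2)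
  set N := r * r - a * (p * r) + b * (p * p) with hNdef
  have m1 : u ∈ Ts Q H y := by
    have h1 := (Ts Q H y).sub_mem ((Ts Q H y).smul_mem r k1) ((Ts Q H y).smul_mem p k2)
    have e : r • (p • j u - r • u) - p • (r • j u - (a * r - b * p) • u) = (-N) • u := by
      rw [hNdef]; module
    rw [e] at h1
    have h2 := (Ts Q H y).smul_mem (-N)⁻¹ h1
    rwa [smul_smul, inv_mul_cancel₀ (neg_ne_zero.2 hN), one_smul] at h2
  have m2 : j u ∈ Ts Q H y := by
    have h1 := (Ts Q H y).add_mem k1 ((Ts Q H y).smul_mem r m1)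
    rw [sub_add_cancel] at h1
    have h2 := (Ts Q H y).smul_mem p⁻¹ h1
    rwa [smul_smul, inv_mul_cancel₀ hsw, one_smul] at h2
  intro z hz
  obtain ⟨c, d, rfl⟩ := mem_KL.1 hz
  exact (Ts Q H y).add_mem ((Ts Q H y).smul_mem _ m1) ((Ts Q H y).smul_mem _ m2)

/-- Exchange: if `w ∈ K y + K u` and `w ∉ K y` then `u ∈ K y + K w`. -/
theorem Herm.exchange (hj : Herm Q j a b) {y u w : V} (hw : w ∈ KL j y ⊔ KL j u)
    (hwy : w ∉ KL j y) : u ∈ KL j y ⊔ KL j w := by
  obtain ⟨c, hc, d, hd, rfl⟩ := Submodule.mem_sup.1 hw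
  have hd0 : d ≠ 0 := by
    rintro rfl
    apply hwy
    rwa [add_zero]
  have h1 := hj.KL_symm hd hd0
  obtain ⟨s, t, rfl⟩ := mem_KL.1 h1
  have e : s • d + t • j d = (-(s • c + t • j c)) + (s • (c + d) + t • j (c + d)) := by
    rw [map_add]; module
  rw [e]
  refine Submodule.add_mem_sup ?_ ?_
  · exact (KL j y).neg_mem ((KL j y).add_mem ((KL j y).smul_mem _ hc)
      ((KL j y).smul_mem _ (hj.j_mem hc)))
  · exact mem_KL.2 ⟨s, t, rfl⟩

/-- `Good'`: `Ts y` contains the orthogonal space of the `K`-line of `y`. -/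
def Good' (Q : QuadraticForm F V) (j : V →ₗ[F] V) (H : Subgroup (V ≃ₗ[F] V)) (y : V) : Prop :=
  ∀ v, Perp Q (KL j y) v → v ∈ Ts Q H y

/-- Lemma B. -/
theorem good'_of_not_le [Finite F] [FiniteDimensional F V] (hj : Herm Q j a b) (hH : Over Q j H)
    (hQ : Nondeg Q) (hd : 14 ≤ Module.finrank F V) {y w : V} (hy : Q y = 0)
    (hw : w ∈ Ts Q H y) (hwy : w ∉ KL j y) : Good' Q j H y := by
  have hK := finrank_KL_le j
  have hyts : ∀ z ∈ KL j y, Q z = 0 := fun z hz => hj.Q_KL hy hz
  -- a good `w1`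
  obtain ⟨w1, hw1P, hw1, hw1n⟩ := exists_sing_perp_diff hQ (KL j y ⊔ KL j w) (KL j y ⊔ KL j w)
    (finrank_sup_le' _ _ (hK y) (hK w)) (finrank_sup_le' _ _ (hK y) (hK w)) (by omega)
  have hyw1 : Perp Q (KL j y) w1 := hw1P.of_sup_left
  have hww1 : Perp Q (KL j w) w1 := hw1P.of_sup_right
  have hw1y : w1 ∉ KL j y := fun h => hw1n (Submodule.mem_sup_left h)
  have s1 : KL j w1 ≤ Ts Q H y := by
    refine spread hj hH hQ (by omega) hy hw hw1 hyw1 (hj.perp_symm hww1) ?_
    intro h
    exact hw1n (hj.exchange h hwy)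
  have hw1T : w1 ∈ Ts Q H y := s1 (self_mem_KL j w1)
  -- every singular `u` orthogonal to `K y`, outside `K y`
  have hall : ∀ u, Q u = 0 → Perp Q (KL j y) u → u ∉ KL j y → u ∈ Ts Q H y := by
    intro u hu hyu huy
    by_cases hp : Perp Q (KL j u) w1
    · by_cases hm : w1 ∈ KL j y ⊔ KL j u
      · obtain ⟨u3, hu3P, hu3, hu3n⟩ := exists_sing_perp_diff hQ (KL j y ⊔ KL j u)
          (KL j y ⊔ KL j u) (finrank_sup_le' _ _ (hK y) (hK u))
          (finrank_sup_le' _ _ (hK y) (hK u)) (by omega)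
        have hyu3 : Perp Q (KL j y) u3 := hu3P.of_sup_left
        have huu3 : Perp Q (KL j u) u3 := hu3P.of_sup_right
        have hu3y : u3 ∉ KL j y := fun h => hu3n (Submodule.mem_sup_left h)
        have hw1u3 : Perp Q (KL j u3) w1 := by
          apply hj.perp_symm
          have h1 : w1 ∈ KL j y ⊔ KL j u := hm
          intro z hz
          have hz' : z ∈ KL j y ⊔ KL j u := by
            obtain ⟨s, t, rfl⟩ := mem_KL.1 hz
            refine Submodule.add_mem _ (Submodule.smul_mem _ _ h1) (Submodule.smul_mem _ _ ?_)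
            obtain ⟨c, hc, d, hd', e⟩ := Submodule.mem_sup.1 h1
            rw [← e, map_add]
            exact Submodule.add_mem_sup (hj.j_mem hc) (hj.j_mem hd')
          exact hu3P z hz'
        have s3 : KL j u3 ≤ Ts Q H y := by
          refine spread hj hH hQ (by omega) hy hw1T hu3 hyu3 hw1u3 ?_
          intro h
          -- `w1 ∈ K y + K u3` and `w1 ∈ K y + K u`: then `u3 ∈ K y + K w1 ≤ K y + K u`
          have h2 := hj.exchange h hw1y
          apply hu3n
          obtain ⟨c, hc, d, hd', rfl⟩ := Submodule.mem_sup.1 h2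
          refine Submodule.add_mem _ (Submodule.mem_sup_left hc) ?_
          obtain ⟨s, t, rfl⟩ := mem_KL.1 hd'
          refine Submodule.add_mem _ (Submodule.smul_mem _ _ hm) (Submodule.smul_mem _ _ ?_)
          obtain ⟨c', hc', d', hd'', e⟩ := Submodule.mem_sup.1 hm
          rw [← e, map_add]
          exact Submodule.add_mem_sup (hj.j_mem hc') (hj.j_mem hd'')
        have s4 : KL j u ≤ Ts Q H y := by
          refine spread hj hH hQ (by omega) hy (s3 (self_mem_KL j u3)) hu hyu huu3 ?_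
          exact hu3n
        exact s4 (self_mem_KL j u)
      · exact spread hj hH hQ (by omega) hy hw1T hu hyu hp hm (self_mem_KL j u)
    · -- `u` not orthogonal to `w1`
      obtain ⟨u2, hu2P, hu2, hu2n⟩ := exists_sing_perp_diff hQ ((KL j y ⊔ KL j w1) ⊔ KL j u)
        (KL j y) (finrank_sup_le' _ _ (finrank_sup_le' _ _ (hK y) (hK w1)) (hK u)) (hK y)
        (by omega)
      have hyu2 : Perp Q (KL j y) u2 := hu2P.of_sup_left.of_sup_left
      have hw1u2 : Perp Q (KL j w1) u2 := hu2P.of_sup_left.of_sup_right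
      have huu2 : Perp Q (KL j u) u2 := hu2P.of_sup_right
      have s2 : KL j u2 ≤ Ts Q H y := by
        refine spread hj hH hQ (by omega) hy hw1T hu2 hyu2 (hj.perp_symm hw1u2) ?_
        intro h
        apply hp
        -- `w1 ∈ K y + K u2` is orthogonal to `u`
        have h3 : Perp Q (KL j y ⊔ KL j u2) u := (hyu).sup (hj.perp_symm huu2)
        apply hj.perp_symm
        have h4 : KL j w1 ≤ KL j y ⊔ KL j u2 := by
          intro z hz
          obtain ⟨s, t, rfl⟩ := mem_KL.1 hz
          refine Submodule.add_mem _ (Submodule.smul_mem _ _ h) (Submodule.smul_mem _ _ ?_)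
          obtain ⟨c, hc, d, hd', e⟩ := Submodule.mem_sup.1 h
          rw [← e, map_add]
          exact Submodule.add_mem_sup (hj.j_mem hc) (hj.j_mem hd')
        exact fun z hz => h3 z (h4 hz)
      have s4 : KL j u ≤ Ts Q H y := by
        refine spread hj hH hQ (by omega) hy (s2 (self_mem_KL j u2)) hu hyu huu2 ?_
        intro h
        -- `u2 ∈ K y + K u`, `u2 ∉ K y`, then `u ∈ K y + K u2` is orthogonal to `w1`
        have h2 := hj.exchange h hu2n
        apply hp
        have h3 : Perp Q (KL j y ⊔ KL j u2) w1 := hyw1.sup (hj.perp_symm hw1u2)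
        have h4 : KL j u ≤ KL j y ⊔ KL j u2 := by
          intro z hz
          obtain ⟨s, t, rfl⟩ := mem_KL.1 hz
          refine Submodule.add_mem _ (Submodule.smul_mem _ _ h2) (Submodule.smul_mem _ _ ?_)
          obtain ⟨c, hc, d, hd', e⟩ := Submodule.mem_sup.1 h2
          rw [← e, map_add]
          exact Submodule.add_mem_sup (hj.j_mem hc) (hj.j_mem hd')
        exact fun z hz => h3 z (h4 hz)
      exact s4 (self_mem_KL j u)
  exact span_in hQ hyts hw1 hyw1 hw1y (Ts Q H y) hall

/-- Lemma D: `Good'` spreads. -/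
theorem Good'.spread [Finite F] [FiniteDimensional F V] (hj : Herm Q j a b) (hH : Over Q j H)
    (hQ : Nondeg Q) (hd : 14 ≤ Module.finrank F V) {y y' : V} (hy : Q y = 0) (hy0 : y ≠ 0)
    (hg : Good' Q j H y) (hy' : Q y' = 0) (hy0' : y' ≠ 0) : Good' Q j H y' := by
  have hK := finrank_KL_le j
  have step : ∀ y u : V, Q y = 0 → y ≠ 0 → Q u = 0 → Good' Q j H y → Perp Q (KL j y) u →
      u ∉ KL j y → Good' Q j H u := by
    intro y u hy hy0 hu hg hyu huy
    have h1 : u ∈ Ts Q H y := hg u hyu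
    rw [mem_Ts_comm hy hu] at h1
    refine good'_of_not_le hj hH hQ hd hu h1 ?_
    intro h
    exact huy (hj.KL_symm h hy0)
  obtain ⟨u, huP, hu, hun⟩ := exists_sing_perp_diff hQ (KL j y ⊔ KL j y') (KL j y ⊔ KL j y')
    (finrank_sup_le' _ _ (hK y) (hK y')) (finrank_sup_le' _ _ (hK y) (hK y')) (by omega)
  have hu0 : u ≠ 0 := by
    rintro rfl
    exact hun (Submodule.zero_mem _)
  have g1 := step y u hy hy0 hu hg huP.of_sup_left (fun h => hun (Submodule.mem_sup_left h))
  refine step u y' hu hu0 hy' g1 (hj.perp_symm huP.of_sup_right) ?_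
  intro h
  exact hun (Submodule.mem_sup_right (hj.KL_symm h hy0'))

/-- Lemmas C, E: if some `h ∈ H` does not map the `K`-line of a singular `x` to a `K`-line, `E Q ≤ H`. -/
theorem E_le_of_moving [Finite F] (hj : Herm Q j a b) (hH : Over Q j H) (hG : Good Q)
    (hd : 14 ≤ Module.finrank F V) {h : V ≃ₗ[F] V} (hh : h ∈ H) {x : V} (hx : Q x = 0)
    (hx0 : x ≠ 0) (hmov : h (j x) ∉ KL j (h x)) : E Q ≤ H := by
  have : FiniteDimensional F V := Module.finite_of_finrank_pos (by omega)
  have hQ := hG.nondeg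
  have hO : h ∈ O Q := hH.le hh
  have hhx : Q (h x) = 0 := by rw [mem_O.1 hO]; exact hx
  have hhx0 : h x ≠ 0 := by
    intro e
    exact hx0 (h.injective (by rw [e, map_zero]))
  have hjx : j x ∈ Ts Q H x := by
    refine ⟨hj.polar_j_self hx, fun c => hH.mem x hx c⟩
  have g1 : Good' Q j H (h x) :=
    good'_of_not_le hj hH hQ hd hhx (map_mem_Ts hh hO hjx) hmov
  have gall : ∀ y, Q y = 0 → y ≠ 0 → Good' Q j H y := fun y hy hy0 =>
    g1.spread hj hH hQ hd hhx hhx0 hy hy0
  -- `Ts x = x^⊥`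
  have hfull : ∀ v, polar Q x v = 0 → v ∈ Ts Q H x := by
    -- `v1` orthogonal to the `K`-line of `h x` and not to `h (j x)`
    obtain ⟨v1, hv1, hv1'⟩ := exists_perp_polar_ne hQ (KL j (h x)) hmov
    have hsymm : h.symm ∈ H := H.inv_mem hh
    have h1 : v1 ∈ Ts Q H (h x) := g1 v1 hv1
    have h2 := map_mem_Ts (H.inv_mem hh) ((O Q).inv_mem hO) h1
    have e1 : h⁻¹ (h x) = x := h.symm_apply_apply x
    rw [e1] at h2
    have h3 : polar Q (j x) (h⁻¹ v1) ≠ 0 := by
      have := polar_map hO (j x) (h⁻¹ v1)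
      have e2 : h (h⁻¹ v1) = v1 := h.apply_symm_apply v1
      rw [e2] at this
      rw [← this]
      exact hv1'
    intro v hv
    set c := polar Q (j x) v * (polar Q (j x) (h⁻¹ v1))⁻¹ with hc
    have h4 : v - c • h⁻¹ v1 ∈ Ts Q H x := by
      apply gall x hx hx0
      refine perp_KL.2 ⟨?_, ?_⟩
      · rw [polar_sub_right, polar_smul_right, hv, h2.1]
        simp
      · rw [polar_sub_right, polar_smul_right, hc, smul_eq_mul, mul_assoc, inv_mul_cancel₀ h3,
          mul_one, sub_self]
    have h5 := (Ts Q H x).add_mem h4 ((Ts Q H x).smul_mem c h2)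
    rwa [sub_add_cancel] at h5
  -- a second full point
  obtain ⟨y, hy⟩ := exists_hyp hQ hx hx0
  obtain ⟨w, hwP, hw⟩ : ∃ w, Perp Q (KL j y) w ∧ Q w ≠ 0 := by
    by_contra hcon
    push Not at hcon
    have h1 := SingMaxPlus.two_mul_finrank_le hQ
      (W := LinearMap.BilinForm.orthogonal (polarBilin Q) (KL j y))
      (fun w hw => hcon w (mem_orthogonal_iff.1 hw))
    have h2 := finrank_perp_ge hQ (KL j y) (finrank_KL_le j y)
    omega
  have hyw : polar Q y w = 0 := (perp_KL.1 hwP).1
  have hg : T Q y w ∈ H := Ts_mem (gall y hy.right hy.right_ne w hwP)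
  have hpol : polar Q x (T Q y w x) ≠ 0 := by
    rw [T_apply hy.right hyw, polar_sub_right, polar_sub_right, polar_add_right,
      polar_smul_right, polar_smul_right, polar_smul_right, polar_self_of_sing hx, hy.pair',
      hy.pair, polar_comm Q w x]
    simp only [smul_eq_mul]
    intro h0
    apply hw
    linear_combination -h0
  have hTO : T Q y w ∈ O Q := T_mem_O y w
  refine E_le_of_Ts hG hx (by rw [mem_O.1 hTO]; exact hx) hpol hfull ?_
  intro v hv
  have h1 : polar Q x ((T Q y w)⁻¹ v) = 0 := by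
    rw [← polar_map hTO]
    have e : (T Q y w) ((T Q y w)⁻¹ v) = v := (T Q y w).apply_symm_apply v
    rw [e]
    exact hv
  have h2 := map_mem_Ts hg hTO (hfull _ h1)
  have e : (T Q y w) ((T Q y w)⁻¹ v) = v := (T Q y w).apply_symm_apply v
  rwa [e] at h2

/-- Lemma F: a linear map preserving all singular `K`-lines is in `K`. -/
theorem exists_mem_K [Finite F] (hj : Herm Q j a b) (hG : Good Q)
    (hd : 14 ≤ Module.finrank F V) (g : V →ₗ[F] V) (hg : ∀ x, Q x = 0 → g x ∈ KL j x) :
    ∃ s t : F, ∀ x, g x = s • x + t • j x := by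
  have : FiniteDimensional F V := Module.finite_of_finrank_pos (by omega)
  have hQ := hG.nondeg
  have hK := finrank_KL_le j
  -- orthogonal independent singular vectors have the same coefficients
  have step : ∀ x y : V, Q x = 0 → Q y = 0 → polar Q x y = 0 → x ≠ 0 → y ∉ KL j x →
      ∀ s t : F, g x = s • x + t • j x → g y = s • y + t • j y := by
    intro x y hx hy hxy hx0 hyn s t e
    have hy0 : y ≠ 0 := by
      rintro rfl
      exact hyn (Submodule.zero_mem _)
    obtain ⟨s', t', e'⟩ := mem_KL.1 (hg y hy)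
    obtain ⟨s'', t'', e''⟩ := mem_KL.1 (hg (x + y) (by rw [Q_add, hx, hy, hxy]; simp))
    rw [map_add, map_add, e, ← e'] at e''
    have h1 : (s'' - s) • x + (t'' - t) • j x = - ((s'' - s') • y + (t'' - t') • j y) := by
      rw [← sub_eq_zero]
      have := sub_eq_zero.2 e''
      rw [← this]
      module
    have h2 : (s'' - s') • y + (t'' - t') • j y = 0 := by
      by_contra hne
      apply hyn
      have h3 : (s'' - s') • y + (t'' - t') • j y ∈ KL j x := by
        have : (s'' - s) • x + (t'' - t) • j x ∈ KL j x := mem_KL.2 ⟨_, _, rfl⟩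
        rw [h1] at this
        have := (KL j x).neg_mem this
        rwa [neg_neg] at this
      have h4 : (s'' - s') • y + (t'' - t') • j y ∈ KL j y := mem_KL.2 ⟨_, _, rfl⟩
      have h5 := hj.KL_symm h4 hne
      exact hj.KL_le h3 h5
    rw [h2, neg_zero] at h1
    have h3 := hj.indep hx0 h1
    have h4 := hj.indep hy0 h2
    rw [← e', ← sub_eq_zero.1 h4.1, ← sub_eq_zero.1 h4.2, sub_eq_zero.1 h3.1, sub_eq_zero.1 h3.2]
  obtain ⟨x, hx0, hx⟩ := hG.sing
  obtain ⟨s, t, e⟩ := mem_KL.1 (hg x hx)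
  have hall : ∀ y, Q y = 0 → g y = s • y + t • j y := by
    intro y hy
    by_cases hy0 : y = 0
    · rw [hy0]; simp
    obtain ⟨u, huP, hu, hun⟩ := exists_sing_perp_diff hQ (KL j x ⊔ KL j y) (KL j x ⊔ KL j y)
      (finrank_sup_le' _ _ (hK x) (hK y)) (finrank_sup_le' _ _ (hK x) (hK y)) (by omega)
    have hu0 : u ≠ 0 := by
      rintro rfl
      exact hun (Submodule.zero_mem _)
    have h1 : polar Q x u = 0 := huP.of_sup_left x (self_mem_KL j x)
    have h2 : polar Q u y = 0 := by rw [polar_comm]; exact huP.of_sup_right y (self_mem_KL j y)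
    have e1 := step x u hx hu h1 hx0 (fun h => hun (Submodule.mem_sup_left h)) s t e.symm
    refine step u y hu hy h2 hu0 ?_ s t e1
    intro h
    exact hun (Submodule.mem_sup_right (hj.KL_symm h hy0))
  refine ⟨s, t, fun v => ?_⟩
  obtain ⟨x', y', hxy⟩ := hG.exists_hyp
  have := span_in hQ (W := ⊥) (by
    intro w hw
    rw [(Submodule.mem_bot F).1 hw, QuadraticMap.map_zero]) hxy.left (fun w hw => by
      rw [(Submodule.mem_bot F).1 hw, polar_zero_left]) (fun h => hxy.left_ne h)
    (LinearMap.ker (g - (s • LinearMap.id + t • j))) (fun v hv _ _ => by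
      rw [LinearMap.mem_ker, LinearMap.sub_apply, hall v hv]
      simp) v (fun w hw => by rw [(Submodule.mem_bot F).1 hw, polar_zero_left])
  rw [LinearMap.mem_ker, LinearMap.sub_apply] at this
  have h2 := sub_eq_zero.1 this
  rw [h2]
  simp

/-- **The overgroups.** -/
theorem dichotomy [Finite F] (hj : Herm Q j a b) (hH : Over Q j H) (hG : Good Q)
    (hd : 14 ≤ Module.finrank F V) :
    E Q ≤ H ∨ ∀ h ∈ H, ∃ s t : F, ∀ x, h (j (h.symm x)) = s • x + t • j x := by
  by_cases hmov : ∃ h ∈ H, ∃ x, Q x = 0 ∧ x ≠ 0 ∧ h (j x) ∉ KL j (h x)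
  · left
    obtain ⟨h, hh, x, hx, hx0, hm⟩ := hmov
    exact E_le_of_moving hj hH hG hd hh hx hx0 hm
  · right
    push Not at hmov
    intro h hh
    obtain ⟨s, t, e⟩ := exists_mem_K hj hG hd (h.toLinearMap ∘ₗ j ∘ₗ h.symm.toLinearMap) (by
      intro x hx
      by_cases hx0 : x = 0
      · rw [hx0, map_zero]; exact Submodule.zero_mem _
      have hO := hH.le (H.inv_mem hh)
      have h1 : Q (h.symm x) = 0 := by
        have := mem_O.1 hO x
        rw [hx] at this
        exact this
      have h2 := hmov h hh (h.symm x) h1 (by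
        intro e
        exact hx0 (by have := congrArg h e; rwa [LinearEquiv.apply_symm_apply, map_zero] at this))
      rwa [LinearEquiv.apply_symm_apply] at h2)
    exact ⟨s, t, e⟩

end

end Cfsg.Agent.H884.HermMax
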