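import Mathlib
import Cfsg.Prelude.Def_GeometricClasses
import Cfsg.Agent.LieClassical.OrthForms

/-!
# `quadFormOdd m F` satisfies `IsNondegenerateQuadraticForm` for `|F|` odd (helper884)
-/

set_option autoImplicit false
set_option linter.unusedSectionVars false

namespace Cfsg.Agent.H884.OddForm

open QuadraticMap Cfsg.Geo Cfsg.Agent.LieClassical.OrthCore Cfsg.Agent.LieClassical.OrthForms

variable {ι : Type} [Fintype ι] [DecidableEq ι] {F : Type*} [Field F]

/-- A Mathlib quadratic form with nondegenerate polar form satisfies `IsNondegenerateQuadraticForm`. -/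
theorem isNondegenerate_of_nondeg (Q : QuadraticForm F (ι → F)) (hQ : Nondeg Q) :
    IsNondegenerateQuadraticForm (⇑Q) where
  smul c v := by rw [QuadraticMap.map_smul, smul_eq_mul, _root_.sq]
  polar_bilinear :=
    { add_left := fun x y v => polar_add_left Q x y v
      smul_left := fun c x v => by rw [polar_smul_left, smul_eq_mul]
      add_right := fun v x y => polar_add_right Q v x y
      smul_right := fun c v x => by rw [polar_smul_right, smul_eq_mul] }
  nondegenerate := by
    intro v hv
    obtain ⟨y, hy⟩ := hQ.exists_polar_ne hv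
    exact ⟨⟨y, by rw [polar_comm]; exact hy⟩, ⟨y, hy⟩⟩

theorem two_ne_zero_of_odd [Fintype F] (hodd : Odd (Fintype.card F)) : (2 : F) ≠ 0 := by
  intro h
  have : CharP F 2 := by
    apply CharTwo.of_one_ne_zero_of_two_eq_zero one_ne_zero h
  have h1 : ringChar F = 2 := by
    rw [← ringChar.eq F 2]
  have := FiniteField.even_card_of_char_two h1
  rw [Nat.odd_iff] at hodd
  omega

theorem isNondegenerate_quadFormOdd [Fintype F] (hodd : Odd (Fintype.card F)) (m : ℕ) :
    IsNondegenerateQuadraticForm (Cfsg.quadFormOdd m F) := by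
  rw [← coe_oddForm]
  exact isNondegenerate_of_nondeg _ (nondeg_oddForm m F (two_ne_zero_of_odd hodd))

end Cfsg.Agent.H884.OddForm
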