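import Cfsg.Agent.H884.ElFin

/-!
# The group `Ω⁺₈(2)`: geometric classes (TEAM ELUSIVE, helper884)
-/

set_option autoImplicit false
set_option linter.unusedSectionVars false

namespace Cfsg.Agent.H884.El

open Module QuadraticMap Cfsg Cfsg.Geo Cfsg.Agent.LieClassical.OrthCore Cfsg.Agent.H955 Cfsg.Agent.H954.TSing
open Cfsg.Agent.H951 (fx cm Inv)
open Cfsg.Agent.H278.El (DerT)
open scoped MatrixGroups Matrix Kronecker

universe u v

section Abs

variable {F : Type u} [Field F] [Fintype F] {V : Type v} [AddCommGroup V] [Module F V] [FiniteDimensional F V]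
  {Q : QuadraticForm F V} {x : Module.End F V} {r e : ℕ}

/-- `[W, x]` has even dimension if `W` is nondegenerate. -/
theorem Iso.even_inf (h : Iso Q x r) {W : Submodule F V} (hW : Inv x W) (hWn : Nondeg (res Q W)) :
    Even (finrank F ↥(W ⊓ cm x)) := by
  let y : Module.End F W := x.restrict hW
  have hy : ∀ w : W, ((y w : W) : V) = x w := fun w => rfl
  have hyQ : ∀ w, res Q W (y w) = res Q W w := fun w => h.iso w
  have hyr : y ^ r = 1 := by
    refine LinearMap.ext fun w => Subtype.ext ?_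
    have := restrict_pow_coe hW r w
    rw [h.pow] at this
    exact this
  have hn := nondeg_cm hWn hyQ h.ne0 hyr
  have hev : Even (finrank F (cm y)) := by
    have hinv : Inv y (cm y) := H951.inv_cm
    refine even_of_isom hn (y.restrict hinv) (fun v => hyQ v) (r := r) ?_ (h.prime.odd_of_ne_two (by
      have := h.two_lt; omega)) ?_
    · refine LinearMap.ext fun w => Subtype.ext ?_
      have := restrict_pow_coe hinv r w
      rw [hyr] at this
      exact this
    · intro v hv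
      have h1 : (v : W) ∈ fx y ⊓ cm y := ⟨H951.mem_fx.2 (congrArg Subtype.val hv), v.2⟩
      rw [(H951.isCompl_fx_cm h.ne0 hyr).inf_eq_bot] at h1
      exact Subtype.ext ((Submodule.mem_bot F).1 h1)
  have h2 : (cm y).map W.subtype = W ⊓ cm x := by
    ext v
    constructor
    · rintro ⟨w, hw, rfl⟩
      obtain ⟨u, rfl⟩ := H951.mem_cm.1 hw
      exact ⟨(y u - u).2, H951.mem_cm.2 ⟨(u : V), rfl⟩⟩
    · rintro ⟨hvW, hv⟩
      -- `v` has trivial fixed component in `W`
      have h3 := (H951.isCompl_fx_cm h.ne0 hyr).sup_eq_top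
      have h4 : (⟨v, hvW⟩ : W) ∈ fx y ⊔ cm y := by rw [h3]; exact Submodule.mem_top
      obtain ⟨a, ha, b, hb, hab⟩ := Submodule.mem_sup.1 h4
      have h5 : (a : V) ∈ fx x ⊓ cm x := by
        refine ⟨H951.mem_fx.2 (congrArg Subtype.val (H951.mem_fx.1 ha)), ?_⟩
        have h6 : (a : V) = v - b := by
          have := congrArg Subtype.val hab
          rw [eq_sub_iff_add_eq]
          exact this
        rw [h6]
        refine Submodule.sub_mem _ hv ?_
        obtain ⟨u, rfl⟩ := H951.mem_cm.1 hb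
        exact H951.mem_cm.2 ⟨u, rfl⟩
      rw [(H951.isCompl_fx_cm h.ne0 h.pow).inf_eq_bot] at h5
      have h7 : (a : V) = 0 := (Submodule.mem_bot F).1 h5
      refine ⟨b, hb, ?_⟩
      have h8 : (a : V) + (b : V) = v := congrArg Subtype.val hab
      rw [h7, zero_add] at h8
      exact h8
  rw [← h2, H955.finrank_map_of_injective _ (Submodule.subtype_injective _)]
  exact hev

theorem nondeg_of_on {W : Submodule F V}
    (h : ∀ w ∈ W, w ≠ 0 → (∃ y ∈ W, polar Q y w ≠ 0) ∧ (∃ y ∈ W, polar Q w y ≠ 0)) : Nondeg (res Q W) := by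
  intro w hw
  by_contra hne
  obtain ⟨y, hy, hy2⟩ := (h w w.2 (fun h0 => hne (Subtype.ext h0))).2
  apply hy2
  have := hw ⟨y, hy⟩
  rwa [polar_res] at this

end Abs

section Kron

variable {ι : Type} [Fintype ι] [DecidableEq ι] {F : Type u} [Field F]

/-- the Kronecker product as a homomorphism onto the tensor product subgroup. -/
noncomputable def kron (n₁ n₂ : ℕ) (F : Type*) [Field F] :
    GL (Fin n₁) F × GL (Fin n₂) F →* GL (Fin n₁ × Fin n₂) F :=
  { toFun := fun x => ⟨(x.1 : Matrix (Fin n₁) (Fin n₁) F) ⊗ₖ (x.2 : Matrix (Fin n₂) (Fin n₂) F),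
      ((x.1⁻¹ : GL (Fin n₁) F) : Matrix (Fin n₁) (Fin n₁) F) ⊗ₖ ((x.2⁻¹ : GL (Fin n₂) F) : Matrix (Fin n₂) (Fin n₂) F),
      by rw [← Matrix.mul_kronecker_mul, ← Units.val_mul, ← Units.val_mul, mul_inv_cancel, mul_inv_cancel,
          Units.val_one, Units.val_one, Matrix.one_kronecker_one],
      by rw [← Matrix.mul_kronecker_mul, ← Units.val_mul, ← Units.val_mul, inv_mul_cancel, inv_mul_cancel,
          Units.val_one, Units.val_one, Matrix.one_kronecker_one]⟩
    map_one' := Units.ext (by simp)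
    map_mul' := fun x y => Units.ext (by
      change ((x.1 * y.1 : GL (Fin n₁) F) : Matrix (Fin n₁) (Fin n₁) F) ⊗ₖ ((x.2 * y.2 : GL (Fin n₂) F) :
        Matrix (Fin n₂) (Fin n₂) F) = ((x.1 : Matrix (Fin n₁) (Fin n₁) F) ⊗ₖ (x.2 : Matrix (Fin n₂) (Fin n₂) F)) *
          ((y.1 : Matrix (Fin n₁) (Fin n₁) F) ⊗ₖ (y.2 : Matrix (Fin n₂) (Fin n₂) F))
      rw [Units.val_mul, Units.val_mul, Matrix.mul_kronecker_mul]) }

/-- the homomorphism to `GL ι F`. -/
noncomputable def kronGL {n₁ n₂ : ℕ} (e : ι ≃ Fin n₁ × Fin n₂) (P : GL ι F) :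
    GL (Fin n₁) F × GL (Fin n₂) F →* GL ι F :=
  (MulAut.conj P).toMonoidHom.comp ((glReindex e.symm).toMonoidHom.comp (kron n₁ n₂ F))

theorem mem_range_kronGL {n₁ n₂ : ℕ} (e : ι ≃ Fin n₁ × Fin n₂) (P : GL ι F) {g : GL ι F}
    (hg : g ∈ tensorProductSubgroup n₁ n₂ e P) : g ∈ (kronGL e P).range := by
  obtain ⟨_, ⟨k, ⟨a, b, hk⟩, rfl⟩, rfl⟩ := hg
  refine ⟨(a, b), ?_⟩
  have h : kron n₁ n₂ F (a, b) = k := Units.ext hk.symm
  change (MulAut.conj P) (glReindex e.symm (kron n₁ n₂ F (a, b))) = _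
  rw [h]
  rfl

theorem coe_kronGL {n₁ n₂ : ℕ} (e : ι ≃ Fin n₁ × Fin n₂) (P : GL ι F) (x : GL (Fin n₁) F × GL (Fin n₂) F) :
    ((kronGL e P x : GL ι F) : Matrix ι ι F) = (P : Matrix ι ι F) *
      Matrix.reindexAlgEquiv F F e.symm ((x.1 : Matrix (Fin n₁) (Fin n₁) F) ⊗ₖ (x.2 : Matrix (Fin n₂) (Fin n₂) F)) *
      ((P⁻¹ : GL ι F) : Matrix ι ι F) := rfl

/-- transport of `J² + J + 1 = 0`. -/
theorem transport {κ : Type} [Fintype κ] [DecidableEq κ] (e : κ ≃ ι) (P : GL ι F) {C : Matrix κ κ F}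
    (hC : C * C + C + 1 = 0) {J : Matrix ι ι F}
    (hJ : J = (P : Matrix ι ι F) * Matrix.reindexAlgEquiv F F e C * ((P⁻¹ : GL ι F) : Matrix ι ι F)) :
    J * J + J + 1 = 0 := by
  set R := Matrix.reindexAlgEquiv F F e C with hR
  have h1 : R * R + R + 1 = 0 := by
    rw [hR, ← map_mul, ← map_add, ← map_one (Matrix.reindexAlgEquiv F F e), ← map_add, hC, map_zero]
  have hP : ((P⁻¹ : GL ι F) : Matrix ι ι F) * (P : Matrix ι ι F) = 1 := by
    rw [← Units.val_mul, inv_mul_cancel, Units.val_one]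
  have hP' : (P : Matrix ι ι F) * ((P⁻¹ : GL ι F) : Matrix ι ι F) = 1 := by
    rw [← Units.val_mul, mul_inv_cancel, Units.val_one]
  have h2 : J * J = (P : Matrix ι ι F) * (R * R) * ((P⁻¹ : GL ι F) : Matrix ι ι F) := by
    rw [hJ]
    calc (P : Matrix ι ι F) * R * ((P⁻¹ : GL ι F) : Matrix ι ι F) *
          ((P : Matrix ι ι F) * R * ((P⁻¹ : GL ι F) : Matrix ι ι F))
        = (P : Matrix ι ι F) * R * (((P⁻¹ : GL ι F) : Matrix ι ι F) * (P : Matrix ι ι F)) * R *
          ((P⁻¹ : GL ι F) : Matrix ι ι F) := by simp only [Matrix.mul_assoc]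
      _ = _ := by rw [hP, mul_one]; simp only [Matrix.mul_assoc]
  calc J * J + J + 1 = (P : Matrix ι ι F) * (R * R + R + 1) * ((P⁻¹ : GL ι F) : Matrix ι ι F) := by
        rw [h2, hJ, mul_add, mul_add, add_mul, add_mul, mul_one, hP']
    _ = 0 := by rw [h1, mul_zero, zero_mul]

/-- over `F₂` there is `c ∈ GL₂` with `c² + c + 1 = 0`. -/
theorem exists_c (h2 : (2 : F) = 0) : ∃ c : GL (Fin 2) F,
    (c : Matrix (Fin 2) (Fin 2) F) * (c : Matrix (Fin 2) (Fin 2) F) + (c : Matrix (Fin 2) (Fin 2) F) + 1 = 0 := by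
  have h3 : (!![0, 1; 1, 1] : Matrix (Fin 2) (Fin 2) F) * !![0, 1; 1, 1] + !![0, 1; 1, 1] + 1 = 0 := by
    have h11 : (1 : F) + 1 = 0 := by rw [one_add_one_eq_two, h2]
    ext i j
    fin_cases i <;> fin_cases j <;> simp [h11]
  have h4 : (!![0, 1; 1, 1] : Matrix (Fin 2) (Fin 2) F) * (-(!![0, 1; 1, 1] + 1)) = 1 := by
    rw [mul_neg, mul_add, mul_one, neg_eq_iff_add_eq_zero]
    exact h3
  have h5 : (-(!![0, 1; 1, 1] + 1) : Matrix (Fin 2) (Fin 2) F) * !![0, 1; 1, 1] = 1 := by
    rw [neg_mul, add_mul, one_mul, neg_eq_iff_add_eq_zero]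
    exact h3
  exact ⟨⟨!![0, 1; 1, 1], _, h4, h5⟩, h3⟩

theorem pow_six [Fintype F] (hF : Nat.card F = 2) (a : GL (Fin 2) F) : a ^ 6 = 1 := by
  classical
  have h : Nat.card (GL (Fin 2) F) = 6 := by
    rw [Matrix.card_GL_field]
    rw [Nat.card_eq_fintype_card] at hF
    rw [hF]
    decide
  rw [← h]
  exact pow_card_eq_one'

theorem kron_quad_left {n₁ n₂ : ℕ} {c : Matrix (Fin n₁) (Fin n₁) F} (hc : c * c + c + 1 = 0) :
    (c ⊗ₖ (1 : Matrix (Fin n₂) (Fin n₂) F)) * (c ⊗ₖ (1 : Matrix (Fin n₂) (Fin n₂) F)) +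
      (c ⊗ₖ (1 : Matrix (Fin n₂) (Fin n₂) F)) + 1 = 0 := by
  rw [← Matrix.mul_kronecker_mul, mul_one, ← Matrix.add_kronecker, ← Matrix.one_kronecker_one,
    ← Matrix.add_kronecker, hc, Matrix.zero_kronecker]

theorem kron_quad_right {n₁ n₂ : ℕ} {c : Matrix (Fin n₂) (Fin n₂) F} (hc : c * c + c + 1 = 0) :
    ((1 : Matrix (Fin n₁) (Fin n₁) F) ⊗ₖ c) * ((1 : Matrix (Fin n₁) (Fin n₁) F) ⊗ₖ c) +
      ((1 : Matrix (Fin n₁) (Fin n₁) F) ⊗ₖ c) + 1 = 0 := by
  rw [← Matrix.mul_kronecker_mul, mul_one, ← Matrix.kronecker_add, ← Matrix.one_kronecker_one,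
    ← Matrix.kronecker_add, hc, Matrix.kronecker_zero]

theorem tensor_eight [Fintype F] (hF : Nat.card F = 2) (h2 : (2 : F) = 0) {n₁ n₂ : ℕ} (e : ι ≃ Fin n₁ × Fin n₂)
    (P : GL ι F) (h1 : 2 ≤ n₁) (h1' : 2 ≤ n₂) (h12 : n₁ * n₂ = 8) {z : GL ι F}
    (hz : z ∈ tensorProductSubgroup n₁ n₂ e P) (hz7 : z ^ 7 = 1) :
    ∃ J : Matrix ι ι F, J * J + J + 1 = 0 ∧ (z : Matrix ι ι F) * J = J * (z : Matrix ι ι F) := by
  have hz36 : z ^ 36 = z := by
    rw [show 36 = 7 * 5 + 1 by norm_num, pow_add, pow_mul, hz7, one_pow, one_mul, pow_one]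
  obtain ⟨⟨a, b⟩, hab⟩ := mem_range_kronGL e P hz
  obtain ⟨c, hc⟩ := exists_c h2
  have hcases : (n₁ = 2 ∧ n₂ = 4) ∨ (n₁ = 4 ∧ n₂ = 2) := by
    have h3 : n₁ ≤ 4 := by
      by_contra hcon
      push Not at hcon
      have := Nat.mul_le_mul hcon h1'
      omega
    interval_cases n₁ <;> omega
  rcases hcases with ⟨rfl, rfl⟩ | ⟨rfl, rfl⟩
  · refine ⟨(kronGL e P (c, 1) : GL ι F), ?_, ?_⟩
    · exact transport e.symm P (kron_quad_left hc) (by rw [coe_kronGL]; rfl)
    · rw [← Units.val_mul, ← Units.val_mul]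
      congr 1
      have h5 : z = kronGL e P (1, b ^ 36) := by
        rw [← hz36, ← hab, ← map_pow]
        congr 1
        refine Prod.ext ?_ rfl
        show a ^ 36 = 1
        rw [show 36 = 6 * 6 by norm_num, pow_mul, pow_six hF]
      rw [h5, ← map_mul, ← map_mul]
      congr 1
      refine Prod.ext ?_ ?_
      · show 1 * c = c * 1
        rw [one_mul, mul_one]
      · show b ^ 36 * 1 = 1 * b ^ 36
        rw [one_mul, mul_one]
  · refine ⟨(kronGL e P (1, c) : GL ι F), ?_, ?_⟩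
    · exact transport e.symm P (kron_quad_right hc) (by rw [coe_kronGL]; rfl)
    · rw [← Units.val_mul, ← Units.val_mul]
      congr 1
      have h5 : z = kronGL e P (a ^ 36, 1) := by
        rw [← hz36, ← hab, ← map_pow]
        congr 1
        refine Prod.ext rfl ?_
        show b ^ 36 = 1
        rw [show 36 = 6 * 6 by norm_num, pow_mul, pow_six hF]
      rw [h5, ← map_mul, ← map_mul]
      congr 1
      refine Prod.ext ?_ ?_
      · show a ^ 36 * 1 = 1 * a ^ 36
        rw [one_mul, mul_one]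
      · show 1 * c = c * 1
        rw [one_mul, mul_one]

end Kron

section Main

variable {ι : Type} [Fintype ι] [DecidableEq ι] {F : Type u} [Field F] [Fintype F] {Q : QuadraticForm F (ι → F)}
  {H : Subgroup (GL ι F)}

theorem two_eq_zero (hF : Nat.card F = 2) : (2 : F) = 0 := by
  have h5 : ((Fintype.card F : ℕ) : F) = 0 := FiniteField.cast_card_eq_zero F
  rw [← Nat.card_eq_fintype_card, hF] at h5
  exact_mod_cast h5

theorem ord_two_three : orderOf ((2 : ℕ) : ZMod 3) = 2 := by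
  have : Fact (Nat.Prime 2) := ⟨Nat.prime_two⟩
  exact orderOf_eq_prime (by decide) (by decide)

/-- subspaces invariant under `J`, `J² + J + 1 = 0`, have even dimension (over `F₂`). -/
theorem even_of_quad (hF : Nat.card F = 2) {V : Type v} [AddCommGroup V] [Module F V] [FiniteDimensional F V]
    {J : Module.End F V} (hJ : ∀ v, J (J v) + J v + v = 0) (W : Submodule F V) (hW : ∀ w ∈ W, J w ∈ W) :
    Even (finrank F W) := by
  have : Fact (Nat.Prime 3) := ⟨Nat.prime_three⟩
  have h2 := two_eq_zero hF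
  have hJ3 : J ^ 3 = 1 := by
    refine LinearMap.ext fun v => ?_
    have h1 := hJ (J v)
    have h3 := hJ v
    have h4 : J (J (J v)) = v := by
      have h5 : J (J (J v)) - v = 0 := by
        calc J (J (J v)) - v = (J (J (J v)) + J (J v) + J v) - (J (J v) + J v + v) := by abel
          _ = 0 := by rw [h1, h3, sub_zero]
      exact sub_eq_zero.1 h5
    exact h4
  have hfix : W ⊓ fx J = ⊥ := by
    rw [eq_bot_iff]
    rintro v ⟨-, hv⟩
    have h1 := H951.mem_fx.1 hv
    have h3 := hJ v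
    rw [h1, h1] at h3
    rw [Submodule.mem_bot]
    have h4 : (3 : F) • v = 0 := by
      rw [← h3]
      have : (3 : F) = 1 + 1 + 1 := by norm_num
      rw [this, add_smul, add_smul, one_smul]
    have h5 : (3 : F) = 1 := by linear_combination h2
    rwa [h5, one_smul] at h4
  have h6 := H951.ord_dvd_finrank hJ3 (W := W) hW hfix
  have h7 : orderOf (Fintype.card F : ZMod 3) = 2 := by
    rw [← Nat.card_eq_fintype_card, hF]
    exact ord_two_three
  rw [h7] at h6
  exact (even_iff_two_dvd).2 h6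

/-- **`Ω⁺₈(2)`**, linear version. -/
theorem row_eight (hF : Nat.card F = 2) (hn : Fintype.card ι = 8) (hQ : Nondeg Q)
    (hH : H ≤ isometryGroup F (⇑Q)) (h7 : 7 ∣ Nat.card H)
    (h5a : ∃ g ∈ H, g ^ 5 = 1 ∧ g ≠ 1 ∧ finrank F (cm (lin g)) = 4)
    (h5b : ∃ g ∈ H, g ^ 5 = 1 ∧ g ≠ 1 ∧ finrank F (cm (lin g)) = 8) : InOrthogonalResidualClass H := by
  have h2 := two_eq_zero hF
  have hne : Nonempty ι := Fintype.card_pos_iff.1 (by omega)
  have hfin : finrank F (ι → F) = 8 := by rw [finrank_V, hn]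
  have hP7 : PP (Nat.card F) 3 7 := by
    rw [hF]
    refine ⟨by norm_num, ?_⟩
    have : Fact (Nat.Prime 3) := ⟨Nat.prime_three⟩
    exact orderOf_eq_prime (by decide) (by decide)
  have hP5 : PP (Nat.card F) 4 5 := by
    rw [hF]
    refine ⟨by norm_num, ?_⟩
    have : Fact (Nat.Prime 2) := ⟨Nat.prime_two⟩
    rw [show (4 : ℕ) = 2 ^ (1 + 1) by norm_num]
    exact orderOf_eq_prime_pow (by decide) (by decide)
  -- the elements
  obtain ⟨z, hzH, hziso, hz7, hz1⟩ := exists_elt hH hP7 (by omega) h7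
  obtain ⟨hzcm, -, -⟩ := hziso.odd_case hQ (lin_ne_one hz1) hP7 (by decide) (by omega)
  have hzadd := hziso.finrank_add
  obtain ⟨a, haH, ha5, ha1, hacm⟩ := h5a
  obtain ⟨b, hbH, hb5, hb1, hbcm⟩ := h5b
  have haiso : Iso Q (lin a) 5 := Iso.mk' hP5 (by omega)
    (by rw [← H251.GeoCard.toLin_pow, ha5]; exact lin_one) (lin_iso hH haH)
  have hbiso : Iso Q (lin b) 5 := Iso.mk' hP5 (by omega)
    (by rw [← H251.GeoCard.toLin_pow, hb5]; exact lin_one) (lin_iso hH hbH)
  have haadd := haiso.finrank_add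
  have hbadd := hbiso.finrank_add
  have hbfx : fx (lin b) = ⊥ := Submodule.finrank_eq_zero.1 (by omega)
  -- a totally singular subspace invariant under `a` has dimension at most three
  have hats : ∀ W : Submodule F (ι → F), TS Q W → Inv (lin a) W → finrank F W ≠ 4 := by
    intro W hWs hW hd
    have h1 := haiso.ts_le hQ (lin_ne_one ha1) hP5 hacm hW hWs
    have h3 : W = fx (lin a) := Submodule.eq_of_le_of_finrank_eq h1 (by omega)
    refine ts_not_nondeg hWs h3.ge ?_ (nondeg_fx hQ haiso.iso haiso.ne0 haiso.pow)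
    rw [← h3]
    intro h4
    rw [h4, finrank_bot] at hd
    omega
  -- a nondegenerate subspace invariant under `z` does not have dimension four
  have hznd : ∀ W : Submodule F (ι → F), Nondeg (res Q W) → Inv (lin z) W → finrank F W ≠ 4 := by
    intro W hWn hW hd
    have h1 := hziso.even_inf hW hWn
    have h3 := hziso.dvd hP7 hW
    have h4 := Submodule.finrank_mono (inf_le_left : W ⊓ cm (lin z) ≤ W)
    have h5 : finrank F ↥(W ⊓ cm (lin z)) = 0 := by
      obtain ⟨k, hk⟩ := h1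
      obtain ⟨l, hl⟩ := h3
      omega
    have h6 := H951.finrank_inf_add hziso.ne0 hziso.pow hW
    have h8 := Submodule.finrank_mono (inf_le_right : W ⊓ fx (lin z) ≤ fx (lin z))
    omega
  by_cases hirr : ActsIrreducibly (matrixSet H)
  · -- elements of odd prime order fix both members of a decomposition into two subspaces
    have hfix2 : ∀ D : Fin 2 → Submodule F (ι → F), H ≤ decompositionStabilizer D → ∀ g ∈ H, ∀ k : ℕ, g ^ (2 * k + 1) = 1 →
        Inv (lin g) (D 0) := by
      intro D hHD g hg k hgk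
      have hmap : ∀ j : ℕ, ∀ σ : Equiv.Perm (Fin 2),
          (∀ i, (D i).map (Matrix.toLin' (g : Matrix ι ι F)) = D (σ i)) →
          ∀ i, (D i).map (Matrix.toLin' ((g ^ j : GL ι F) : Matrix ι ι F)) = D ((σ ^ j) i) := by
        intro j σ hσ
        induction j with
        | zero => intro i; simp
        | succ j ih =>
          intro i
          rw [pow_succ', Units.val_mul, Matrix.toLin'_mul, Submodule.map_comp, ih, hσ, pow_succ', Equiv.Perm.mul_apply]
      obtain ⟨σ, hσ⟩ := hHD hg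
      have hσ2 : ∀ τ : Equiv.Perm (Fin 2), τ ^ 2 = 1 := by decide
      have h5 := hmap (2 * k + 1) σ hσ 0
      rw [hgk, pow_succ, pow_mul, hσ2, one_pow, one_mul] at h5
      have h6 : D (σ 0) = D 0 := by
        rw [← h5, Units.val_one, Matrix.toLin'_one, Submodule.map_id]
      have h8 := hσ 0
      rw [h6] at h8
      rw [H951.inv_iff_map]
      exact h8.le
    rcases Cfsg.Agent.H925.orth_irreducible_fine (by omega) (Cfsg.Agent.H884.OddForm.isNondegenerate_of_nondeg Q hQ) hH hirr with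
      ⟨t, k, D, htk, hD, hHD, -⟩ | ⟨k, D, hk, hD, hDs, hHD⟩ | ⟨s, K, hs, hsn, hK, -, hHK⟩ |
      ⟨n₁, n₂, e, P, -, -, -, h1, h1', h12, -, -, -, -, hHT⟩ | ⟨F₁, s, B, -, -, hs, hcard, -, -, hHF⟩ |
      ⟨s, m, R, -, -, hHR, habs, hR, hchar, hm, hsm, -, ht, -⟩ | ⟨k, t, e, P, E, hkt, hW⟩ | hS
    · exfalso
      have h2t := hD.decomp.decomp.two_le
      have hkpos := hD.decomp.decomp.pos
      by_cases hk3 : k < 3
      · have h7t := decomp_le hD.decomp.decomp hHD hP7 hk3 h7
        have hk1 : k = 1 := by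
          have h3 : k < 2 := by
            by_contra hcon
            push Not at hcon
            have := Nat.mul_le_mul h7t hcon
            omega
          omega
        subst hk1
        -- one-dimensional spaces are degenerate in characteristic two
        have h3 := nondeg_of_on (hD.decomp.nondegenerate ⟨0, by omega⟩)
        have h4 := even_of_two_eq_zero h2 h3
        rw [hD.decomp.decomp.finrank_eq] at h4
        exact absurd h4 (by decide)
      · have ht2 : t = 2 := by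
          have h3 : t < 3 := by
            by_contra hcon
            push Not at hcon
            have := Nat.mul_le_mul hcon (not_lt.1 hk3)
            omega
          omega
        subst ht2
        have hk4 : k = 4 := by omega
        have h3 := nondeg_of_on (hD.decomp.nondegenerate 0)
        exact hznd (D 0) h3 (hfix2 D hHD z hzH 3 hz7) (by rw [hD.decomp.decomp.finrank_eq, hk4])
    · exfalso
      exact hats (D 0) (hDs 0) (hfix2 D hHD a haH 2 ha5) (by rw [hD.finrank_eq]; omega)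
    · exfalso
      rw [hn] at hsn
      have hs2 : s = 2 := by
        have : s ∣ 2 ^ 3 := hsn
        exact (Nat.prime_dvd_prime_iff_eq hs Nat.prime_two).1 (hs.dvd_of_dvd_pow this)
      subst hs2
      exact no_quadratic_field hQ hH hP7 (by decide) le_rfl (by omega) h7 hK hHK
    · exfalso
      obtain ⟨J, hJ, hJz⟩ := tensor_eight hF h2 e P h1 h1' (by omega) (hHT hzH) hz7
      refine hziso.no_quadratic hQ (lin_ne_one hz1) hP7 (by decide) le_rfl (by omega) (J := Matrix.toLin' J) ?_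
        (fun W hW => even_of_quad hF ?_ W hW)
      · intro v
        rw [lin, Matrix.toLin'_apply, Matrix.toLin'_apply, Matrix.toLin'_apply, Matrix.toLin'_apply,
          Matrix.mulVec_mulVec, Matrix.mulVec_mulVec, hJz]
      · intro v
        rw [Matrix.toLin'_apply, Matrix.toLin'_apply, Matrix.mulVec_mulVec]
        have h3 : (J * J + J + 1) *ᵥ v = 0 := by rw [hJ, Matrix.zero_mulVec]
        rw [Matrix.add_mulVec, Matrix.add_mulVec, Matrix.one_mulVec] at h3
        exact h3
    · exfalso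
      have h3 : 1 < Nat.card F₁ := Finite.one_lt_card
      have h4 : Nat.card F₁ ^ 2 ≤ Nat.card F₁ ^ s := Nat.pow_le_pow_right (by omega) hs.two_le
      rw [← hcard, hF, pow_two] at h4
      have := Nat.mul_le_mul h3 h3
      omega
    · exfalso
      apply hchar
      rw [hn] at hsm
      have h3 : s ∣ 2 ^ 3 := by
        have : (2 : ℕ) ^ 3 = s ^ m := by rw [← hsm]; norm_num
        rw [this]
        exact dvd_pow_self s (by omega)
      have h4 : s = 2 := (Nat.prime_dvd_prime_iff_eq hR.prime Nat.prime_two).1 (hR.prime.dvd_of_dvd_pow h3)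
      rw [h4]
      have hch : CharP F 2 := CharTwo.of_one_ne_zero_of_two_eq_zero one_ne_zero h2
      exact ringChar.eq F 2
    · exfalso
      have h2k := hW.two_le_m
      have h2t := hW.two_le_t
      have hk3 : k < 3 := by
        by_contra hcon
        push Not at hcon
        have h3 : 3 ^ 2 ≤ k ^ t := (Nat.pow_le_pow_left hcon 2).trans (Nat.pow_le_pow_right (by omega) h2t)
        omega
      have ht4 : t < 4 := by
        by_contra hcon
        push Not at hcon
        have h3 : 2 ^ 4 ≤ k ^ t := (Nat.pow_le_pow_left h2k 4).trans (Nat.pow_le_pow_right (by omega) hcon)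
        omega
      rcases H251.GeoCard.wreath e P hP7.prime (hP7.not_dvd (by omega))
        (h7.trans (Subgroup.card_dvd_of_le hW.wreath)) with h | h
      · omega
      · have := le_of_div hP7 (by omega) h
        omega
    · exact hS
  · exfalso
    rcases Cfsg.Agent.H925.reducible_cases (Cfsg.Agent.H884.OddForm.isNondegenerate_of_nondeg Q hQ) hH hirr with
      ⟨W, hW0, hWs, hHW⟩ | ⟨W, hW0, hWn, hd, hHW⟩ | ⟨-, v, hv, hHW⟩
    · have h1 := haiso.ts_le hQ (lin_ne_one ha1) hP5 hacm (inv_of_mem (hHW haH)) hWs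
      have h3 := Submodule.finrank_mono h1
      have h4 : finrank F W ≠ 4 := hats W hWs (inv_of_mem (hHW haH))
      have h5 := hbiso.le_fx hP5 (inv_of_mem (hHW hbH)) (by omega)
      rw [hbfx] at h5
      exact hW0 (le_bot_iff.1 h5)
    · have h3 := nondeg_of_on hWn
      have h4 := hznd W h3 (inv_of_mem (hHW hzH))
      have h5 := hbiso.le_fx hP5 (inv_of_mem (hHW hbH)) (by omega)
      rw [hbfx] at h5
      exact hW0 (le_bot_iff.1 h5)
    · have hv0 : v ≠ 0 := by
        rintro rfl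
        exact hv (QuadraticMap.map_zero Q)
      have hs1 := finrank_span_singleton (K := F) hv0
      have h5 := hbiso.le_fx hP5 (inv_of_mem (hHW hbH)) (by omega)
      rw [hbfx] at h5
      exact hv0 (Submodule.span_singleton_eq_bot.1 (le_bot_iff.1 h5))

/-- **`PΩ⁺₈(2)`**. -/
theorem eight_derT (hF : Nat.card F = 2) (hn : Fintype.card ι = 8) (hQ : Nondeg Q) (hP : IsPlus Q)
    (hD : H390.Lift.Data Q) (M : Subgroup (POmega F (⇑Q))) :
    DerT (POmega F (⇑Q)) M ∨ InOrthogonalResidualClass (pre (⇑Q) M) := by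
  by_cases hM : DerT (POmega F (⇑Q)) M
  · exact Or.inl hM
  right
  have hMiss : ¬ Miss M := fun h => hM h.derT
  have hP7 : PP (Nat.card F) 3 7 := by
    rw [hF]
    refine ⟨by norm_num, ?_⟩
    have : Fact (Nat.Prime 3) := ⟨Nat.prime_three⟩
    exact orderOf_eq_prime (by decide) (by decide)
  have hP5 : PP (Nat.card F) 4 5 := by
    rw [hF]
    refine ⟨by norm_num, ?_⟩
    have : Fact (Nat.Prime 2) := ⟨Nat.prime_two⟩
    rw [show (4 : ℕ) = 2 ^ (1 + 1) by norm_num]
    exact orderOf_eq_prime_pow (by decide) (by decide)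
  have hev : Even (Fintype.card ι) := by rw [hn]; decide
  have hhit : Hits (pre (⇑Q) M) 3 := hits_of hD hMiss (by omega) fun r hr => by
    obtain ⟨g, h1, h2, h3, -⟩ := exists_g_odd (A := 1) hQ hr (by decide) (by omega) le_rfl
      (Or.inl ⟨hev, Or.inl (by omega)⟩)
    exact ⟨g, h1, h2, h3⟩
  refine row_eight hF hn hQ pre_le (hhit 7 hP7) ?_ ?_
  · obtain ⟨g, hg, hg5, hg1, hgd⟩ := exists_g (A := 1) hQ hP5 (by decide) (by omega) le_rfl
      (Or.inl ⟨hev, Or.inl (by omega)⟩)
    obtain ⟨c, hc⟩ := exists_conj hD hM hg hP5.prime (by omega) hg5 hg1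
    refine ⟨_, hc, by rw [conj_pow, hg5, mul_one, mul_inv_cancel], ?_, by rw [finrank_cm_conj, hgd]⟩
    intro h
    exact hg1 (conj_eq_one_iff.1 h)
  · obtain ⟨g, hg, hg5, hg1, hgd⟩ := exists_g (A := 2) hQ hP5 (by decide) (by omega) (by omega)
      (Or.inl ⟨hev, Or.inr ⟨by omega, iff_of_true hP (by decide)⟩⟩)
    obtain ⟨c, hc⟩ := exists_conj hD hM hg hP5.prime (by omega) hg5 hg1
    refine ⟨_, hc, by rw [conj_pow, hg5, mul_one, mul_inv_cancel], ?_, by rw [finrank_cm_conj, hgd]⟩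
    intro h
    exact hg1 (conj_eq_one_iff.1 h)

/-- **EL-GEO-OP, plus type**: `PΩ⁺_{2m}(q)`, `m ≥ 4`. -/
theorem geo_plus_all {m : ℕ} (hm : 4 ≤ m) (M : Subgroup (POmega F (quadFormPlus m F))) :
    DerT (POmega F (quadFormPlus m F)) M ∨ InOrthogonalResidualClass (pre (quadFormPlus m F) M) := by
  by_cases hexc : Nat.card F = 2 ∧ m = 4
  · obtain ⟨hF, rfl⟩ := hexc
    have h : ∀ M : Subgroup (POmega F (⇑(LieClassical.OmegaReindex.quadPlus 4 F))),
        DerT (POmega F (⇑(LieClassical.OmegaReindex.quadPlus 4 F))) M ∨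
          InOrthogonalResidualClass (pre (⇑(LieClassical.OmegaReindex.quadPlus 4 F)) M) :=
      eight_derT hF (card_plus 4) (nondeg_iff.2 LieClassical.OmegaReindex.quadPlus_nondegenerate) (isPlus_quadPlus 4)
        (data_plus le_rfl)
    rw [LieClassical.OmegaReindex.coe_quadPlus] at h
    exact h M
  · exact geo_plus hm hexc M

end Main

end Cfsg.Agent.H884.El
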