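import Cfsg.Agent.H884.CxChk
import Cfsg.Agent.H912.MultChar
import Cfsg.Agent.H927.SgXExc
import Cfsg.Agent.H912.LSUse

/-!
# TEAM ELUSIVE, cross characteristic: the lower bounds `lb g ≤ n`
-/

set_option autoImplicit false

namespace Cfsg.Agent.H884.Cx

open Cfsg Cfsg.Agent.OrdDiv Cfsg.Agent.H436 Cfsg.Agent.H927.SgX Cfsg.Agent.H912.Bd Cfsg.Agent.H915.GN
open Cfsg.Agent

universe u v w

theorem mk_ker_le {G : Type*} [Group G] {T : Type*} [Group T] (e : T ≃* G ⧸ Subgroup.center G) :
    (e.symm.toMonoidHom.comp (QuotientGroup.mk' (Subgroup.center G))).ker ≤ Subgroup.center G := by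
  intro x hx
  have h1 : e.symm (QuotientGroup.mk' (Subgroup.center G) x) = 1 := hx
  rw [MulEquiv.map_eq_one_iff] at h1
  exact (QuotientGroup.eq_one_iff x).1 h1

/-- the classical names -/
def IsClN : Grp → Prop
  | .psl _ _ => True
  | .psp _ _ => True
  | .psu _ _ => True
  | .oodd _ _ => True
  | .oplus _ _ => True
  | .ominus _ _ => True
  | _ => False

variable {r : ℕ} {T : Type v} [Group T]

theorem dvd_of_char {K : Type} [Field K] [Fintype K] {q f : ℕ} (_hr : r.Prime) (hK : Fintype.card K = q)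
    (hq : q = r ^ f) : r ∣ q := by
  rw [hq]
  refine dvd_pow_self r ?_
  rintro rfl
  rw [pow_zero] at hq
  rw [hq] at hK
  have := Fintype.one_lt_card (α := K)
  omega

/-- the multiplier of a group of Lie type has order prime to `r`, by name -/
theorem noR_name {g : Grp} (hg : Cond g) (hcl : IsClN g) (hM : g ∉ excM) (hr : r.Prime) (hch : HasChar r g)
    (hreal : Real g T) : NoR.{u} r T := by
  cases g with
  | psl m q =>
    obtain ⟨K, _, _, hK, ⟨e⟩⟩ := hreal
    obtain ⟨f, hf⟩ := hch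
    have hd := dvd_of_char hr hK hf
    have hexc : (m, Fintype.card K) ∉ ({(2, 4), (2, 9), (3, 2), (3, 4), (4, 2)} : Set (ℕ × ℕ)) := by
      rw [hK]
      intro h
      simp only [Set.mem_insert_iff, Set.mem_singleton_iff, Prod.mk.injEq] at h
      apply hM
      rcases h with ⟨rfl, rfl⟩ | ⟨rfl, rfl⟩ | ⟨rfl, rfl⟩ | ⟨rfl, rfl⟩ | ⟨rfl, rfl⟩ <;> decide
    exact (NoR.of_cyclic (S2086.result (F := K) rfl m hg.1 (fun h => by rw [hK]; exact hg.2.1 h) hexc)
      (coprime_gcd_sub hr Fintype.card_pos (by rw [hK]; exact hd))).congr e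
  | psp m q =>
    obtain ⟨K, _, _, hK, ⟨e⟩⟩ := hreal
    obtain ⟨f, hf⟩ := hch
    have hd := dvd_of_char hr hK hf
    have hexc : ¬ (m = 3 ∧ Fintype.card K = 2) := by
      rw [hK]
      rintro ⟨rfl, rfl⟩
      exact hM (by decide)
    exact (NoR.of_cyclic (S2092.result (F := K) rfl m hg.1 (fun h => by rw [hK]; exact hg.2.1 h) hexc)
      (coprime_gcd_sub hr Fintype.card_pos (by rw [hK]; exact hd))).congr e
  | psu m q =>
    obtain ⟨K, _, _, hK, ⟨e⟩⟩ := hreal
    obtain ⟨f, hf⟩ := hch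
    have hd : r ∣ q := by
      have h1 : r ∣ q ^ 2 := dvd_of_char hr hK (f := f * 2) (by rw [hf, ← pow_mul])
      exact hr.dvd_of_dvd_pow h1
    have hexc : (m, q) ∉ ({(4, 2), (4, 3), (6, 2)} : Set (ℕ × ℕ)) := by
      intro h
      simp only [Set.mem_insert_iff, Set.mem_singleton_iff, Prod.mk.injEq] at h
      apply hM
      rcases h with ⟨rfl, rfl⟩ | ⟨rfl, rfl⟩ | ⟨rfl, rfl⟩ <;> decide
    exact (NoR.of_cyclic (S2089.result (F := K) m q hK hg.1 hg.2.1 hexc) (coprime_gcd_add hr hd)).congr e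
  | oodd m q =>
    obtain ⟨K, _, _, hK, ⟨e⟩⟩ := hreal
    obtain ⟨f, hf⟩ := hch
    have hd := dvd_of_char hr hK hf
    have hexc : ¬ (m = 3 ∧ Fintype.card K = 3) := by
      rw [hK]
      rintro ⟨rfl, rfl⟩
      exact hM (by decide)
    have hodd : Odd (Fintype.card K) := by rw [hK]; exact hg.2.1
    refine (NoR.of_cyclic (S2094.result (F := K) rfl hodd m hg.1 hexc) ?_).congr e
    rw [Nat.coprime_two_left]
    exact Odd.of_dvd_nat hodd (by rw [hK]; exact hd)
  | oplus m q =>
    obtain ⟨K, _, _, hK, ⟨e⟩⟩ := hreal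
    obtain ⟨f, hf⟩ := hch
    have hd : r ∣ Fintype.card K := by rw [hK]; exact dvd_of_char hr hK hf
    have hm : 4 ≤ m := hg.1
    have hdm : r ∣ Fintype.card K ^ m := dvd_pow hd (by omega)
    have hpos : 0 < Fintype.card K ^ m := pow_pos Fintype.card_pos _
    rcases Nat.even_or_odd m with hev | hod
    · have hexc : ¬ (m = 4 ∧ Fintype.card K = 2) := by
        rw [hK]
        rintro ⟨rfl, rfl⟩
        exact hM (by decide)
      refine (NoR.of_mult (S2097.result (F := K) rfl m hm hev hexc) ?_).congr e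
      rw [Nat.card_congr Multiplicative.toAdd, Nat.card_prod, Nat.card_zmod]
      have h1 : (Nat.gcd 2 (Fintype.card K ^ m - 1)).Coprime r := coprime_gcd_sub hr hpos hdm
      exact Nat.Coprime.mul_left h1 h1
    · have h5 : 5 ≤ m := by
        by_contra hcon
        have h4 : m = 4 := by omega
        rw [h4] at hod
        exact absurd hod (by decide)
      exact (NoR.of_cyclic (S2096.result (F := K) rfl m h5 hod) (coprime_gcd_sub hr hpos hdm)).congr e
  | ominus m q =>
    obtain ⟨K, _, _, a, b, hK, hab, ⟨e⟩⟩ := hreal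
    obtain ⟨f, hf⟩ := hch
    have hd : r ∣ Fintype.card K := by rw [hK]; exact dvd_of_char hr hK hf
    have hm : 4 ≤ m := hg.1
    have hdm : r ∣ Fintype.card K ^ m := dvd_pow hd (by omega)
    exact (NoR.of_cyclic (S2099.result (F := K) rfl m hm a b hab) (coprime_gcd_add hr hdm)).congr e
  | _ => exact hcl.elim

/-- the bound for the classical names -/
theorem le_of_pr {g : Grp} (hg : Cond g) (hcl : IsClN g) (hr : r.Prime) (hch : HasChar r g)
    (hreal : Real g T) {F : Type u} [Field F] (hrF : (r : F) ≠ 0) {n : ℕ} (h : PR F n r T) : lsb g ≤ n := by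
  cases g with
  | psl m q =>
    obtain ⟨K, _, _, hK, ⟨e⟩⟩ := hreal
    obtain ⟨f, hf⟩ := hch
    have := charP_of hr hK hf
    change (if m = 2 then (q - 1) / 2 else q ^ (m - 1) - 1) ≤ n
    split_ifs with hm
    · subst hm
      have h1 := H203.BdSL2.bd_of_sl2 hr hK hrF
        (e.symm.toMonoidHom.comp (QuotientGroup.mk' _)) (mk_ker_le e) n h
      refine le_trans ?_ h1
      exact Nat.div_le_div_left (Nat.gcd_le_left _ (by norm_num)) (Nat.gcd_pos_of_pos_left _ (by norm_num))
    · have h1 := (bd_psl (F := F) hr hrF (m := m) (by have := hg.1; omega) (K := K) inferInstance).congr e n h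
      rwa [hK] at h1
  | psp m q =>
    obtain ⟨K, _, _, hK, ⟨e⟩⟩ := hreal
    obtain ⟨f, hf⟩ := hch
    have := charP_of hr hK hf
    have hd := dvd_of_char hr hK hf
    have hm : 2 ≤ m := hg.1
    change (if q % 2 = 1 then (q ^ m - 1) / 2 else q ^ m - 1) ≤ n
    split_ifs with ho
    · exact H175.BdSp.bd_psp (F := F) hr hK (by omega) hrF e n h
    · have hr2 : r = 2 := by
        have h2 : 2 ∣ q := Nat.dvd_of_mod_eq_zero (by omega)
        rw [hf] at h2
        exact ((Nat.prime_dvd_prime_iff_eq Nat.prime_two hr).1 (Nat.prime_two.dvd_of_dvd_pow h2)).symm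
      subst hr2
      exact H175.BdSp.bd_psp_even (F := F) hK (by omega) (by exact_mod_cast hrF) e n h
  | psu m q =>
    obtain ⟨K, _, _, hK, ⟨e⟩⟩ := hreal
    obtain ⟨f, hf⟩ := hch
    have := charP_of hr hK (f := f * 2) (by rw [hf, ← pow_mul])
    exact H175.BdSU.bd_psu (F := F) hr hK hg.1 hrF e n h
  | oodd m q =>
    obtain ⟨K, _, _, hK, ⟨e⟩⟩ := hreal
    obtain ⟨f, hf⟩ := hch
    have hc := charP_of hr hK hf
    have h1 := (bd_pomega_odd_cube (F := F) hr hrF hc hg.1).congr e n h
    have h2 := (bd_pomega_odd_sl (F := F) hr hrF hc hg.1).congr e n h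
    rw [hK] at h1 h2
    exact max_le h1 h2
  | oplus m q =>
    obtain ⟨K, _, _, hK, ⟨e⟩⟩ := hreal
    obtain ⟨f, hf⟩ := hch
    have hc := charP_of hr hK hf
    have hm : 4 ≤ m := hg.1
    have h1 := (bd_pomega_plus_cube (F := F) hr hrF hc (m := m) (by omega)).congr e n h
    have h2 := (bd_pomega_plus_sl (F := F) hr hrF hc (m := m) (by omega)).congr e n h
    rw [hK] at h1 h2
    exact max_le h1 h2
  | ominus m q =>
    obtain ⟨K, _, _, a, b, hK, hab, ⟨e⟩⟩ := hreal
    obtain ⟨f, hf⟩ := hch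
    have hc := charP_of hr hK hf
    have hm : 4 ≤ m := hg.1
    have h1 := (bd_pomega_minus_cube (F := F) hr hrF hc (m := m - 1) (by omega) a b).congr e n h
    have h2 := (bd_pomega_minus_sl (F := F) hr hrF hc (m := m - 1) (by omega) a b).congr e n h
    rw [hK] at h1 h2
    rw [show m - 1 - 1 = m - 2 by omega] at h2
    exact max_le h1 h2
  | _ => exact hcl.elim

/-- **The lower bound.** -/
theorem lb_le {g : Grp} (hg : Cond g) (hr : r.Prime) (hch : HasChar r g) [IsSimpleGroup T]
    (hna : ∃ x y : T, x * y ≠ y * x) (hreal : Real g T) {F : Type u} [Field F] [Finite F] (hrF : (r : F) ≠ 0)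
    {n : ℕ} (P : Subgroup (Matrix.GeneralLinearGroup (Fin n) F)) (hP : ⁅P, P⁆ = P)
    (e : (P ⧸ (Cfsg.Geo.scalars (Fin n) F).subgroupOf P) ≃* T) : lb g ≤ n := by
  unfold lb
  split_ifs with hM
  · exact Nat.zero_le _
  · by_cases hcl : IsClN g
    · exact le_of_pr hg hcl hr hch hreal hrF (PR.of_noR (noR_name hg hcl hM hr hch hreal) P hP e)
    · have hexc : IsExcN g := by
        have := isLieN_of_hasChar hch
        cases g <;> first | exact trivial | exact absurd trivial hcl | exact this.elim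
      refine exc_le hexc hg hna hreal hr hch hrF (L := P)
        (e.toMonoidHom.comp (QuotientGroup.mk' ((Cfsg.Geo.scalars (Fin n) F).subgroupOf P)))
        (e.surjective.comp (QuotientGroup.mk'_surjective _)) ?_
      rw [ker_comp_mk]
      intro x hx
      rw [Subgroup.mem_center_iff]
      intro y
      exact (Subtype.ext (scalars_central (Subgroup.mem_subgroupOf.1 hx) y)).symm

end Cfsg.Agent.H884.Cx
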