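import Cfsg.Agent.H884.CxBd
import Cfsg.Agent.H264.FKS.Res
import Cfsg.Agent.H278.ElAltNum

/-!
# TEAM ELUSIVE, cross characteristic: the row

`cross_row`: `T` a classical simple group (not `PSL_2`) in characteristic `p`, `R ≤ T` almost simple with socle `S`,
`S` the quotient of a perfect `P ≤ GL(ι, F)` by its scalars, `|ι|` the dimension of `T`, `S` of Lie type in
characteristic `s ≠ p`: some prime divisor of `|T|` does not divide `|R|`, or `(S, T)` is in the list `excP`.
-/

set_option autoImplicit false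

namespace Cfsg.Agent.H884.Cx

open Cfsg Cfsg.Agent.OrdDiv Cfsg.Agent.H436 Cfsg.Agent.H927.SgX Cfsg.Agent.H915.GN Cfsg.Agent.H264.FKS
open Cfsg.Agent.H278.El.SporNum (IsCl)
open Cfsg.Agent.H278.El.AltNum (dimOf)
open Cfsg.Agent

universe u v w

theorem dimN_eq (g : Grp) : dimN g = dimOf g := by cases g <;> rfl

theorem fs_eq (g : Grp) : fs g = fld g := by cases g <;> rfl

theorem fs_pp {g : Grp} (hg : Cond g) (hlie : IsLieN g) : IsPrimePow (fs g) := by
  cases g with
  | psl m q => exact hg.2.2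
  | psp m q => exact hg.2.2
  | psu m q => exact hg.2.2
  | oodd m q => exact hg.2.2
  | oplus m q => exact hg.2
  | ominus m q => exact hg.2
  | g2 q => exact hg.2
  | f4 q => exact hg
  | e6 q => exact hg
  | e7 q => exact hg
  | e8 q => exact hg
  | te6 q => exact hg
  | td4 q => exact hg
  | sz q =>
    obtain ⟨m, hm, rfl⟩ := hg
    exact Nat.prime_two.isPrimePow.pow (by omega)
  | ree q =>
    obtain ⟨m, hm, rfl⟩ := hg
    exact Nat.prime_three.isPrimePow.pow (by omega)
  | tf4 q =>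
    obtain ⟨m, hm, rfl⟩ := hg
    exact Nat.prime_two.isPrimePow.pow (by omega)
  | _ => exact hlie.elim

theorem fs_char {g : Grp} {s : ℕ} (h : HasChar s g) : ∃ f, fs g = s ^ f := by
  cases g <;> first | exact h | exact h.elim

theorem fq_char {g : Grp} {s : ℕ} (hcl : IsCl g) (h : HasChar s g) : ∃ f, fq g = s ^ f := by
  cases g <;> first | exact h | exact hcl.elim

/-- a prime `r ≥ 5` of `|Out S|` divides `|S|` or the field exponent -/
theorem dvd_of_out' {g : Grp} {s : ℕ} {S : Type u} [Group S] [Finite S] [IsSimpleGroup S]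
    (hna : ¬ ∀ a b : S, a * b = b * a) (hs : s.Prime) (hn : IsNamed g S) (hch : HasChar s g) {r : ℕ} (hr : r.Prime)
    (h5 : 5 ≤ r) (h : r ∣ Nat.card (Cfsg.Out S)) :
    r ∣ Nat.card S ∨ ∀ f, fs g = s ^ f → r ∣ f := by
  obtain ⟨X, f₁, h1, h2, h3⟩ := exists_lie hs hn hch
  obtain ⟨k, h4, h6, -⟩ := H364.OutLie.card_out hna h1 hn.real h2
  rw [h4] at h
  rcases hr.dvd_mul.1 h with h7 | h7
  · left
    rcases hr.dvd_mul.1 (h7.trans h6) with h8 | h8
    · exfalso
      have h9 : r ∣ 2 ^ 3 * 3 := h8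
      rcases hr.dvd_mul.1 h9 with h10 | h10
      · have := Nat.le_of_dvd (by norm_num) (hr.dvd_of_dvd_pow h10)
        omega
      · have := Nat.le_of_dvd (by norm_num) h10
        omega
    · exact dvd_of_dd hr h5 h2 h8
  · right
    intro f hf
    have h8 : s ^ f = s ^ f₁ := by rw [← hf, fs_eq, h3]
    rw [Nat.pow_right_injective hs.two_le h8]
    exact h7

/-! ### reindexing -/

section reindex

variable {ι : Type} [Fintype ι] [DecidableEq ι] {F : Type u} [Field F]

/-- `GL(ι, F) ≃* GL_n(F)` -/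
noncomputable def toFin (ι : Type) [Fintype ι] [DecidableEq ι] (F : Type u) [Field F] :
    GL ι F ≃* GL (Fin (Fintype.card ι)) F :=
  Units.mapEquiv (Matrix.reindexAlgEquiv F F (Fintype.equivFin ι)).toMulEquiv

theorem toFin_scalar (x : GL ι F) :
    toFin ι F x ∈ Geo.scalars (Fin (Fintype.card ι)) F ↔ x ∈ Geo.scalars ι F := by
  rw [Geo.mem_scalars_iff, Geo.mem_scalars_iff]
  have h1 : ∀ c : Fˣ, Matrix.reindexAlgEquiv F F (Fintype.equivFin ι) ((c : F) • (1 : Matrix ι ι F)) = (c : F) • 1 := by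
    intro c
    rw [map_smul, map_one]
  have h2 : ((toFin ι F x : GL (Fin (Fintype.card ι)) F) : Matrix _ _ F)
      = Matrix.reindexAlgEquiv F F (Fintype.equivFin ι) (x : Matrix ι ι F) := rfl
  constructor
  · rintro ⟨c, hc⟩
    refine ⟨c, (Matrix.reindexAlgEquiv F F (Fintype.equivFin ι)).injective ?_⟩
    rw [h1, ← hc, h2]
  · rintro ⟨c, hc⟩
    exact ⟨c, by rw [h2, hc, h1]⟩

theorem perfect_map {P : Subgroup (GL ι F)} (hP : ⁅P, P⁆ = P) :
    ⁅P.map (toFin ι F).toMonoidHom, P.map (toFin ι F).toMonoidHom⁆ = P.map (toFin ι F).toMonoidHom := by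
  rw [← Subgroup.map_commutator, hP]

theorem exists_quot {P : Subgroup (GL ι F)} :
    Nonempty ((P.map (toFin ι F).toMonoidHom ⧸
      (Geo.scalars (Fin (Fintype.card ι)) F).subgroupOf (P.map (toFin ι F).toMonoidHom)) ≃*
        P ⧸ (Geo.scalars ι F).subgroupOf P) := by
  let e : P ≃* P.map (toFin ι F).toMonoidHom := P.equivMapOfInjective _ (toFin ι F).injective
  refine ⟨(QuotientGroup.congr ((Geo.scalars ι F).subgroupOf P) _ e ?_).symm⟩
  ext y
  constructor
  · rintro ⟨x, hx, rfl⟩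
    rw [Subgroup.mem_subgroupOf]
    exact (toFin_scalar _).2 (Subgroup.mem_subgroupOf.1 hx)
  · intro hy
    obtain ⟨x, rfl⟩ := e.surjective y
    refine ⟨x, ?_, rfl⟩
    exact Subgroup.mem_subgroupOf.2 ((toFin_scalar _).1 (Subgroup.mem_subgroupOf.1 hy))

end reindex

variable {T : Type} [Group T] [Finite T] {gT : Grp} {R : Subgroup T}

/-- **The cross characteristic row.** -/
theorem cross_row {p : ℕ} (hp : p.Prime) (hT : IsNamed gT T) (hcl : IsCl gT) (hchT : HasChar p gT)
    {ι : Type} [Fintype ι] [DecidableEq ι] {F : Type} [Field F] [Finite F] [CharP F p]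
    (hcard : Fintype.card ι = dimOf gT) (S : Subgroup R) [S.Normal] [IsSimpleGroup S]
    (hna : ¬ IsMulCommutative S) (hC : Subgroup.centralizer (S : Set R) = ⊥) {P : Subgroup (GL ι F)}
    (hP : ⁅P, P⁆ = P) (e : S ≃* P ⧸ (Geo.scalars ι F).subgroupOf P) {s : ℕ} {g : Grp} (hs : s.Prime)
    (hsp : s ≠ p) (hS : IsNamed g S) (hch : HasChar s g) :
    (∃ r : ℕ, r.Prime ∧ r ∣ Nat.card T ∧ ¬ r ∣ Nat.card R) ∨ (g, gT) ∈ excP := by
  by_contra hcon
  rw [not_or] at hcon
  obtain ⟨hmiss, hexc⟩ := hcon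
  apply hexc
  have hlie := isLieN_of_hasChar hch
  have hna' := not_comm hna
  obtain ⟨f, hf⟩ := fs_char hch
  refine cross_num hS.cond hlie (fs_pp hS.cond hlie) hS.eq hS.ord hT.cond hcl hT.eq hT.ord ?_ hs hf ?_ ?_ ?_
  · exact (Subgroup.card_subgroup_dvd_card S).trans (Subgroup.card_subgroup_dvd_card R)
  · intro hd
    obtain ⟨k, hk⟩ := fq_char hcl hchT
    rw [hk] at hd
    exact hsp ((Nat.prime_dvd_prime_iff_eq hs hp).1 (hs.dvd_of_dvd_pow hd))
  · intro r hr h5 hd
    have h1 : r ∣ Nat.card R := by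
      by_contra h
      exact hmiss ⟨r, hr, hd, h⟩
    have h2 := h1.trans (dvd_aut S hC)
    rw [← H934.OutB.card_out_mul S hna] at h2
    rcases hr.dvd_mul.1 h2 with h3 | h3
    · rcases dvd_of_out' hna' hs hS hch hr h5 h3 with h4 | h4
      · exact .inl h4
      · exact .inr (h4 f hf)
    · exact .inl h3
  · rw [dimN_eq, ← hcard]
    obtain ⟨e2⟩ := exists_quot (P := P)
    have hex : ∃ x y : S, x * y ≠ y * x := by
      by_contra h
      push Not at h
      exact hna' h
    refine lb_le hS.cond hs hch hex hS.real ?_ (P.map (toFin ι F).toMonoidHom) (perfect_map hP) (e2.trans e.symm)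
    intro h0
    have h1 : p ∣ s := (CharP.cast_eq_zero_iff F p s).1 h0
    exact hsp ((Nat.prime_dvd_prime_iff_eq hp hs).1 h1).symm

end Cfsg.Agent.H884.Cx
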