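import Cfsg.Agent.H884.CgFin

/-!
# Geometric row of the odd-dimensional orthogonal groups with the type of the hyperplane (helper884)

`cg_odd'` is `cg_odd` with the type of the complement of the nonsingular point.
-/

set_option autoImplicit false

namespace Cfsg.Agent.H884.Row

open Cfsg Cfsg.Geo Cfsg.Agent.OrdDiv Cfsg.Agent.H436 Cfsg.Agent.H915.GN Cfsg.Agent.H264.FKS
open Cfsg.Agent.H899.CG Cfsg.Agent.H884.El Cfsg.Agent.H884.Cg Cfsg.Agent.LieClassical Cfsg.Agent.H955
open Cfsg.Agent.LieClassical.OmegaReindex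
open scoped MatrixGroups

variable {F : Type} [Field F] [Fintype F]

/-- **`Ω_{2m+1}(q)`.** -/
theorem cg_odd' {m : ℕ} (hm : 3 ≤ m) (hodd : Odd (Fintype.card F)) (M : Subgroup (POmega F (quadFormOdd m F))) :
    CGap _ M ∨ InOrthogonalResidualClass (pre (quadFormOdd m F) M) ∨
      (Even m ∧ ∃ v, quadFormOdd m F v ≠ 0 ∧
        pre (quadFormOdd m F) M ≤ subspaceStabilizer (Submodule.span F {v}) ∧
        ¬ IsPlus (res (quadOdd m F) (perp (quadOdd m F) (Submodule.span F {v})))) := by
  have h2 := H390.two_ne_zero_of_odd hodd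
  obtain ⟨p, a, hp, ha, hpa⟩ := exists_char F
  have hT : IsNamed (.oodd m (Fintype.card F)) (POmega F (quadFormOdd m F)) :=
    .mk' ⟨F, inferInstance, inferInstance, rfl, ⟨MulEquiv.refl _⟩⟩ ⟨hm, hodd, Fintype.isPrimePow_card_of_field⟩
      (oodd_eq hm hodd)
  have hs : IsSimpleGroup (POmega F (quadFormOdd m F)) := S0295.result hodd m hm
  have hfin : Finite (POmega F (quadFormOdd m F)) := Quotient.finite _
  have hne : Nat.card F ≠ 2 := by
    rw [Nat.card_eq_fintype_card]
    rintro h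
    rw [h] at hodd
    exact absurd hodd (by decide)
  have hD := data_odd hm h2 (F := F)
  have hQ := nondeg_iff.2 (quadOdd_nondegenerate h2 (F := F) (m := m))
  have hna : ¬ ∀ x y : POmega F (quadFormOdd m F), x * y = y * x := by
    have key : ∀ e, 3 ≤ e → e ≤ m ∨ Even e ∧ e ≤ 2 * m - 2 → (Odd e ∨ Even e) → ∀ r, PP (Nat.card F) e r →
        r ∣ Nat.card (POmega F (⇑(quadOdd m F))) := by
      intro e he h3 h4 r hr
      have hr2 : r ≠ 2 := by have := hr.lt (by omega); omega
      rcases h4 with h4 | h4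
      · have h5 : e ≤ m := by
          rcases h3 with h3 | h3
          · exact h3
          · exact absurd h3.1 (Nat.not_even_iff_odd.2 h4)
        obtain ⟨g, h1, h2', h3, -⟩ := exists_g_odd (A := 1) hQ hr h4 (by omega) le_rfl
          (Or.inr ⟨h2, by rw [card_odd]; omega⟩)
        exact dvd_card_T hD h1 hr.prime hr2 h2' h3
      · obtain ⟨g, h1, h2', h3, -⟩ := exists_g (A := 1) hQ hr h4 (by omega) le_rfl
          (Or.inr ⟨h2, by rw [card_odd]; omega⟩)
        exact dvd_card_T hD h1 hr.prime hr2 h2' h3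
    rw [coe_quadOdd] at key
    have ho3 := oddE_odd (m := m) (by omega)
    have he33 : 3 ≤ oddE m ∧ oddE m ≤ m := by
      rcases Nat.even_or_odd m with he | ho
      · rw [oddE_of_even he]
        obtain ⟨k, hk⟩ := he
        omega
      · rw [oddE_of_odd ho]; exact ⟨hm, le_rfl⟩
    obtain ⟨r, s, h3, h4, h5, h6, h7⟩ := two_primes (F := F) hm (fun h => hne h.1)
      (T := POmega F (quadFormOdd m F)) (key _ (by omega) (Or.inr ⟨⟨m - 1, by omega⟩, le_rfl⟩) (Or.inr ⟨m - 1, by omega⟩))
      (key _ he33.1 (Or.inl he33.2) (Or.inl ho3))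
    exact not_comm_of_primes h3 h4 h5 h6 h7
  have hfl : fld (.oodd m (Fintype.card F)) = p ^ a := by
    rw [← hpa, Nat.card_eq_fintype_card]; rfl
  have hout : OutOK (POmega F (quadFormOdd m F)) (Nat.card F) a := by
    have := outOK_of hp hna hT ⟨a, by rw [← Nat.card_eq_fintype_card]; exact hpa⟩ hfl
    rw [Nat.card_eq_fintype_card]
    exact this
  have h : OutOK (POmega F (⇑(quadOdd m F))) (Nat.card F) a → ∀ M : Subgroup (POmega F (⇑(quadOdd m F))),
      CGap _ M ∨ InOrthogonalResidualClass (pre (⇑(quadOdd m F)) M) ∨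
      (Even m ∧ ∃ v, quadOdd m F v ≠ 0 ∧
        pre (⇑(quadOdd m F)) M ≤ subspaceStabilizer (Submodule.span F {v}) ∧
        ¬ IsPlus (res (quadOdd m F) (perp (quadOdd m F) (Submodule.span F {v})))) := fun ho M =>
    cg_odd_gen hp ha hpa h2 hm (card_odd m) hQ hD ho M
  rw [coe_quadOdd] at h
  exact h hout M

end Cfsg.Agent.H884.Row
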