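import Cfsg.Agent.H884.RowAllA
import Cfsg.Agent.H489.OutSpor

/-!
# No prime `≥ 5` divides `|Out S|`, `S` sporadic or the Tits group (helper884)
-/

set_option autoImplicit false

namespace Cfsg.Agent.H884.Row

open Cfsg Cfsg.Agent.OrdDiv Cfsg.Agent.H436

theorem ordN_ne : ∀ x ∈ spor, ordN x.1 ≠ 0 := by decide +kernel

/-- **The outer automorphism groups of the sporadic groups.** -/
theorem outSpor : OutSpor := by
  intro S _ x hx hS r hr h5 hd
  obtain ⟨h, -, -, hcard⟩ := hS
  have hfin : Finite S := Nat.finite_of_card_ne_zero (hcard ▸ ordN_ne x hx)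
  have hfin2 : Finite (Out S) := Quotient.finite _
  have hle : Nat.card (Out S) ≤ 2 := by
    have key : IsSporadicGroup S → Nat.card (Out S) ≤ 2 := fun h => H489.card_out_sporadic h
    simp only [spor, List.mem_cons, List.not_mem_nil, or_false] at hx
    rcases hx with rfl | rfl | rfl | rfl | rfl | rfl | rfl | rfl | rfl | rfl | rfl | rfl | rfl | rfl | rfl | rfl | rfl |
      rfl | rfl | rfl | rfl | rfl | rfl | rfl | rfl | rfl | rfl
    · exact H489.card_out_tits h
    all_goals
      apply key
      simp only [OrdDiv.Real] at h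
      unfold IsSporadicGroup
      simp only [h, true_or, or_true]
  have h1 := Nat.le_of_dvd Nat.card_pos hd
  omega

end Cfsg.Agent.H884.Row
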