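import Cfsg.Agent.H951.Lin
import Cfsg.Agent.H899.Cyc.Defs

/-!
# Cyclic primes of linear groups (for the CGap rows of S3561 and S3679)

* `exists_fixed`  : two commuting operators of order dividing a prime `r` on a non-zero space: some `x * y ^ i` or `y`
  has a non-zero fixed vector;
* `no_rank_two`   : if all the non-trivial elements of `⟨x, y⟩` have a commutator space of dimension `d ≤ 2 e`
  (`e` the least dimension of a fixed point free operator of order `r`), then `⟨x, y⟩` is cyclic;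
* `cycW_of`       : `G → T` surjective with central kernel of order prime to `r`, `G` a group of operators in which all
  the elements of order `r` have commutator spaces of dimension `d ≤ 2 e`: `CycW T r`.
-/

set_option autoImplicit false

namespace Cfsg.Agent.H884.Cg

open Module Cfsg.Agent.H951 Cfsg.Agent.H899.CG

section Lin

variable {F : Type*} [Field F] {V : Type*} [AddCommGroup V] [Module F V] {x y : Module.End F V} {r : ℕ}

theorem avg_eq_zero (hx : x ^ r = 1) {W : Submodule F V} (hW : Inv x W) (h : W ⊓ fx x = ⊥) {w : V} (hw : w ∈ W) :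
    avg x r w = 0 := by
  have h1 : avg x r w ∈ W ⊓ fx x := by
    refine ⟨?_, ?_⟩
    · rw [avg, LinearMap.sum_apply]
      exact Submodule.sum_mem _ fun j _ => hW.pow j w hw
    · exact LinearMap.mem_ker.2 (LinearMap.congr_fun (sub_one_mul_avg hx) w)
  rwa [h, Submodule.mem_bot] at h1

theorem fx_pow_le (hr : r.Prime) (hy : y ^ r = 1) {j : ℕ} (h0 : 0 < j) (hj : j < r) : fx (y ^ j) ≤ fx y := by
  intro v hv
  rw [mem_fx] at hv ⊢
  have hco : Nat.Coprime j r := Nat.Coprime.symm ((hr.coprime_iff_not_dvd).2 fun h => by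
    have := Nat.le_of_dvd h0 h
    omega)
  obtain ⟨l, -, hl⟩ := Nat.exists_mul_mod_eq_one_of_coprime hco hr.one_lt
  have h1 : (y ^ j) ^ l = y := by
    rw [← pow_mul, ← Nat.div_add_mod (j * l) r, hl, pow_add, pow_mul, hy, one_pow, one_mul, pow_one]
  have h2 := pow_fx hv l
  rwa [h1] at h2

theorem fx_pow_mono {v : V} (hv : v ∈ fx y) (j : ℕ) : v ∈ fx (y ^ j) := mem_fx.2 (pow_fx (mem_fx.1 hv) j)

theorem Inv.mul {W : Submodule F V} (hx : Inv x W) (hy : Inv y W) : Inv (x * y) W := fun w hw => by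
  rw [Module.End.mul_apply]
  exact hx _ (hy w hw)

theorem inv_cm_of_commute (h : Commute x y) : Inv x (cm y) := by
  intro v hv
  obtain ⟨w, rfl⟩ := mem_cm.1 hv
  refine mem_cm.2 ⟨x w, ?_⟩
  rw [map_sub]
  have : x (y w) = y (x w) := LinearMap.congr_fun h.eq w
  rw [this]

theorem inv_fx_of_commute (h : Commute x y) : Inv x (fx y) := by
  intro v hv
  rw [mem_fx] at hv ⊢
  have : x (y v) = y (x v) := LinearMap.congr_fun h.eq v
  rw [← this, hv]

/-- two commuting operators of order dividing a prime -/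
theorem exists_fixed (hr : r.Prime) (h0 : (r : F) ≠ 0) (hx : x ^ r = 1) (hy : y ^ r = 1) (hxy : Commute x y)
    {W : Submodule F V} (hWx : Inv x W) (hWy : Inv y W) (hW : W ≠ ⊥) (hfy : W ⊓ fx y = ⊥) :
    ∃ i < r, W ⊓ fx (x * y ^ i) ≠ ⊥ := by
  by_contra hcon
  push Not at hcon
  apply hW
  rw [eq_bot_iff]
  intro w hw
  rw [Submodule.mem_bot]
  -- the double sum
  have h1 : ∀ i ∈ Finset.range r, avg (x * y ^ i) r w = 0 := by
    intro i hi
    have hc : Commute x (y ^ i) := hxy.pow_right i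
    refine avg_eq_zero ?_ (Inv.mul hWx (hWy.pow i)) (hcon i (Finset.mem_range.1 hi)) hw
    rw [hc.mul_pow, hx, ← pow_mul, mul_comm i r, pow_mul, hy, one_pow, one_mul]
  have h2 : ∑ i ∈ Finset.range r, avg (x * y ^ i) r w = 0 := Finset.sum_eq_zero h1
  have h3 : ∑ i ∈ Finset.range r, avg (x * y ^ i) r w
      = ∑ j ∈ Finset.range r, (x ^ j) (avg (y ^ j) r w) := by
    simp only [avg, LinearMap.sum_apply, map_sum]
    rw [Finset.sum_comm]
    refine Finset.sum_congr rfl fun j _ => Finset.sum_congr rfl fun i _ => ?_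
    have hc : Commute x (y ^ i) := hxy.pow_right i
    rw [hc.mul_pow, Module.End.mul_apply, ← pow_mul, ← pow_mul, mul_comm i j]
  have h4 : ∑ j ∈ Finset.range r, (x ^ j) (avg (y ^ j) r w) = (r : F) • w := by
    have hpos : 0 < r := hr.pos
    rw [← Nat.sub_add_cancel hpos, Finset.sum_range_succ']
    rw [Finset.sum_eq_zero, zero_add, Nat.sub_add_cancel hpos]
    · rw [pow_zero, pow_zero, Module.End.one_apply]
      exact avg_of_fx (Module.End.one_apply w)
    · intro j hj
      have hj' := Finset.mem_range.1 hj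
      have hyj : (y ^ (j + 1)) ^ r = 1 := by rw [← pow_mul, mul_comm, pow_mul, hy, one_pow]
      rw [Nat.sub_add_cancel hpos, avg_eq_zero hyj (hWy.pow _) ?_ hw, map_zero]
      rw [eq_bot_iff, ← hfy]
      exact inf_le_inf_left W (fx_pow_le hr hy (by omega) (by omega))
  rw [h3, h4] at h2
  exact (smul_eq_zero.1 h2).resolve_left h0

/-- **No subgroup `C_r × C_r`.** -/
theorem no_rank_two [FiniteDimensional F V] (hr : r.Prime) (h2 : 2 < r) (h0 : (r : F) ≠ 0) (hx : x ^ r = 1)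
    (hy : y ^ r = 1) (hxy : Commute x y) {d e : ℕ} (he : 0 < e) (hde : d ≤ 2 * e)
    (hd : ∀ i j : ℕ, x ^ i * y ^ j ≠ 1 → finrank F (cm (x ^ i * y ^ j)) = d)
    (hU : ∀ U : Submodule F V, Inv y U → U ⊓ fx y = ⊥ → U ≠ ⊥ → e ≤ finrank F U)
    (hy1 : y ≠ 1) (hxy1 : ∀ i : ℕ, x * y ^ i ≠ 1) : False := by
  have hcy : cm y ≠ ⊥ := by
    intro h
    apply hy1
    exact sub_eq_zero.1 (LinearMap.range_eq_bot.1 h)
  have hcfy : cm y ⊓ fx y = ⊥ := by
    rw [inf_comm]; exact (isCompl_fx_cm h0 hy).inf_eq_bot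
  obtain ⟨i, -, hi⟩ := exists_fixed hr h0 hx hy hxy (inv_cm_of_commute hxy) inv_cm hcy hcfy
  set z := x * y ^ i with hz
  have hcxi : Commute x (y ^ i) := hxy.pow_right i
  have hz1 : z ≠ 1 := hxy1 i
  have hzr : z ^ r = 1 := by
    rw [hz, hcxi.mul_pow, hx, ← pow_mul, mul_comm i r, pow_mul, hy, one_pow, one_mul]
  have hzy : Commute z y := hxy.mul_left (Commute.refl y |>.pow_left i)
  have hzk : ∀ k, z ^ k = x ^ k * y ^ (i * k) := by
    intro k
    rw [hz, hcxi.mul_pow, ← pow_mul]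
  set U := cm y ⊓ fx z with hUdef
  have hUy : Inv y U := inv_cm.inf (inv_fx_of_commute hzy.symm)
  have hUf : U ⊓ fx y = ⊥ := by
    rw [eq_bot_iff, ← hcfy]
    exact inf_le_inf_right _ inf_le_left
  have hUe := hU U hUy hUf hi
  -- the elements `a k = z ^ k * y`
  have har : ∀ k, (z ^ k * y) ^ r = 1 := by
    intro k
    rw [(hzy.pow_left k).mul_pow, hy, ← pow_mul, mul_comm k r, pow_mul, hzr, one_pow, one_mul]
  have haU : ∀ k, ∀ u ∈ U, (z ^ k * y) u = y u := by
    intro k u hu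
    rw [Module.End.mul_apply]
    exact pow_fx (mem_fx.1 (hUy u hu).2) k
  have haUc : ∀ k, U ≤ cm (z ^ k * y) := by
    intro k
    refine le_cm_of_inf_fx h0 (har k) ?_ ?_
    · intro u hu
      rw [haU k u hu]
      exact hUy u hu
    · rw [eq_bot_iff, ← hUf]
      rintro u ⟨hu, hu2⟩
      refine ⟨hu, ?_⟩
      rw [SetLike.mem_coe, mem_fx] at hu2 ⊢
      rw [← haU k u hu]
      exact hu2
  have had : ∀ k, finrank F (cm (z ^ k * y)) = d := by
    intro k
    have h1 : z ^ k * y = x ^ k * y ^ (i * k + 1) := by rw [hzk, pow_succ, mul_assoc]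
    rw [h1]
    apply hd
    rw [← h1]
    intro h3
    apply hi
    rw [eq_bot_iff]
    refine (haUc k).trans ?_
    rw [h3, cm, sub_self, LinearMap.range_zero]
  have hzd : finrank F (cm z) = d := by
    have h1 : z = x ^ 1 * y ^ i := by rw [pow_one]
    rw [h1]
    apply hd
    rw [← h1]
    exact hz1
  have hed : e ≤ d := by
    rw [← had 0]
    exact hUe.trans (Submodule.finrank_mono (haUc 0))
  have hcomm : ∀ k, Commute z (z ^ k * y) := fun k => ((Commute.refl z).pow_right k).mul_right hzy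
  -- the spaces `Y k`
  have hY : ∀ k, e ≤ finrank F ↥(cm z ⊓ fx (z ^ k * y)) := by
    intro k
    have h3 := finrank_inf_add h0 hzr (inv_cm_of_commute (hcomm k))
    have h4 := finrank_inf_add h0 (har k) (inv_cm_of_commute (hcomm k).symm)
    have h5 : finrank F U ≤ finrank F ↥(cm (z ^ k * y) ⊓ fx z) :=
      Submodule.finrank_mono (le_inf (haUc k) inf_le_right)
    rw [inf_comm (cm z) (cm (z ^ k * y))] at h4
    rw [had k] at h3
    rw [hzd] at h4
    omega
  have hzf : cm z ⊓ fx z = ⊥ := by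
    rw [inf_comm]; exact (isCompl_fx_cm h0 hzr).inf_eq_bot
  have hYY : ∀ k l, k < l → l ≤ 2 → ∀ v ∈ cm z, (z ^ k * y) v = v → (z ^ l * y) v = v → v = 0 := by
    intro k l hkl hl v hv h3 h4
    have h5 : (z ^ (l - k)) v = v := by
      conv_lhs => rw [← h3]
      rw [← Module.End.mul_apply, ← mul_assoc, ← pow_add, Nat.sub_add_cancel hkl.le]
      exact h4
    have h6 : v ∈ fx z := fx_pow_le hr hzr (by omega) (by omega) (mem_fx.2 h5)
    have h7 : v ∈ cm z ⊓ fx z := ⟨hv, h6⟩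
    rwa [hzf, Submodule.mem_bot] at h7
  have hsup : (cm z ⊓ fx (z ^ 0 * y)) ⊔ (cm z ⊓ fx (z ^ 1 * y)) = cm z := by
    refine Submodule.eq_of_le_of_finrank_le (sup_le inf_le_left inf_le_left) ?_
    rw [finrank_sup_of_disj, hzd]
    · have := hY 0
      have := hY 1
      omega
    · rw [eq_bot_iff]
      rintro v ⟨⟨hv1, hv2⟩, -, hv3⟩
      rw [Submodule.mem_bot]
      exact hYY 0 1 (by norm_num) (by norm_num) v hv1 (mem_fx.1 hv2) (mem_fx.1 hv3)
  have hY2 : cm z ⊓ fx (z ^ 2 * y) ≠ ⊥ := by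
    intro h
    have := hY 2
    rw [h, finrank_bot] at this
    omega
  obtain ⟨v, hv, hv0⟩ := Submodule.exists_mem_ne_zero_of_ne_bot hY2
  apply hv0
  obtain ⟨hvz, hv2⟩ := hv
  have hv' := hvz
  rw [← hsup] at hv'
  obtain ⟨v0, hv00, v1, hv11, hvv⟩ := Submodule.mem_sup.1 hv'
  obtain ⟨hv0z, hv0f⟩ := hv00
  obtain ⟨hv1z, hv1f⟩ := hv11
  rw [SetLike.mem_coe, mem_fx] at hv0f hv1f hv2
  -- `y v - v = y v1 - v1`
  have hy0 : y v0 = v0 := by simpa using hv0f
  have hyc : ∀ k, ∀ w, (z ^ k * y) w = w → (z ^ k * y) (y w) = y w := by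
    intro k w hw
    have h3 : (z ^ k * y) * y = y * (z ^ k * y) := by
      rw [← mul_assoc, ← (hzy.pow_left k).eq]
    rw [← Module.End.mul_apply, h3, Module.End.mul_apply, hw]
  have h3 : y v - v = y v1 - v1 := by
    rw [← hvv, map_add, hy0]; abel
  have h4 : (z ^ 2 * y) (y v - v) = y v - v := by rw [map_sub, hyc 2 v hv2, hv2]
  have h5 : (z ^ 1 * y) (y v - v) = y v - v := by rw [h3, map_sub, hyc 1 v1 hv1f, hv1f]
  have h6 : y v - v ∈ cm z := (cm z).sub_mem (inv_cm_of_commute hzy.symm v hvz) hvz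
  have h7 := hYY 1 2 (by norm_num) le_rfl _ h6 h5 h4
  have h8 : (z ^ 0 * y) v = v := by
    rw [pow_zero, one_mul]
    exact sub_eq_zero.1 h7
  exact hYY 0 2 (by norm_num) le_rfl v hvz h8 hv2

end Lin

section Grp

variable {T G : Type*} [Group T] [Group G] [Finite G]

omit [Finite G] in
/-- lifting elements of order `r` through a central kernel of order prime to `r` -/
theorem exists_lift {r : ℕ} (π : G →* T) (hπ : Function.Surjective π) (hr : r.Prime) (hrK : ¬ r ∣ Nat.card π.ker)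
    {x : T} (hx : x ^ r = 1) : ∃ g : G, π g = x ∧ g ^ r = 1 := by
  obtain ⟨g, rfl⟩ := hπ x
  have hco : Nat.Coprime (Nat.card π.ker) r := ((hr.coprime_iff_not_dvd).2 hrK).symm
  obtain ⟨l, -, hl⟩ := Nat.exists_mul_mod_eq_one_of_coprime hco hr.one_lt
  have h1 : g ^ r ∈ π.ker := by rw [MonoidHom.mem_ker, map_pow, hx]
  have h2 : (g ^ r) ^ Nat.card π.ker = 1 := by
    have : (⟨g ^ r, h1⟩ : π.ker) ^ Nat.card π.ker = 1 := pow_card_eq_one'
    exact congrArg Subtype.val this
  refine ⟨g ^ (Nat.card π.ker * l), ?_, ?_⟩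
  · rw [map_pow, ← Nat.div_add_mod (Nat.card π.ker * l) r, hl, pow_add, pow_mul, hx, one_pow, one_mul, pow_one]
  · rw [← pow_mul, mul_comm, pow_mul, pow_mul, h2, one_pow]

omit [Finite G] in
/-- **Cyclic primes of linear groups.** -/
theorem cycW_of {F : Type*} [Field F] {V : Type*} [AddCommGroup V] [Module F V] [FiniteDimensional F V] {r d e : ℕ}
    (π : G →* T) (hπ : Function.Surjective π) (hK : π.ker ≤ Subgroup.center G) (hr : r.Prime) (h2 : 2 < r)
    (h0 : (r : F) ≠ 0) (hrK : ¬ r ∣ Nat.card π.ker) (hrT : r ∣ Nat.card T)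
    (ρ : G →* Module.End F V) (hρ : Function.Injective ρ) (he : 0 < e) (hde : d ≤ 2 * e)
    (hd : ∀ g : G, g ^ r = 1 → g ≠ 1 → finrank F (cm (ρ g)) = d)
    (hU : ∀ g : G, g ^ r = 1 → ∀ U : Submodule F V, Inv (ρ g) U → U ⊓ fx (ρ g) = ⊥ → U ≠ ⊥ → e ≤ finrank F U) :
    CycW T r := by
  refine ⟨hr, hrT, fun x y hx hy hxy => ?_⟩
  by_contra hn
  have hxr : x ^ r = 1 := hx ▸ pow_orderOf_eq_one x
  have hyr : y ^ r = 1 := hy ▸ pow_orderOf_eq_one y
  obtain ⟨a, rfl, har⟩ := exists_lift π hπ hr hrK hxr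
  obtain ⟨b, rfl, hbr⟩ := exists_lift π hπ hr hrK hyr
  -- `a` and `b` commute
  have hab : a * b = b * a := by
    have h3 : a * b * a⁻¹ * b⁻¹ ∈ π.ker := by
      rw [MonoidHom.mem_ker, map_mul, map_mul, map_mul, map_inv, map_inv, hxy]
      group
    have hcen := Subgroup.mem_center_iff.1 (hK h3)
    have h4 : a * b * a⁻¹ = (a * b * a⁻¹ * b⁻¹) * b := by group
    have h5 : (a * b * a⁻¹) ^ r = 1 := by rw [conj_pow, hbr, mul_one, mul_inv_cancel]
    have h6 : (a * b * a⁻¹ * b⁻¹) ^ r = 1 := by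
      have hc : Commute (a * b * a⁻¹ * b⁻¹) b := (hcen b).symm
      rw [h4, hc.mul_pow, hbr, mul_one] at h5
      exact h5
    have h7 : (⟨_, h3⟩ : π.ker) = 1 := by
      have h8 : orderOf (⟨_, h3⟩ : π.ker) ∣ r := orderOf_dvd_of_pow_eq_one (Subtype.ext h6)
      have h9 : orderOf (⟨_, h3⟩ : π.ker) ∣ Nat.card π.ker := orderOf_dvd_natCard _
      rcases (Nat.dvd_prime hr).1 h8 with h10 | h10
      · exact orderOf_eq_one_iff.1 h10
      · exact absurd (h10 ▸ h9) hrK
    have h8 : a * b * a⁻¹ * b⁻¹ = 1 := congrArg Subtype.val h7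
    rw [mul_inv_eq_one, mul_inv_eq_iff_eq_mul] at h8
    exact h8
  have hy1 : π b ≠ 1 := by
    intro h
    rw [h, orderOf_one] at hy
    exact hr.one_lt.ne hy
  have hx1 : π a ≠ 1 := by
    intro h
    rw [h, orderOf_one] at hx
    exact hr.one_lt.ne hx
  have key : ∀ i : ℕ, a * b ^ i ≠ 1 := by
    intro i h3
    apply hn
    have h4 : π a = (π b ^ i)⁻¹ := by
      rw [eq_inv_iff_mul_eq_one, ← map_pow, ← map_mul, h3, map_one]
    have h5 : Subgroup.zpowers (π a) ≤ Subgroup.zpowers (π b) := by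
      rw [Subgroup.zpowers_le, h4]
      exact inv_mem (Subgroup.npow_mem_zpowers _ _)
    have hfin : Finite (Subgroup.zpowers (π b)) := by
      apply Nat.finite_of_card_ne_zero
      rw [Nat.card_zpowers, hy]
      exact hr.ne_zero
    have h6 : Subgroup.zpowers (π a) = Subgroup.zpowers (π b) :=
      Subgroup.eq_of_le_of_card_ge h5 (by rw [Nat.card_zpowers, Nat.card_zpowers, hx, hy])
    rw [h6]
    exact Subgroup.mem_zpowers _
  have hρ1 : ∀ g : G, ρ g = 1 → g = 1 := fun g h => hρ (by rw [h, map_one])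
  refine no_rank_two (x := ρ a) (y := ρ b) hr h2 h0 (by rw [← map_pow, har, map_one])
    (by rw [← map_pow, hbr, map_one]) (show ρ a * ρ b = ρ b * ρ a by rw [← map_mul, ← map_mul, hab]) he hde
    ?_ (hU b hbr) ?_ ?_
  · intro i j hij
    rw [← map_pow, ← map_pow, ← map_mul] at hij ⊢
    refine hd _ ?_ fun h => hij (by rw [h, map_one])
    have hc : Commute (a ^ i) (b ^ j) := (show Commute a b from hab).pow_pow i j
    rw [hc.mul_pow, ← pow_mul, ← pow_mul, mul_comm i, mul_comm j, pow_mul, pow_mul, har, hbr, one_pow, one_pow,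
      one_mul]
  · intro h
    exact hy1 (by rw [hρ1 b h, map_one])
  · intro i h
    rw [← map_pow, ← map_mul] at h
    exact key i (hρ1 _ h)

end Grp

end Cfsg.Agent.H884.Cg
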