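import Cfsg.Agent.H884.RowAllB
import Cfsg.Agent.H884.RowAllC
import Cfsg.Agent.H884.RowAllO
import Cfsg.Agent.H597.CycLb
import Cfsg.Agent.H953.CycU
import Cfsg.Agent.H81.CycSRow
import Cfsg.Agent.H358.Cyc.Neg
import Cfsg.Agent.H358.Cyc.NotAdj

/-!
# Rows of the classical groups for S3561 and S3679 (helper884)

`T` a concrete classical simple group over `F`, `q = |F|` (`q² = |F|` for the unitary groups), `M` a maximal (or
proper) subgroup. `IGap T M`: some cyclic prime of `T` divides `|T : M|`.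

* `row_psl`    : `n ≥ 4`, not `L4(2)`, `L6(2)`: `IGap`;
* `row_psu`    : `n ≥ 4`, not `U4(2)`, `U5(2)`: `IGap`, or the socle of `M` is in `excI` (`U4(3)`, `U6(2)`);
  `row_psu'`   : `n ≥ 4`, `(n, q) ≠ (4, 3)`, not (`q = 2`, `n ≤ 6`): `IGap`;
* `row_psp`    : `m ≥ 3`, not `S6(2)`: `IGap`, or `m`, `q` even and `M` fixes a quadratic form of minus type, or
  `m` even and the socle of `M` is `Ω^-_{2m}(q)`;
* `row_psp2`   : `m = 2`, `q ≥ 4`: `IGap`, or `SpecM` (quadratic form or field of degree 2), or the socle of `M`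
  is of Lie type in characteristic `p`;
* `row_oodd`   : `m ≥ 3`, not `O7(3)`: `IGap`, or `m` even and `M` fixes a nonsingular point with complement of minus
  type, or `m` even and the socle of `M` is `Ω^-_{2m}(q)`;
* `row_ominus` : `m ≥ 4`: `IGap`;
* `row_oplus`  : `m ≥ 5`: `IGap`, or `m` even and `M` fixes a nonsingular point, or `m` even and the socle of `M` is
  `PSp_{2m-2}(q)`, `Ω_{2m-1}(q)`;
* `row_oplus4` : `m = 4`, `q ≥ 3`: `IGap`, or `M` fixes a nonsingular point, or the socle of `M` is in `excI` (`q = 3`,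
  `4`), or is `Ω_7(q)`, `PSp_6(q)`, `G_2(q)`, `PSL_2(q³)`, or `Sz(8)` (`q = 4`).
-/

set_option autoImplicit false

namespace Cfsg.Agent.H884.Row

open Cfsg Cfsg.Geo Cfsg.Agent.OrdDiv Cfsg.Agent.H436 Cfsg.Agent.H264.FKS Cfsg.Agent.H915.GN
open Cfsg.Agent.H278.El.SporNum (IsCl)
open Cfsg.Agent.H278.El.AltNum (dimOf)
open Cfsg.Agent.H884.Ig Cfsg.Agent.H899.CG Cfsg.Agent.H358.Cyc Cfsg.Agent.LieClassical Cfsg.Agent.H955
open Cfsg.Agent.LieClassical.OmegaReindex
open scoped MatrixGroups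

variable {F : Type} [Field F] [Fintype F]

theorem exists_pf (F : Type) [Field F] [Fintype F] : ∃ p f, p.Prime ∧ 1 ≤ f ∧ Fintype.card F = p ^ f ∧
    p ∣ Fintype.card F := by
  obtain ⟨p, f, hp, hf, h⟩ := (isPrimePow_nat_iff _).1 (Fintype.isPrimePow_card_of_field (α := F))
  exact ⟨p, f, hp, by omega, h.symm, h ▸ dvd_pow_self p (by omega)⟩

/-- the primes of an exponent in `InE` -/
theorem hc_in {T : Type} [Group T] [Finite T] [IsSimpleGroup T] (hna : ¬ ∀ x y : T, x * y = y * x) {g : Grp}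
    {p f e : ℕ} (hp : p.Prime) (hf : 1 ≤ f) (hT : IsNamed g T) (hch : HasChar p g) (he : InE g e)
    (hq : Cx.fq g = p ^ f) {M : Subgroup T} (hM : ¬ IGap T M) : HC p f e M :=
  (CP.of_ndf hp hf fun _ h1 h2 => cyc_named hna hp hT hch he (hq ▸ h1) (hq ▸ h2)).hc hM

/-- **`PSL_n(q)`, `n ≥ 4`.** -/
theorem row_psl (tab : OrderTable.{0}) (hK : KnownS) {n : ℕ} (hn : 4 ≤ n)
    (h4 : ¬ (Fintype.card F = 2 ∧ n = 4)) (h6 : ¬ (Fintype.card F = 2 ∧ n = 6))
    {M : Subgroup (Matrix.ProjectiveSpecialLinearGroup (Fin n) F)} (hM : IsCoatom M) : IGap _ M := by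
  by_contra hg
  obtain ⟨p, f, hp, hf, hpf, hpF⟩ := exists_pf F
  have hfin : Finite (Matrix.ProjectiveSpecialLinearGroup (Fin n) F) := Quotient.finite _
  have hT : IsNamed (.psl n (Fintype.card F)) (Matrix.ProjectiveSpecialLinearGroup (Fin n) F) :=
    nm_psl F (by omega) (by omega)
  have hc : ∀ e, 3 ≤ e → e ≤ n → n < 2 * e → HC p f e M := fun e h1 h2 h3 =>
    (CP.of_ndf hp hf fun u h4 h5 => H597.CycL.cyc_psl h1 h2 h3 (hpf ▸ h4) (hpf ▸ h5)).hc hg
  rcases H597.CycL.geo_cyc hn h6 hM with h | h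
  · exact hg h
  · rcases res_psl tab hK outSpor (by omega) hp hpF h with h | ⟨g, -, h⟩ | ⟨g, ⟨S, hSn, hSs, hna, hC, hS, -⟩, hch⟩
    · exact hg h
    · simp only [excI, List.mem_cons, Prod.mk.injEq, Grp.psl.injEq, reduceCtorEq, and_false, or_false,
        false_or, List.not_mem_nil] at h
      omega
    · rw [hpf] at hT h4 h6
      exact ig_psl hT hp hf hn (fun h => h4 ⟨h.2, h.1⟩) (fun h => h6 ⟨h.2, h.1⟩)
        (hc n (by omega) le_rfl (by omega)) (hc (n - 1) (by omega) (by omega) (by omega)) hM.1 S hna hC hS hch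

/-- **`PSU_n(q)`, `n ≥ 4`.** -/
theorem row_psu (tab : OrderTable.{0}) (hK : KnownS) {n q : ℕ} (hF : Fintype.card F = q ^ 2) (hn : 4 ≤ n)
    (h2 : ¬ (q = 2 ∧ n ≤ 5)) {M : Subgroup (PSU n F q)} (hM : M ≠ ⊤) :
    IGap _ M ∨ ∃ g, ASR g M (H251.GeoU.pre M) ∧ (g, Grp.psu n q) ∈ excI := by
  by_cases hg : IGap _ M
  · exact .inl hg
  right
  have : Finite (SU n F q) := Finite.of_injective _ H918.suHom_injective
  have hfin : Finite (PSU n F q) := Quotient.finite _
  have hT := nm_psu F hF (n := n) (by omega) (by omega)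
  obtain ⟨p, f, hp, hf, hpf⟩ := (isPrimePow_nat_iff _).1 hT.cond.2.2
  have hpq : p ∣ q := hpf ▸ dvd_pow_self p (by omega)
  subst hpf
  have hcc : ∀ e m, 3 ≤ m → m ≤ n → n < 2 * m → (∀ u, Prim (p ^ f) e u → orderOf (-((p ^ f : ℕ) : ZMod u)) = m) →
      HC p f e M := fun e m h1 h2 h3 h4 =>
    (CP.of_ndf hp (by omega) fun u h5 h6 => H953.CycU.cyc_psu hF h1 h2 h3 h5.prime (h4 u h5) h6).hc hg
  rcases H953.CycU.geoU_gap hF hn h2 M hM with h | h
  · exact absurd h.iGap hg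
  · rcases res_psu tab hK outSpor hF (by omega) (by omega) hp hpq h with h | h |
      ⟨g, ⟨S, hSn, hSs, hna, hC, hS, -⟩, hch⟩
    · exact absurd h hg
    · exact h
    · exfalso
      obtain ⟨N, hN⟩ : ∃ N, N = if n % 2 = 0 then n - 1 else n := ⟨_, rfl⟩
      have hN2 : (n % 2 = 0 ∧ N = n - 1) ∨ (n % 2 = 1 ∧ N = n) := by
        rw [hN]
        split_ifs with h
        · exact .inl ⟨h, rfl⟩
        · exact .inr ⟨by omega, rfl⟩
      refine ig_psu hT hp (by omega) hn hN (fun h => h2 ⟨h.2, by omega⟩) (fun h => h2 ⟨h.2, by omega⟩)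
        (hcc _ N (by omega) (by omega) (by omega) fun u hu => orderOf_neg_odd hu (by omega))
        (fun h5 h6 => hcc _ (N - 2) (by omega) (by omega) (by omega) fun u hu => orderOf_neg_odd hu (by omega))
        (fun h5 => hcc _ n (by omega) le_rfl (by omega) fun u hu => orderOf_neg_four hu h5 (by omega))
        (fun h5 => hcc _ n (by omega) le_rfl (by omega) fun u hu => orderOf_neg_two hu h5 (by
          have := prim_lt (Nat.one_le_pow _ _ hp.pos) hu
          omega))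
        (fun h5 => hcc _ 4 (by omega) (by omega) (by omega) fun u hu => orderOf_neg_four hu (by norm_num) (by norm_num))
        hM S hna hC hS hch

/-- **`PSU_n(q)`, `n ≥ 4`, not `U4(3)` and not `q = 2`, `n ≤ 6`.** -/
theorem row_psu' (tab : OrderTable.{0}) (hK : KnownS) {n q : ℕ} (hF : Fintype.card F = q ^ 2) (hn : 4 ≤ n)
    (h2 : ¬ (q = 2 ∧ n ≤ 6)) (h3 : ¬ (n = 4 ∧ q = 3)) {M : Subgroup (PSU n F q)} (hM : M ≠ ⊤) : IGap _ M := by
  rcases row_psu tab hK hF hn (fun h => h2 ⟨h.1, by omega⟩) hM with h | ⟨g, -, h⟩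
  · exact h
  · simp only [excI, List.mem_cons, Prod.mk.injEq, Grp.psu.injEq, reduceCtorEq, and_false, or_false,
      false_or, List.not_mem_nil] at h
    omega

/-- **`PSp_2m(q)`, `m ≥ 3`.** -/
theorem row_psp (tab : OrderTable.{0}) (hK : KnownS) {m : ℕ} (hm : 3 ≤ m) (h32 : ¬ (m = 3 ∧ Fintype.card F = 2))
    {M : Subgroup (PSp m F)} (hM : M ≠ ⊤) : IGap _ M ∨
      (Even m ∧ Even (Fintype.card F) ∧ ∃ Q : QuadraticForm F (Fin m ⊕ Fin m → F),
        IsNondegenerateQuadraticForm (⇑Q) ∧ LieClassical.OrthCore.Nondeg Q ∧ ¬ H955.IsPlus Q ∧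
        (∀ u v, QuadraticMap.polar (⇑Q) u v = sympForm m F u v) ∧ H262.El.pre M ≤ isometryGroup F (⇑Q)) ∨
      (Even m ∧ ASR (.ominus m (Fintype.card F)) M (H262.El.pre M)) := by
  by_cases hg : IGap _ M
  · exact .inl hg
  right
  obtain ⟨p, f, hp, hf, hpf, hpF⟩ := exists_pf F
  have hfin : Finite (PSp m F) := Quotient.finite _
  have hT : IsNamed (.psp m (Fintype.card F)) (PSp m F) := nm_psp F (by omega) (by omega)
  have hc : ∀ e, 3 ≤ e → (Even e ∧ e ≤ 2 * m ∧ m < e) ∨ (Odd e ∧ e ≤ m ∧ m < 2 * e) → HC p f e M := fun e h1 h2 =>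
    (CP.of_ndf hp hf fun u h4 h5 => H81.CycS.cyc_psp h1 h2 (hpf ▸ h4) (hpf ▸ h5)).hc hg
  rcases H81.CycS.igap_psp_three hm h32 hM with h | h | h
  · exact absurd h hg
  · rcases res_psp tab hK outSpor (by omega) (by omega) hp hpF h with h | ⟨g, -, h⟩ |
      ⟨g, ⟨S, hSn, hSs, hna, hC, hS, hP⟩, hch⟩
    · exact absurd h hg
    · simp only [excI, List.mem_cons, Prod.mk.injEq, Grp.psp.injEq, reduceCtorEq, and_false, or_false,
        false_or, List.not_mem_nil] at h
      omega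
    · rw [hpf] at hT h32
      obtain ⟨h3, h4⟩ := ig_psp hT hp hf hm h32 (hc (2 * m) (by omega) (.inl ⟨even_two_mul m, le_rfl, by omega⟩))
        (hc (2 * (m - 1)) (by omega) (.inl ⟨even_two_mul _, by omega, by omega⟩))
        (fun h5 => hc m hm (.inr ⟨Nat.odd_iff.2 h5, le_rfl, by omega⟩))
        (fun h5 h6 => hc 3 le_rfl (.inr ⟨by decide, by omega, by omega⟩)) hM S hna hC hS hch
      rw [← hpf] at h4
      subst h4
      exact .inr ⟨Nat.even_iff.2 h3, S, hSn, hSs, hna, hC, hS, hP⟩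
  · exact .inl h

/-- **`PSp_4(q)`, `q ≥ 4`.** -/
theorem row_psp2 (tab : OrderTable.{0}) (hK : KnownS) (hF : 4 ≤ Fintype.card F) {p : ℕ} (hp : p.Prime)
    (hpF : p ∣ Fintype.card F) {M : Subgroup (PSp 2 F)} (hM : M ≠ ⊤) : IGap _ M ∨
      H81.CycS.SpecM 2 F (H262.El.pre M) ∨ ∃ g, ASR g M (H262.El.pre M) ∧ HasChar p g := by
  rcases H81.CycS.igap_psp_two hF hM with h | h | h
  · exact .inl h
  · rcases res_psp tab hK outSpor (by omega) (by omega) hp hpF h with h | ⟨g, -, h⟩ | h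
    · exact .inl h
    · simp only [excI, List.mem_cons, Prod.mk.injEq, Grp.psp.injEq, reduceCtorEq, and_false, or_false,
        false_or, List.not_mem_nil] at h
      omega
    · exact .inr (.inr h)
  · exact .inr (.inl h)

/-- **`Ω_{2m+1}(q)`, `m ≥ 3`.** -/
theorem row_oodd (tab : OrderTable.{0}) (hK : KnownS) {m : ℕ} (hm : 3 ≤ m) (hodd : Odd (Fintype.card F))
    (h33 : ¬ (m = 3 ∧ Fintype.card F = 3)) {M : Subgroup (POmega F (quadFormOdd m F))} (hM : M ≠ ⊤) : IGap _ M ∨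
      (Even m ∧ ∃ v, quadFormOdd m F v ≠ 0 ∧
        H884.El.pre (quadFormOdd m F) M ≤ subspaceStabilizer (Submodule.span F {v}) ∧
        ¬ IsPlus (res (quadOdd m F) (perp (quadOdd m F) (Submodule.span F {v})))) ∨
      (Even m ∧ ASR (.ominus m (Fintype.card F)) M (H884.El.pre (quadFormOdd m F) M)) := by
  by_cases hg : IGap _ M
  · exact .inl hg
  right
  obtain ⟨p, f, hp, hf, hpf, hpF⟩ := exists_pf F
  have hs : IsSimpleGroup (POmega F (quadFormOdd m F)) := S0295.result hodd m hm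
  have hfin : Finite (POmega F (quadFormOdd m F)) := Quotient.finite _
  have hT : IsNamed (.oodd m (Fintype.card F)) (POmega F (quadFormOdd m F)) := nm_oodd F hm hodd
  rcases cg_odd' hm hodd M with h | h | h
  · exact absurd h.iGap hg
  · rcases res_oodd tab hK outSpor hm hodd hp hpF h with h | ⟨g, -, h⟩ | ⟨g, ⟨S, hSn, hSs, hna, hC, hS, hP⟩, hch⟩
    · exact absurd h hg
    · simp only [excI, List.mem_cons, Prod.mk.injEq, Grp.oodd.injEq, reduceCtorEq, and_false, or_false,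
        List.not_mem_nil] at h
      omega
    · have hnaT : ¬ ∀ x y : POmega F (quadFormOdd m F), x * y = y * x := fun h =>
        hna ⟨⟨fun a b => Subtype.ext (Subtype.ext (h _ _))⟩⟩
      have hc : ∀ e, InE (.oodd m (Fintype.card F)) e → HC p f e M := fun e he =>
        hc_in hnaT hp hf hT ⟨f, hpf⟩ he hpf hg
      rw [hpf] at hT
      obtain ⟨h3, h4⟩ := ig_oodd hT hp hf hm (hc _ (by simp only [InE]; omega)) (hc _ (by simp only [InE]; omega))
        (fun h5 => hc _ (by simp only [InE]; omega)) hM S hna hC hS hch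
      rw [← hpf] at h4
      subst h4
      exact .inr ⟨Nat.even_iff.2 h3, S, hSn, hSs, hna, hC, hS, hP⟩
  · exact .inl h

/-- **`PΩ⁻_{2m}(q)`, `m ≥ 4`.** -/
theorem row_ominus (tab : OrderTable.{0}) (hK : KnownS) {m : ℕ} (hm : 4 ≤ m) {a b : F}
    (hab : ∀ z₁ z₂ : F, z₁ ^ 2 + a * z₁ * z₂ + b * z₂ ^ 2 = 0 → z₁ = 0 ∧ z₂ = 0)
    {M : Subgroup (POmega F (quadFormMinus (m - 1) F a b))} (hM : M ≠ ⊤) : IGap _ M := by
  by_contra hg
  obtain ⟨p, f, hp, hf, hpf, hpF⟩ := exists_pf F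
  have hs : IsSimpleGroup (POmega F (quadFormMinus (m - 1) F a b)) := S0297.result m hm a b hab
  have hfin : Finite (POmega F (quadFormMinus (m - 1) F a b)) := Quotient.finite _
  have hT : IsNamed (.ominus m (Fintype.card F)) (POmega F (quadFormMinus (m - 1) F a b)) := nm_ominus F hm hab
  rcases Cg.cg_minus hm hab M with h | h
  · exact hg h.iGap
  · rcases res_ominus tab hK outSpor hm hab hp hpF h with h | ⟨g, -, h⟩ | ⟨g, ⟨S, hSn, hSs, hna, hC, hS, hP⟩, hch⟩
    · exact hg h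
    · simp only [excI, List.mem_cons, Prod.mk.injEq, reduceCtorEq, and_false, or_false, List.not_mem_nil] at h
    · have hnaT : ¬ ∀ x y : POmega F (quadFormMinus (m - 1) F a b), x * y = y * x := fun h =>
        hna ⟨⟨fun a b => Subtype.ext (Subtype.ext (h _ _))⟩⟩
      have hc : ∀ e, InE (.ominus m (Fintype.card F)) e → HC p f e M := fun e he =>
        hc_in hnaT hp hf hT ⟨f, hpf⟩ he hpf hg
      rw [hpf] at hT
      exact ig_ominus hT hp hf hm (hc _ (by simp only [InE]; omega)) (hc _ (by simp only [InE]; omega))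
        (fun h5 h6 => hc 3 (Or.inr ⟨rfl, le_rfl, by omega, by omega⟩)) hM S hna hC hS hch

/-- **`PΩ⁺_{2m}(q)`, `m ≥ 5`.** -/
theorem row_oplus (tab : OrderTable.{0}) (hK : KnownS) {m : ℕ} (hm : 5 ≤ m)
    {M : Subgroup (POmega F (quadFormPlus m F))} (hM : M ≠ ⊤) : IGap _ M ∨
      (Even m ∧ ∃ v, quadFormPlus m F v ≠ 0 ∧
        H884.El.pre (quadFormPlus m F) M ≤ subspaceStabilizer (Submodule.span F {v})) ∨
      (Even m ∧ (ASR (.psp (m - 1) (Fintype.card F)) M (H884.El.pre (quadFormPlus m F) M) ∨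
        ASR (.oodd (m - 1) (Fintype.card F)) M (H884.El.pre (quadFormPlus m F) M))) := by
  by_cases hg : IGap _ M
  · exact .inl hg
  right
  obtain ⟨p, f, hp, hf, hpf, hpF⟩ := exists_pf F
  have hs : IsSimpleGroup (POmega F (quadFormPlus m F)) := S0296.result m (by omega)
  have hfin : Finite (POmega F (quadFormPlus m F)) := Quotient.finite _
  have hT : IsNamed (.oplus m (Fintype.card F)) (POmega F (quadFormPlus m F)) := nm_oplus F (by omega)
  rcases Cg.cg_plus (by omega) (by omega) M with h | h | h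
  · exact absurd h.iGap hg
  · rcases res_oplus tab hK outSpor (by omega) hp hpF h with h | ⟨g, -, h⟩ | ⟨g, ⟨S, hSn, hSs, hna, hC, hS, hP⟩, hch⟩
    · exact absurd h hg
    · simp only [excI, List.mem_cons, Prod.mk.injEq, Grp.oplus.injEq, reduceCtorEq, and_false, or_false,
        false_or, List.not_mem_nil] at h
      omega
    · have hnaT : ¬ ∀ x y : POmega F (quadFormPlus m F), x * y = y * x := fun h =>
        hna ⟨⟨fun a b => Subtype.ext (Subtype.ext (h _ _))⟩⟩
      have hc : ∀ e, InE (.oplus m (Fintype.card F)) e → HC p f e M := fun e he =>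
        hc_in hnaT hp hf hT ⟨f, hpf⟩ he hpf hg
      rw [hpf] at hT
      obtain ⟨h3, h4⟩ := ig_oplus' hT hp hf hm (hc _ (by simp only [InE]; omega)) (hc _ (by simp only [InE]; omega))
        (fun h5 => hc _ (by simp only [InE]; omega)) (fun h5 => hc _ (by simp only [InE]; omega)) hM S hna hC hS hch
      rw [← hpf] at h4
      refine .inr ⟨Nat.even_iff.2 h3, ?_⟩
      rcases h4 with rfl | rfl
      · exact .inl ⟨S, hSn, hSs, hna, hC, hS, hP⟩
      · exact .inr ⟨S, hSn, hSs, hna, hC, hS, hP⟩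
  · exact .inl h

/-- **`PΩ⁺_8(q)`, `q ≥ 3`.** -/
theorem row_oplus4 (tab : OrderTable.{0}) (hK : KnownS) (h2 : Fintype.card F ≠ 2)
    {M : Subgroup (POmega F (quadFormPlus 4 F))} (hM : M ≠ ⊤) : IGap _ M ∨
      (∃ v, quadFormPlus 4 F v ≠ 0 ∧
        H884.El.pre (quadFormPlus 4 F) M ≤ subspaceStabilizer (Submodule.span F {v})) ∨
      (∃ g, ASR g M (H884.El.pre (quadFormPlus 4 F) M) ∧
        ((Fintype.card F = 3 ∧ (g = .sz 8 ∨ g = .g2 4 ∨ g = .psl 2 13)) ∨ (Fintype.card F = 4 ∧ g = .psl 2 13))) ∨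
      ∃ g, ASR g M (H884.El.pre (quadFormPlus 4 F) M) ∧ (g = .oodd 3 (Fintype.card F) ∨
        g = .psp 3 (Fintype.card F) ∨ g = .g2 (Fintype.card F) ∨
        g = .psl 2 (Fintype.card F ^ 3) ∨ (Fintype.card F = 4 ∧ g = .sz 8)) := by
  by_cases hg : IGap _ M
  · exact .inl hg
  right
  obtain ⟨p, f, hp, hf, hpf, hpF⟩ := exists_pf F
  have hs : IsSimpleGroup (POmega F (quadFormPlus 4 F)) := S0296.result 4 le_rfl
  have hfin : Finite (POmega F (quadFormPlus 4 F)) := Quotient.finite _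
  have hT : IsNamed (.oplus 4 (Fintype.card F)) (POmega F (quadFormPlus 4 F)) := nm_oplus F le_rfl
  rcases Cg.cg_plus le_rfl (by rw [Nat.card_eq_fintype_card]; omega) M with h | h | ⟨-, h⟩
  · exact absurd h.iGap hg
  · rcases res_oplus tab hK outSpor le_rfl hp hpF h with h | ⟨g, hA, h⟩ | ⟨g, ⟨S, hSn, hSs, hna, hC, hS, hP⟩, hch⟩
    · exact absurd h hg
    · refine .inr (.inl ⟨g, hA, ?_⟩)
      simp only [excI, List.mem_cons, Prod.mk.injEq, Grp.oplus.injEq, reduceCtorEq, and_false, or_false,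
        false_or, List.not_mem_nil, true_and] at h
      tauto
    · have hnaT : ¬ ∀ x y : POmega F (quadFormPlus 4 F), x * y = y * x := fun h =>
        hna ⟨⟨fun a b => Subtype.ext (Subtype.ext (h _ _))⟩⟩
      have hc : ∀ e, InE (.oplus 4 (Fintype.card F)) e → HC p f e M := fun e he =>
        hc_in hnaT hp hf hT ⟨f, hpf⟩ he hpf hg
      rw [hpf] at hT
      have h4 := ig_oplus4' hT hp hf (by rw [← hpf]; exact h2)
        (hc 6 (Or.inl ⟨rfl, by norm_num, by norm_num, by norm_num⟩))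
        (hc 3 (Or.inr ⟨rfl, le_rfl, by norm_num, by norm_num⟩)) hM S hna hC hS hch
      rw [show p ^ (3 * f) = (p ^ f) ^ 3 by rw [← pow_mul, mul_comm], ← hpf] at h4
      exact .inr (.inr ⟨g, ⟨S, hSn, hSs, hna, hC, hS, hP⟩, h4⟩)
  · exact .inl h

end Cfsg.Agent.H884.Row
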