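import Cfsg.Agent.H278.ElFamA
import Cfsg.Agent.H884.CxMain
import Cfsg.Agent.H834.Sax.Uni
import Cfsg.Agent.H947.El.PsuC

/-!
# `OGMax` for the unitary groups (task 2617, for S2498 and S2528)

* `pgap_psu3`  : maximal subgroups of `PSU₃(q)`, `q ≥ 4`, `q ≠ 5`, miss a prime;
* `miss_psu`   : proper subgroups of `PSU_n(q)`, `n ≥ 4`, miss a prime, except for `U₄(2)`, `U₅(2)`, `U₆(2)`, `U₄(3)`;
* `ogMax_psu`  : every maximal subgroup of `PSU_n(q)`, `n ≥ 3`, misses an element order.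
-/

set_option autoImplicit false
set_option linter.style.haveILetI false

namespace Cfsg.Agent.H884.Sax

open Cfsg Cfsg.Geo Cfsg.Agent.OrdDiv Cfsg.Agent.H436 Cfsg.Agent.H264.FKS Cfsg.Agent.H915.GN
open Cfsg.Agent.H278.El.Asm (CrossRowM)
open Cfsg.Agent.H947.El Cfsg.Agent.H947.Sq Cfsg.Agent.H918 Cfsg.Agent.H907.Mx
open Cfsg.Agent.H938.Sax (PGap OGMax)
open scoped MatrixGroups

/-- maximal subgroups of `PSU₃(q)`, `q ≥ 4`, `q ≠ 5`, miss a prime -/
theorem pgap_psu3 {F : Type*} [Field F] [Fintype F] {q : ℕ} (hF : Fintype.card F = q ^ 2) (hq : 4 ≤ q) (h5 : q ≠ 5)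
    {M : Subgroup (PSU 3 F q)} (hM : IsCoatom M) : PGap (PSU 3 F q) M := by
  by_contra hD
  have hq3 : 3 ≤ q := by omega
  have hfin : Finite (PSU 3 F q) := Quotient.finite _
  have hall : ∀ s : ℕ, s.Prime → s ∣ Nat.card (PSU 3 F q) → s ∣ Nat.card M := by
    intro s hs hd
    by_contra hn
    exact hD ⟨s, hs, hd, hn⟩
  obtain ⟨p, n, r, h, hchar⟩ := exists_PN hF hq3
  obtain ⟨hrT, h2T, -⟩ := psu3_orders hF h
  have hf2 : Fact (Nat.Prime 2) := ⟨Nat.prime_two⟩
  have hfr : Fact r.Prime := ⟨h.pr⟩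
  set π := QuotientGroup.mk' (Subgroup.center (Cfsg.SU 3 F q)) with hπ
  have hπs : Function.Surjective π := QuotientGroup.mk'_surjective _
  set ι := suHom 3 F q with hι
  have hιi : Function.Injective ι := suHom_injective
  set H := (M.comap π).map ι with hHd
  have hH : IsMaximalIn (SUg 3 F q) H := by
    have := isMaximalIn_of_coatom π hπs ι hιi hM
    rwa [range_suHom] at this
  have hcMπ : Nat.card M ∣ Nat.card (M.comap π) := by
    have h1 : (M.comap π).map π = M := Subgroup.map_comap_eq_self_of_surjective hπs M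
    have h2 : Nat.card ((M.comap π).map π) ∣ Nat.card (M.comap π) := Subgroup.card_map_dvd _ _
    rwa [h1] at h2
  have hcH : Nat.card (M.comap π) = Nat.card H := (Subgroup.card_map_of_injective hιi).symm
  have hMH : Nat.card M ∣ Nat.card H := hcH ▸ hcMπ
  have hfinS : Finite (Cfsg.SU 3 F q) := inferInstance
  obtain ⟨x, hx⟩ := exists_prime_orderOf_dvd_card' (G := H) r ((hall r h.pr hrT).trans hMH)
  obtain ⟨t, ht⟩ := exists_prime_orderOf_dvd_card' (G := H) 2 ((hall 2 Nat.prime_two h2T).trans hMH)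
  have hxo : orderOf (x : GL (Fin 3) F) = r := by rw [Subgroup.orderOf_coe, hx]
  have hto : orderOf (t : GL (Fin 3) F) = 2 := by rw [Subgroup.orderOf_coe, ht]
  have hres := geom_false hF hq3 h hH x.2 t.2 (by rw [← hxo]; exact pow_orderOf_eq_one _)
    (by intro h1; rw [h1, orderOf_one] at hxo; exact h.pr.one_lt.ne hxo)
    (by rw [← pow_two, ← hto]; exact pow_orderOf_eq_one _)
    (by intro h1; rw [h1, orderOf_one] at hto; omega)
  obtain ⟨P, hP, hqp, hcases⟩ := Cfsg.Agent.S5779.result q hF hq3 H hH hres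
  have hge := h.ge
  have hn := h.n0
  have hHS : H ≤ SUg 3 F q := hH.1.le
  have hrH : r ∣ Nat.card H := (hall r h.pr hrT).trans hMH
  have hdvdH : Nat.card H ∣ 3 * Nat.card (MulAut (PQ P)) := card_dvd hP hHS
  rcases hcases with ⟨⟨e⟩, hq5, hq7⟩ | ⟨⟨e⟩, -⟩ | ⟨⟨e⟩, hq5⟩
  · have h1008 : Nat.card H ∣ 1008 := card_dvd_l32 hP hHS ⟨e⟩
    have hqT : q ∣ Nat.card (PSU 3 F q) := by
      have hcard := Cfsg.Agent.H394.SqPsu3.card_psu3 hF
      have h2 : q ∣ Nat.gcd 3 (q + 1) * Nat.card (PSU 3 F q) := by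
        rw [hcard]; exact (dvd_pow_self q (by norm_num)).mul_right _
      refine (hqp.dvd_mul.1 h2).resolve_left fun h3 => ?_
      have h4 := h3.trans (Nat.gcd_dvd_right 3 (q + 1))
      exact hqp.one_lt.ne' (Nat.dvd_one.1 ((Nat.dvd_add_right (dvd_refl q)).1 h4))
    have h1 := ((hall q hqp hqT).trans hMH).trans h1008
    have h2 : q ∣ 2 ^ 4 * 3 ^ 2 * 7 := by norm_num; exact h1
    rcases hqp.dvd_mul.1 h2 with h3 | h3
    · rcases hqp.dvd_mul.1 h3 with h4 | h4
      · have := Nat.le_of_dvd (by norm_num) (hqp.dvd_of_dvd_pow h4); omega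
      · have := Nat.le_of_dvd (by norm_num) (hqp.dvd_of_dvd_pow h4); omega
    · have := (Nat.prime_dvd_prime_iff_eq hqp (by norm_num)).1 h3
      omega
  · have h4320 : Nat.card H ∣ 4320 := card_dvd_a6 hP hHS ⟨e⟩
    have h2 : r ∣ 2 ^ 5 * 3 ^ 3 * 5 := by norm_num; exact hrH.trans h4320
    rcases h.pr.dvd_mul.1 h2 with h3 | h3
    · rcases h.pr.dvd_mul.1 h3 with h4 | h4
      · have := Nat.le_of_dvd (by norm_num) (h.pr.dvd_of_dvd_pow h4); omega
      · have := Nat.le_of_dvd (by norm_num) (h.pr.dvd_of_dvd_pow h4); omega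
    · have := Nat.le_of_dvd (by norm_num) h3; omega
  · exact h5 hq5

/-- the cross characteristic row of `PSU_n(q)`, `n ≥ 4` -/
theorem crossRowM_psu {F : Type} [Field F] [Fintype F] {n p q : ℕ} (hF : Fintype.card F = q ^ 2) (hp : p.Prime)
    (hpq : p ∣ q) (hn : 4 ≤ n) (h2 : ¬ (q = 2 ∧ n ≤ 6)) (h3 : ¬ (n = 4 ∧ q = 3)) :
    CrossRowM p (PSU n F q) (Fin n) F := by
  intro R hR S hSn hSs hna hC H P hP e s g hsp hne hS hch
  have hfin : Finite (PSU n F q) := Quotient.finite _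
  have hT : IsNamed (.psu n q) (PSU n F q) := named_psu (F := F) hF (by omega) (by omega)
  have hpF : p ∣ Fintype.card F := hF ▸ (hpq.trans (dvd_pow_self q (by norm_num)))
  obtain ⟨p', f, hp', hf, hpf⟩ := (isPrimePow_nat_iff _).1 hT.cond.2.2
  have hpp : p = p' := by
    rw [← hpf] at hpq
    exact (Nat.prime_dvd_prime_iff_eq hp hp').1 (hp.dvd_of_dvd_pow hpq)
  have hchp : CharP F p := by
    obtain ⟨r, hr⟩ := CharP.exists F
    obtain ⟨m, hrp, hm⟩ := FiniteField.card F r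
    rw [hm] at hpF
    have h1 : p = r := (Nat.prime_dvd_prime_iff_eq hp hrp).1 (hp.dvd_of_dvd_pow hpF)
    rw [h1]
    exact hr
  obtain ⟨e⟩ := e
  rcases H884.Cx.cross_row hp hT trivial ⟨f, by rw [hpp, hpf]⟩ (Fintype.card_fin n) S hna hC hP.perfect e hsp hne hS
    hch with h | h
  · exact h
  · simp only [H884.Cx.excP, List.mem_cons, Prod.mk.injEq, Grp.psu.injEq, reduceCtorEq, and_false, or_false,
      false_or, List.not_mem_nil] at h
    omega

/-- proper subgroups of `PSU_n(q)`, `n ≥ 4`, miss a prime -/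
theorem miss_psu (tab : OrderTable.{0}) (hK : ∀ (X : Type) [Group X] [Finite X] [IsSimpleGroup X],
    Cfsg.IsKnownSimple' X) {F : Type} [Field F] [Fintype F] {n q : ℕ} (hF : Fintype.card F = q ^ 2) (hq : IsPrimePow q)
    (hn : 4 ≤ n) (h2 : ¬ (q = 2 ∧ n ≤ 6)) (h3 : ¬ (n = 4 ∧ q = 3)) {R : Subgroup (PSU n F q)} (hR : R ≠ ⊤) :
    PGap (PSU n F q) R := by
  obtain ⟨p, f, hp, hf, hpf⟩ := (isPrimePow_nat_iff _).1 hq
  have hpq : p ∣ q := hpf ▸ dvd_pow_self p hf.ne'
  exact H278.El.Asm.psu_row tab hK hF hp hpq hn h2 h3 (crossRowM_psu hF hp hpq hn h2 h3) hR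

/-- **`OGMax` for `PSU_n(q)`, `n ≥ 3`.** -/
theorem ogMax_psu (tab : OrderTable.{0}) (hK : ∀ (X : Type) [Group X] [Finite X] [IsSimpleGroup X],
    Cfsg.IsKnownSimple' X) {T : Type} [Group T] [Finite T] {n q : ℕ} (hT : IsNamed (.psu n q) T) (hn : 3 ≤ n) :
    OGMax T := by
  obtain ⟨F, i1, i2, hF, ⟨e⟩⟩ := hT.real
  have hc := hT.cond
  have hq := hc.2.2
  have hq2 := hq.two_le
  refine OGMax.congr (T := PSU n F q) e.symm ?_
  rcases Nat.lt_or_ge n 4 with h | h
  · obtain rfl : n = 3 := by omega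
    by_cases h3 : q = 3
    · subst h3; exact H834.Sax.ogMax_u33 tab hK hF
    by_cases h5 : q = 5
    · subst h5; exact H834.Sax.ogMax_u35 tab hK hF
    have h2 : q ≠ 2 := fun h2 => hc.2.1 ⟨rfl, h2⟩
    have hfin : Finite (PSU 3 F q) := Quotient.finite _
    exact fun M hM => (pgap_psu3 hF (by omega) h5 hM).ordGap
  · have hfin : Finite (PSU n F q) := Quotient.finite _
    by_cases h1 : q = 2 ∧ n ≤ 6
    · obtain ⟨rfl, hn6⟩ := h1
      have h456 : n = 4 ∨ n = 5 ∨ n = 6 := by omega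
      rcases h456 with rfl | rfl | rfl
      · exact H834.Sax.ogMax_u42 tab hK hF
      · exact H834.Sax.ogMax_u5 tab hK hF
      · exact H834.Sax.ogMax_u6 tab hK hF
    · by_cases h2 : n = 4 ∧ q = 3
      · obtain ⟨rfl, rfl⟩ := h2
        exact H834.Sax.ogMax_u43 tab hK hF
      · exact fun M hM => (miss_psu tab hK hF hq h h1 h2 hM.1).ordGap

end Cfsg.Agent.H884.Sax
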