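import Cfsg.Agent.H884.CgRows
import Cfsg.Agent.H264.FKS.Res

/-!
# Cyclic primes and cyclic gaps of the orthogonal groups (for S3561, S3679)

* `not_dvd_out` : primes `r ≥ 5` prime to `a` (`q = p ^ a`) and to `q ^ 2 - 1` do not divide `|Out T|`;
* `cycW_even`, `cycW_odd` : the primes `r` with `ord_r(q) = e` large are cyclic;
* `cg_odd`, `cg_minus`, `cg_plus` : `CGap`, or residual class, or a nonsingular point is fixed (`m` even).
-/

set_option autoImplicit false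

namespace Cfsg.Agent.H884.Cg

open Cfsg Cfsg.Geo Cfsg.Agent.OrdDiv Cfsg.Agent.H436 Cfsg.Agent.H915.GN Cfsg.Agent.H264.FKS Cfsg.Agent.H902
open Cfsg.Agent.H899.CG
open Cfsg.Agent.H951 (fx cm Inv)
open scoped MatrixGroups

universe u

section out

variable {T : Type u} [Group T] [Finite T] [IsSimpleGroup T] {g : Grp} {p a r : ℕ}

theorem dvd_of_dd' {X : Art.Sh} {M f : ℕ} (h5 : 5 ≤ r) (h : Art.Real X p f M)
    (hd : r ∣ Art.dd X (p ^ f)) : r ∣ (p ^ f) ^ 2 - 1 := by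
  have h4 : ∀ {a b : ℕ}, a ≤ 4 → 0 < a → r ∣ Nat.gcd a b → False := fun h1 h2 h3 => by
    have := Nat.le_of_dvd h2 (h3.trans (Nat.gcd_dvd_left _ _))
    omega
  have hsq : (p ^ f) ^ 2 - 1 = (p ^ f + 1) * (p ^ f - 1) := by
    have := Nat.sq_sub_sq (p ^ f) 1
    rwa [one_pow] at this
  rw [hsq]
  cases X
  case L n =>
    have hd' : r ∣ Nat.gcd n (p ^ f - 1) := hd
    exact (hd'.trans (Nat.gcd_dvd_right _ _)).mul_left _
  case U n =>
    have hd' : r ∣ Nat.gcd n (p ^ f + 1) := hd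
    exact (hd'.trans (Nat.gcd_dvd_right _ _)).mul_right _
  case C m => exact (h4 (by norm_num) (by norm_num) hd).elim
  case D m => exact (h4 (by norm_num) (by norm_num) hd).elim
  case DD m => exact (h4 (by norm_num) (by norm_num) hd).elim
  case E6 => exact (h4 (by norm_num) (by norm_num) hd).elim
  case E7 => exact (h4 (by norm_num) (by norm_num) hd).elim
  case TE6 => exact (h4 (by norm_num) (by norm_num) hd).elim
  all_goals
    have h6 : r ∣ 1 := hd
    exact absurd (Nat.dvd_one.1 h6) (by omega)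

/-- primes not dividing `|Out T|` -/
theorem not_dvd_out (hna : ¬ ∀ a b : T, a * b = b * a) (hp : p.Prime) (hn : IsNamed g T) (hch : HasChar p g)
    (hr : r.Prime) (h5 : 5 ≤ r) (ha : fld g = p ^ a) (hra : ¬ r ∣ a) (hq : ¬ r ∣ (fld g) ^ 2 - 1) :
    ¬ r ∣ (MulAut.conj : T →* MulAut T).range.index := by
  intro h
  change r ∣ Nat.card (Cfsg.Out T) at h
  obtain ⟨X, f₁, h1, h2, h3⟩ := exists_lie hp hn hch
  have hfa : f₁ = a := Nat.pow_right_injective hp.two_le (h3.symm.trans ha)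
  subst hfa
  obtain ⟨k, h4, h6, -⟩ := H364.OutLie.card_out hna h1 hn.real h2
  rw [h4] at h
  rcases hr.dvd_mul.1 h with h7 | h7
  · rcases hr.dvd_mul.1 (h7.trans h6) with h8 | h8
    · have h9 : r ∣ 2 ^ 3 * 3 := h8
      rcases hr.dvd_mul.1 h9 with h10 | h10
      · have := Nat.le_of_dvd (by norm_num) (hr.dvd_of_dvd_pow h10)
        omega
      · have := Nat.le_of_dvd (by norm_num) h10
        omega
    · apply hq
      rw [ha]
      exact dvd_of_dd' h5 h2 h8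
  · exact hra h7

end out

section orth

open Cfsg.Agent.H884.El Module QuadraticMap Cfsg.Agent.LieClassical Cfsg.Agent.H955 Cfsg.Agent.LieClassical.OrthCore

variable {ι : Type} [Fintype ι] [DecidableEq ι] {F : Type u} [Field F] [Fintype F] {Q : QuadraticForm F (ι → F)}
  {M : Subgroup (POmega F (⇑Q))} {e r : ℕ}

/-- the representation of `Ω` -/
noncomputable def rep (Q : (ι → F) → F) : Omega F Q →* Module.End F (ι → F) where
  toFun x := lin ((x : isometryGroup F Q) : GL ι F)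
  map_one' := lin_one
  map_mul' x y := by
    show Matrix.toLin' _ = _
    rw [Subgroup.coe_mul, Subgroup.coe_mul, Units.val_mul, Matrix.toLin'_mul]
    rfl

omit [Fintype F] in
theorem rep_injective (Q : (ι → F) → F) : Function.Injective (rep Q) := fun _ _ h =>
  Subtype.ext (Subtype.ext (lin_injective h))

theorem cycW_orth (hD : H390.Lift.Data Q) (hr : PP (Nat.card F) e r) (he : 2 ≤ e) {d : ℕ} (hde : d ≤ 2 * e)
    (hd : ∀ g ∈ isometryGroup F (⇑Q), g ^ r = 1 → g ≠ 1 → finrank F (cm (lin g)) = d)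
    (hg : ∃ g ∈ isometryGroup F (⇑Q), g ^ r = 1 ∧ g ≠ 1) : CycW (POmega F (⇑Q)) r := by
  have hlt := hr.lt (by omega)
  have hrp := Fact.mk hr.prime
  have hr2 : r ≠ 2 := by omega
  have hne := hr.ne0 (F := F) (by omega)
  obtain ⟨g, hgi, hgr, hg1⟩ := hg
  refine cycW_of (QuotientGroup.mk' (Subgroup.center (Omega F (⇑Q)))) (QuotientGroup.mk'_surjective _) ?_ hr.prime
    (by omega) hne ?_ (dvd_card_T hD hgi hr.prime hr2 hgr hg1) (rep (⇑Q)) (rep_injective _) (show 0 < e by omega) hde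
    ?_ ?_
  · rw [QuotientGroup.ker_mk']
  · rw [QuotientGroup.ker_mk']
    intro h
    obtain ⟨z, hz⟩ := exists_prime_orderOf_dvd_card' r h
    have h1 := H390.Lift.center_sq hD z z.2
    have h2 : z ^ 2 = 1 := Subtype.ext h1
    have h3 := orderOf_dvd_of_pow_eq_one h2
    rw [hz] at h3
    exact hr2 ((Nat.prime_dvd_prime_iff_eq hr.prime Nat.prime_two).1 h3)
  · intro x hx hx1
    refine hd _ x.1.2 ?_ ?_
    · exact congrArg (fun y : Omega F (⇑Q) => ((y : isometryGroup F (⇑Q)) : GL ι F)) hx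
    · intro h
      exact hx1 (Subtype.ext (Subtype.ext h))
  · intro x hx U hU hUf hU0
    have hxr : rep (⇑Q) x ^ r = 1 := by rw [← map_pow, hx, map_one]
    have h1 := H951.ord_dvd_finrank hxr hU hUf
    rw [ord_eq hr] at h1
    exact Nat.le_of_dvd (Nat.pos_of_ne_zero fun h => hU0 (Submodule.finrank_eq_zero.1 h)) h1

theorem cycW_even (hD : H390.Lift.Data Q) (hQ : Nondeg Q) (hr : PP (Nat.card F) e r) (he : Even e) (he2 : 2 ≤ e)
    (hn : Fintype.card ι < 2 * e) (hg : ∃ g ∈ isometryGroup F (⇑Q), g ^ r = 1 ∧ g ≠ 1) : CycW (POmega F (⇑Q)) r := by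
  refine cycW_orth hD hr he2 (d := e) (by omega) (fun g hg hgr hg1 => ?_) hg
  have hx : lin g ^ r = 1 := by rw [← H251.GeoCard.toLin_pow, hgr]; exact lin_one
  exact ((Iso.mk' hr he2 hx (lin_iso le_rfl hg)).even_case hQ (lin_ne_one hg1) hr he
    (by rw [finrank_V]; exact hn)).1

theorem cycW_odd (hD : H390.Lift.Data Q) (hQ : Nondeg Q) (hr : PP (Nat.card F) e r) (he : Odd e) (he2 : 2 ≤ e)
    (hn : Fintype.card ι < 4 * e) (hg : ∃ g ∈ isometryGroup F (⇑Q), g ^ r = 1 ∧ g ≠ 1) : CycW (POmega F (⇑Q)) r := by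
  refine cycW_orth hD hr he2 (d := 2 * e) le_rfl (fun g hg hgr hg1 => ?_) hg
  have hx : lin g ^ r = 1 := by rw [← H251.GeoCard.toLin_pow, hgr]; exact lin_one
  exact ((Iso.mk' hr he2 hx (lin_iso le_rfl hg)).odd_case hQ (lin_ne_one hg1) hr he
    (by rw [finrank_V]; exact hn)).1

/-- the condition on the outer automorphisms -/
def OutOK (T : Type u) [Group T] (q a : ℕ) : Prop :=
  ∀ e r, 3 ≤ e → PP q e r → ¬ r ∣ a → ¬ r ∣ (MulAut.conj : T →* MulAut T).range.index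

theorem hitsA_of {a : ℕ} (hM : ¬ CGap (POmega F (⇑Q)) M) (ho : OutOK (POmega F (⇑Q)) (Nat.card F) a) (he : 3 ≤ e)
    (h : ∀ r, PP (Nat.card F) e r → CycW (POmega F (⇑Q)) r) : HitsA a (pre (⇑Q) M) e := by
  intro r hr hra
  refine dvd_trans ?_ card_dvd_pre
  by_contra h2
  exact hM ⟨r, ⟨h r hr, Or.inl (ho e r he hr hra)⟩, h2⟩

/-- **Odd dimension.** -/
theorem cg_odd_gen {p a : ℕ} (hp : p.Prime) (ha : 1 ≤ a) (hpa : Nat.card F = p ^ a) {m : ℕ} (h2F : (2 : F) ≠ 0)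
    (hm : 3 ≤ m) (hn : Fintype.card ι = 2 * m + 1) (hQ : Nondeg Q)
    (hD : H390.Lift.Data Q) (ho : OutOK (POmega F (⇑Q)) (Nat.card F) a) (M : Subgroup (POmega F (⇑Q))) :
    CGap _ M ∨ InOrthogonalResidualClass (pre (⇑Q) M) ∨ (Even m ∧ ∃ v : ι → F, Q v ≠ 0 ∧
      pre (⇑Q) M ≤ subspaceStabilizer (Submodule.span F {v}) ∧ ¬ IsPlus (res Q (perp Q (Submodule.span F {v})))) := by
  by_cases hM : CGap _ M
  · exact Or.inl hM
  right
  have he3 : 3 ≤ oddE m := by
    rcases Nat.even_or_odd m with he | ho'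
    · rw [oddE_of_even he]
      obtain ⟨k, hk⟩ := he
      omega
    · rw [oddE_of_odd ho']; exact hm
  refine rowA_odd hp ha hpa h2F hm hn hQ pre_le (hitsA_of hM ho (by omega) fun r hr => ?_)
    (hitsA_of hM ho (by omega) fun r hr => ?_) (hitsA_of hM ho he3 fun r hr => ?_)
  · obtain ⟨g, h1, h2, h3, -⟩ := exists_g (A := 1) hQ hr (even_two_mul m) (by omega) le_rfl
      (Or.inr ⟨h2F, by omega⟩)
    exact cycW_even hD hQ hr (even_two_mul m) (by omega) (by omega) ⟨g, h1, h2, h3⟩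
  · obtain ⟨g, h1, h2, h3, -⟩ := exists_g (A := 1) hQ hr ⟨m - 1, by omega⟩ (by omega) le_rfl
      (Or.inr ⟨h2F, by omega⟩)
    exact cycW_even hD hQ hr ⟨m - 1, by omega⟩ (by omega) (by omega) ⟨g, h1, h2, h3⟩
  · have h5 : oddE m ≤ m ∧ m - 1 ≤ oddE m := by
      rcases Nat.even_or_odd m with he | ho'
      · rw [oddE_of_even he]; omega
      · rw [oddE_of_odd ho']; omega
    obtain ⟨g, h1, h2, h3, -⟩ := exists_g_odd (A := 1) hQ hr (oddE_odd (by omega)) (by omega) le_rfl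
      (Or.inr ⟨h2F, by omega⟩)
    have h6 : Fintype.card ι < 4 * oddE m := by omega
    exact cycW_odd hD hQ hr (oddE_odd (by omega)) (by omega) h6 ⟨g, h1, h2, h3⟩

/-- **Minus type.** -/
theorem cg_minus_gen {p a : ℕ} (hp : p.Prime) (ha : 1 ≤ a) (hpa : Nat.card F = p ^ a) {m : ℕ} (hm : 4 ≤ m)
    (hn : Fintype.card ι = 2 * m) (hQ : Nondeg Q) (hP : ¬ IsPlus Q)
    (hD : H390.Lift.Data Q) (ho : OutOK (POmega F (⇑Q)) (Nat.card F) a) (M : Subgroup (POmega F (⇑Q))) :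
    CGap _ M ∨ InOrthogonalResidualClass (pre (⇑Q) M) := by
  by_cases hM : CGap _ M
  · exact Or.inl hM
  right
  obtain ⟨e₃, he₃, he₃3, he₃n, he₃m, he₃l⟩ : ∃ e₃ : ℕ, Odd e₃ ∧ 3 ≤ e₃ ∧ 2 * m < 4 * e₃ ∧ (Even m → e₃ = m - 1) ∧
      e₃ < m := by
    rcases Nat.even_or_odd m with he | ho
    · exact ⟨m - 1, Nat.Even.sub_odd (by omega) he odd_one, by omega, by omega, fun _ => rfl, by omega⟩
    · have hm5 : 5 ≤ m := by
        obtain ⟨k, hk⟩ := ho
        omega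
      refine ⟨m - 2, ?_, by omega, by omega, fun h => absurd ho (Nat.not_odd_iff_even.2 h), by omega⟩
      obtain ⟨k, hk⟩ := ho
      exact ⟨k - 1, by omega⟩
  have hev : Even (Fintype.card ι) := by rw [hn]; exact even_two_mul m
  refine rowA_minus hp ha hpa hm hn hQ pre_le he₃ he₃3 he₃n he₃m (hitsA_of hM ho (by omega) fun r hr => ?_)
    (hitsA_of hM ho (by omega) fun r hr => ?_) (hitsA_of hM ho (by omega) fun r hr => ?_)
  · obtain ⟨g, h1, h2, h3, -⟩ := exists_g (A := 1) hQ hr (even_two_mul m) (by omega) le_rfl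
      (Or.inl ⟨hev, Or.inr ⟨by omega, iff_of_false hP (by decide)⟩⟩)
    exact cycW_even hD hQ hr (even_two_mul m) (by omega) (by omega) ⟨g, h1, h2, h3⟩
  · obtain ⟨g, h1, h2, h3, -⟩ := exists_g (A := 1) hQ hr ⟨m - 1, by omega⟩ (by omega) le_rfl
      (Or.inl ⟨hev, Or.inl (by omega)⟩)
    exact cycW_even hD hQ hr ⟨m - 1, by omega⟩ (by omega) (by omega) ⟨g, h1, h2, h3⟩
  · obtain ⟨g, h1, h2, h3, -⟩ := exists_g_odd (A := 1) hQ hr he₃ (by omega) le_rfl
      (Or.inl ⟨hev, Or.inl (by omega)⟩)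
    exact cycW_odd hD hQ hr he₃ (by omega) (by omega) ⟨g, h1, h2, h3⟩

/-- **Plus type.** -/
theorem cg_plus_gen {p a : ℕ} (hp : p.Prime) (ha : 1 ≤ a) (hpa : Nat.card F = p ^ a) {m : ℕ} (hm : 4 ≤ m)
    (hn : Fintype.card ι = 2 * m) (hQ : Nondeg Q) (hP : IsPlus Q) (hexc : ¬ (Nat.card F = 2 ∧ m = 4))
    (hD : H390.Lift.Data Q) (ho : OutOK (POmega F (⇑Q)) (Nat.card F) a) (M : Subgroup (POmega F (⇑Q))) :
    CGap _ M ∨ InOrthogonalResidualClass (pre (⇑Q) M) ∨ (Even m ∧ ∃ v : ι → F, Q v ≠ 0 ∧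
      pre (⇑Q) M ≤ subspaceStabilizer (Submodule.span F {v})) := by
  by_cases hM : CGap _ M
  · exact Or.inl hM
  right
  have hev : Even (Fintype.card ι) := by rw [hn]; exact even_two_mul m
  have he3 : 3 ≤ oddE m ∧ m - 1 ≤ oddE m := by
    rcases Nat.even_or_odd m with he | ho'
    · rw [oddE_of_even he]; omega
    · rw [oddE_of_odd ho']; omega
  refine rowA_plus hp ha hpa hm hn hQ hP hexc pre_le (hitsA_of hM ho (by omega) fun r hr => ?_)
    (hitsA_of hM ho he3.1 fun r hr => ?_)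
  · obtain ⟨g, h1, h2, h3, -⟩ := exists_g (A := 1) hQ hr ⟨m - 1, by omega⟩ (by omega) le_rfl
      (Or.inl ⟨hev, Or.inl (by omega)⟩)
    exact cycW_even hD hQ hr ⟨m - 1, by omega⟩ (by omega) (by omega) ⟨g, h1, h2, h3⟩
  · have h6 : Fintype.card ι < 4 * oddE m := by omega
    refine cycW_odd hD hQ hr (oddE_odd (by omega)) (by omega) h6 ?_
    rcases Nat.even_or_odd m with he | ho'
    · rw [oddE_of_even he] at hr
      obtain ⟨g, h1, h2, h3, -⟩ := exists_g_odd (A := 1) hQ hr (Nat.Even.sub_odd (by omega) he odd_one) (by omega)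
        le_rfl (Or.inl ⟨hev, Or.inl (by omega)⟩)
      exact ⟨g, h1, h2, h3⟩
    · rw [oddE_of_odd ho'] at hr
      obtain ⟨g, h1, h2, h3, -⟩ := exists_g_odd (A := 1) hQ hr ho' (by omega)
        le_rfl (Or.inl ⟨hev, Or.inr ⟨by omega, hP⟩⟩)
      exact ⟨g, h1, h2, h3⟩

end orth

end Cfsg.Agent.H884.Cg
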