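import Cfsg.Agent.H884.RowAllB
import Cfsg.Agent.H81.CycSRow
import Cfsg.Agent.S5788
import Cfsg.Agent.S5791
import Cfsg.Agent.S1163

/-!
# Rows of the classical groups for S3561 and S3679: `PSp_4(q)` (helper884)

`M` maximal in `PSp_4(q)`, `q ≥ 4`:
* `row_psp4_odd`  : `q` odd: `IGap`, or `M` is the normaliser of a quadratic field (`SpecM`);
* `row_psp4_even` : `q` even: `IGap`, or `SpecM`, or the socle of `M` is `Sz(q)`.
-/

set_option autoImplicit false

namespace Cfsg.Agent.H884.Row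

open Cfsg Cfsg.Geo Cfsg.Agent.OrdDiv Cfsg.Agent.H436 Cfsg.Agent.H264.FKS Cfsg.Agent.H915.GN
open Cfsg.Agent.H278.El.SporNum (IsCl)
open Cfsg.Agent.H278.El.AltNum (dimOf)
open Cfsg.Agent.H884.Ig Cfsg.Agent.H899.CG
open Cfsg.Agent.H262.El Cfsg.Agent.H931 Cfsg.Agent.H876
open scoped MatrixGroups

section Max

variable {F : Type} [Field F] {m : ℕ}

/-- the preimage of a maximal subgroup is maximal (the same as `H264.FKS.isMaximalIn_pre`) -/
theorem isMaximalIn_preSp {R : Subgroup (PSp m F)} (hR : IsCoatom R) : IsMaximalIn (spGL m F) (pre R) := by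
  refine ⟨lt_of_le_of_ne (pre_le R) (pre_ne hR.1), fun M h1 h2 => ?_⟩
  let R' : Subgroup (PSp m F) :=
    (M.comap (spToGL m F)).map (QuotientGroup.mk' (Subgroup.center (Matrix.symplecticGroup (Fin m) F)))
  have hM : M = pre R' := by
    apply le_antisymm
    · intro x hx
      obtain ⟨A, rfl⟩ := exists_spToGL (h2 hx)
      rw [mem_pre]
      exact ⟨A, hx, rfl⟩
    · intro x hx
      obtain ⟨A, rfl⟩ := exists_spToGL (pre_le R' hx)
      rw [mem_pre] at hx
      obtain ⟨B, hB, hBA⟩ := hx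
      have h3 : B⁻¹ * A ∈ Subgroup.center (Matrix.symplecticGroup (Fin m) F) := QuotientGroup.eq.1 hBA
      have h4 : spToGL m F (B⁻¹ * A) ∈ pre R := by
        rw [mem_pre, (QuotientGroup.eq_one_iff _).2 h3]
        exact R.one_mem
      have h5 := M.mul_mem hB (h1 h4)
      rwa [← map_mul, mul_inv_cancel_left] at h5
  have h3 : R ≤ R' := by
    intro x hx
    obtain ⟨A, rfl⟩ := QuotientGroup.mk_surjective x
    exact ⟨A, h1 (mem_pre.2 hx), rfl⟩
  rcases eq_or_lt_of_le h3 with h | h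
  · left
    rw [hM, ← h]
  · right
    have h4 := hR.2 _ h
    rw [hM, h4]
    apply le_antisymm (pre_le _)
    intro x hx
    obtain ⟨A, rfl⟩ := exists_spToGL hx
    rw [mem_pre]
    trivial

end Max

variable {F : Type} [Field F] [Fintype F]

/-- a subgroup of `Aut(PSL_2(q))` has an index gap in `PSp_4(q)` -/
theorem igap_psl2 {gT : Grp} {T : Type} [Group T] [Finite T] [IsSimpleGroup T] {M : Subgroup T} {p f e : ℕ}
    (hp : p.Prime) (hf : 1 ≤ f) (S : Subgroup M) [S.Normal] [IsSimpleGroup S] (hna : ¬ IsMulCommutative S)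
    (hC : Subgroup.centralizer (S : Set M) = ⊥) (hS : IsNamed (.psl 2 (p ^ f)) S) (hT : IsNamed gT T)
    (hch : HasChar p gT) (hq : Cx.fq gT = p ^ f) (he : InE gT e) (h6 : ¬ (p ^ f = 2 ∧ e = 6)) :
    IGap T M := by
  by_contra hg
  have hnaT : ¬ ∀ x y : T, x * y = y * x := fun h => hna ⟨⟨fun a b => Subtype.ext (Subtype.ext (h _ _))⟩⟩
  have he3 := he.three
  obtain ⟨u, hu, hn⟩ := exists_prim_ndf (q := p ^ f) (e := e) ((isPrimePow_nat_iff _).2 ⟨p, f, hp, by omega, rfl⟩)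
    he3 h6
  have h1 : u ∣ Nat.card M := dvd_of_not_iGap hg (cyc_named hnaT hp hT hch he (hq ▸ hu) (hq ▸ hn))
  have h5 := five_le' hu he3
  have h2 := pow_dvd_lie S hna hC hp hS ⟨f, rfl⟩ (by
    show Nat.beq (12 % Nat.gcd 2 (p ^ f - 1)) 0 = true
    have h3 : Nat.gcd 2 (p ^ f - 1) = 1 ∨ Nat.gcd 2 (p ^ f - 1) = 2 :=
      (Nat.dvd_prime Nat.prime_two).1 (Nat.gcd_dvd_left _ _)
    rcases h3 with h3 | h3 <;> rw [h3] <;> rfl) (f := f) rfl hu.prime h5 (k := 1) (by rwa [pow_one])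
  rw [pow_one, ← hS.ord] at h2
  have h3 : ¬ u ∣ f := (ndf_iff hp hf).1 hn
  have h4 : u ∣ Nat.card S := (hu.prime.dvd_mul.1 h2).resolve_left h3
  have h7 : u ∣ num (.psl 2 (p ^ f)) := by
    rw [← hS.eq]
    exact h4.mul_left _
  have h8 : num (.psl 2 (p ^ f)) = ((p ^ f) ^ 2 - 1) * ((p ^ f) * (p ^ f - 1)) := by
    show glN 2 (p ^ f) = _
    unfold glN
    simp only [List.range_succ, List.range_zero, List.nil_append, List.map_append, List.map_cons, List.map_nil,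
      List.prod_append, List.prod_cons, List.prod_nil, mul_one, pow_zero, pow_one]
    rw [show (p ^ f) * (p ^ f - 1) = (p ^ f) ^ 2 - p ^ f by rw [Nat.mul_sub, mul_one, pow_two]]
  rw [h8] at h7
  have hle : ∀ i, 1 ≤ i → i ≤ 2 → ¬ u ∣ (p ^ f) ^ i - 1 := fun i h1 h2 h => by
    have := Nat.le_of_dvd (by omega) ((hu.dvd_iff i).1 h)
    omega
  rcases hu.prime.dvd_mul.1 h7 with h9 | h9
  · exact hle 2 (by norm_num) le_rfl h9
  · rcases hu.prime.dvd_mul.1 h9 with h10 | h10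
    · exact hu.not_dvd h10
    · exact hle 1 le_rfl (by norm_num) (by rwa [pow_one])

/-- **`PSp_4(q)`, `q ≥ 5` odd.** -/
theorem row_psp4_odd (hodd : Odd (Fintype.card F)) (h4 : 4 ≤ Fintype.card F) {M : Subgroup (PSp 2 F)}
    (hM : IsCoatom M) : IGap _ M ∨ H81.CycS.SpecM 2 F (pre M) := by
  rcases H81.CycS.igap_psp_two h4 hM.1 with h | h | h
  · exact .inl h
  · left
    have hs : IsSimpleGroup (PSp 2 F) := S0270.result 2 le_rfl (fun _ => by omega)
    have hfin : Finite (PSp 2 F) := Quotient.finite _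
    obtain ⟨P, p, hP, hp, hcp, hcase⟩ := S5788.result hodd (pre M) (isMaximalIn_preSp hM) h
    obtain ⟨S, hSn, hSs, hna, hC, ⟨e⟩⟩ :=
      exists_socle (H876.spToGL 2 F) H262.El.spToGL_injective _ (QuotientGroup.mk'_surjective _) hker_sp' hP
    obtain ⟨f, -, hf⟩ := FiniteField.card F p
    have hT : IsNamed (.psp 2 (Fintype.card F)) (PSp 2 F) := nm_psp F le_rfl (fun _ => by omega)
    have hnaT : ¬ ∀ x y : PSp 2 F, x * y = y * x := fun h => hna ⟨⟨fun a b => Subtype.ext (Subtype.ext (h _ _))⟩⟩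
    have hex : ∀ g, (g, Grp.psp 2 (Fintype.card F)) ∉ excI := by
      intro g h
      simp only [excI, List.mem_cons, Prod.mk.injEq, Grp.psp.injEq, reduceCtorEq, and_false, or_false,
        false_or, List.not_mem_nil] at h
      omega
    rcases hcase with ⟨⟨e1⟩, -⟩ | ⟨⟨e1⟩, -⟩ | ⟨⟨e1⟩, -⟩
    · exact (igap_alt hnaT hp hT trivial ⟨f, hf⟩ S hC (m := 6) (by norm_num) (e.trans e1) (by omega)).resolve_right
        (hex _)
    · exact (igap_alt hnaT hp hT trivial ⟨f, hf⟩ S hC (m := 7) (by norm_num) (e.trans e1) (by omega)).resolve_right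
        (hex _)
    · have hS : IsNamed (.psl 2 (Fintype.card F)) S := by
        refine .mk' ⟨F, inferInstance, inferInstance, rfl, ⟨e.trans e1⟩⟩
          ⟨le_rfl, fun _ => h4, Fintype.isPrimePow_card_of_field⟩ ?_
        rw [Nat.card_congr (e.trans e1).toEquiv]
        exact psl_eq le_rfl
      rw [hf] at hS
      exact igap_psl2 hp f.pos S hna hC hS hT ⟨f, hf⟩ hf (e := 4) ⟨rfl, le_rfl, le_rfl, by norm_num⟩ (by omega)
  · exact .inr h

/-- the Suzuki groups -/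
theorem nm_sz {S : Type} [Group S] {m : ℕ} (hm : 1 ≤ m) (hF : Fintype.card F = 2 ^ (2 * m + 1))
    (e : S ≃* Lie.Sz F (2 ^ (m + 1))) : IsNamed (.sz (2 ^ (2 * m + 1))) S := by
  refine .mk' ⟨F, inferInstance, inferInstance, m, hm, hF, rfl, ⟨e⟩⟩ ⟨m, hm, rfl⟩ ?_
  rw [Nat.card_congr e.toEquiv]
  change 1 * _ = _ ^ 2 * _
  rw [(S1163.result hm hF).1]; ring

/-- **`PSp_4(q)`, `q ≥ 4` even.** -/
theorem row_psp4_even (heven : ¬ Odd (Fintype.card F)) (h4 : 4 ≤ Fintype.card F) {M : Subgroup (PSp 2 F)}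
    (hM : IsCoatom M) : IGap _ M ∨ H81.CycS.SpecM 2 F (pre M) ∨
      ∃ m, 1 ≤ m ∧ Fintype.card F = 2 ^ (2 * m + 1) ∧ ASR (.sz (Fintype.card F)) M (pre M) := by
  rcases H81.CycS.igap_psp_two h4 hM.1 with h | h | h
  · exact .inl h
  · right; right
    obtain ⟨P, m, hP, hm, hF, ⟨e1⟩⟩ := S5791.result heven h4 (pre M) (isMaximalIn_preSp hM) h
    obtain ⟨S, hSn, hSs, hna, hC, ⟨e⟩⟩ :=
      exists_socle (H876.spToGL 2 F) H262.El.spToGL_injective _ (QuotientGroup.mk'_surjective _) hker_sp' hP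
    have hS := nm_sz hm hF (e.trans e1)
    rw [← hF] at hS
    exact ⟨m, hm, hF, S, hSn, hSs, hna, hC, hS, P, hP, ⟨e⟩⟩
  · exact .inr (.inl h)

end Cfsg.Agent.H884.Row
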