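import Cfsg.Agent.H884.RowAllF
import Cfsg.Agent.H57.BG.Idx
import Cfsg.Agent.S0813

/-!
# `PSL_3(q)` for S3561 (helper884)

`dead_psl3` : `q ≥ 3`, `q ≠ 4`: every maximal subgroup of `PSL_3(q)` is dead.
-/

set_option autoImplicit false

namespace Cfsg.Agent.H884.Row

open Cfsg Cfsg.Geo Cfsg.Agent.OrdDiv Cfsg.Agent.H436 Cfsg.Agent.H264.FKS Cfsg.Agent.H915.GN
open Cfsg.Agent.H57.BG
open scoped MatrixGroups

theorem num_ineq {q f d : ℕ} (hq : 3 ≤ q) (h4 : q ≠ 4) (h6 : q ≠ 6) (hd3 : d ≤ 3) (h3 : q = 3 → f = 1 ∧ d = 1)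
    (h5 : q = 5 → f = 1 ∧ d = 1) (hf : 2 * f ≤ q) :
    18 * f * d ^ 2 * (q ^ 3 - 1) < q ^ 3 * ((q ^ 2 - 1) * (q - 1) ^ 2) := by
  have h7 : q = 3 ∨ q = 5 ∨ 7 ≤ q := by omega
  rcases h7 with rfl | rfl | h7
  · obtain ⟨rfl, rfl⟩ := h3 rfl
    norm_num
  · obtain ⟨rfl, rfl⟩ := h5 rfl
    norm_num
  · have h8 : 36 ≤ (q - 1) ^ 2 := by
      calc 36 = 6 ^ 2 := by norm_num
        _ ≤ (q - 1) ^ 2 := Nat.pow_le_pow_left (by omega) 2
    have h9 : 6 * q ≤ q ^ 2 - 1 := by
      have : 7 * q ≤ q ^ 2 := by rw [pow_two]; exact Nat.mul_le_mul_right q h7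
      omega
    have h10 : 6 * q * 36 ≤ (q ^ 2 - 1) * (q - 1) ^ 2 := Nat.mul_le_mul h9 h8
    have h11 : d ^ 2 ≤ 9 := by
      calc d ^ 2 ≤ 3 ^ 2 := Nat.pow_le_pow_left hd3 2
        _ = 9 := by norm_num
    have h12 : 18 * f * d ^ 2 ≤ 81 * q := by
      calc 18 * f * d ^ 2 ≤ 18 * f * 9 := Nat.mul_le_mul_left _ h11
        _ ≤ 81 * q := by omega
    have hq3 : 1 ≤ q ^ 3 := Nat.one_le_pow _ _ (by omega)
    calc 18 * f * d ^ 2 * (q ^ 3 - 1) ≤ 81 * q * (q ^ 3 - 1) := Nat.mul_le_mul_right _ h12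
      _ < 6 * q * 36 * q ^ 3 := by
        have h13 : 81 * q * (q ^ 3 - 1) ≤ 81 * q * q ^ 3 := Nat.mul_le_mul_left _ (Nat.sub_le _ _)
        have h14 : 81 * q * q ^ 3 < 6 * q * 36 * q ^ 3 := Nat.mul_lt_mul_of_pos_right (by omega) hq3
        omega
      _ ≤ (q ^ 2 - 1) * (q - 1) ^ 2 * q ^ 3 := Nat.mul_le_mul_right _ h10
      _ = _ := by ring

theorem glN_three (q : ℕ) : glN 3 q = (q ^ 3 - 1) * (q ^ 3 * ((q ^ 2 - 1) * (q - 1))) := by
  have h1 : q ^ 3 - q = q * (q ^ 2 - 1) := by rw [Nat.mul_sub, mul_one]; congr 1; ring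
  have h2 : q ^ 3 - q ^ 2 = q ^ 2 * (q - 1) := by rw [Nat.mul_sub, mul_one]; rfl
  unfold glN
  simp only [List.range_succ, List.range_zero, List.nil_append, List.map_append, List.map_cons, List.map_nil,
    List.prod_append, List.prod_cons, List.prod_nil, mul_one, pow_zero, pow_one]
  rw [h1, h2]
  ring

theorem arith {q t d f m i : ℕ} (hq : 3 ≤ q)
    (hN : d * (q - 1) * t = (q ^ 3 - 1) * (q ^ 3 * ((q ^ 2 - 1) * (q - 1)))) (hidx : m * i = t)
    (h : m * (q - 1) ≤ 3 * (q ^ 3 - 1)) (hineq : 18 * f * d ^ 2 * (q ^ 3 - 1) < q ^ 3 * ((q ^ 2 - 1) * (q - 1) ^ 2)) :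
    t * (2 * f * d) < i ^ 2 := by
  have hA : 0 < q ^ 3 - 1 := by
    have : 3 ^ 3 ≤ q ^ 3 := Nat.pow_le_pow_left hq 3
    omega
  have hB : 0 < q - 1 := by omega
  have ht : 0 < t := by
    by_contra h0
    have h1 : t = 0 := by omega
    rw [h1, mul_zero] at hN
    have h2 : 0 < q ^ 2 - 1 := by
      have : 3 ^ 2 ≤ q ^ 2 := Nat.pow_le_pow_left hq 2
      omega
    have h3 : 0 < (q ^ 3 - 1) * (q ^ 3 * ((q ^ 2 - 1) * (q - 1))) := by positivity
    omega
  generalize q ^ 3 - 1 = A at *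
  generalize q - 1 = B at *
  generalize q ^ 2 - 1 = C at *
  generalize q ^ 3 = D at *
  have k1 : 18 * f * d * A ^ 2 < t * B ^ 2 := by
    by_contra hcon
    push Not at hcon
    have h1 : A * B * (D * (C * B ^ 2)) ≤ A * B * (18 * f * d ^ 2 * A) := by
      calc A * B * (D * (C * B ^ 2)) = (A * (D * (C * B))) * B ^ 2 := by ring
        _ = d * B * (t * B ^ 2) := by rw [← hN]; ring
        _ ≤ d * B * (18 * f * d * A ^ 2) := Nat.mul_le_mul_left _ hcon
        _ = _ := by ring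
    have h2 := Nat.le_of_mul_le_mul_left h1 (Nat.mul_pos hA hB)
    omega
  have k2 : t * (2 * f * d) * (9 * A ^ 2) < i ^ 2 * (9 * A ^ 2) := by
    calc t * (2 * f * d) * (9 * A ^ 2) = t * (18 * f * d * A ^ 2) := by ring
      _ < t * (t * B ^ 2) := Nat.mul_lt_mul_of_pos_left k1 ht
      _ = (m * B) ^ 2 * i ^ 2 := by rw [← hidx]; ring
      _ ≤ (3 * A) ^ 2 * i ^ 2 := Nat.mul_le_mul_right _ (Nat.pow_le_pow_left h 2)
      _ = _ := by ring
  exact Nat.lt_of_mul_lt_mul_right k2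

variable {F : Type} [Field F] [Fintype F]

theorem card_psl3 : Nat.gcd 3 (Fintype.card F - 1) * (Fintype.card F - 1) *
    Nat.card (Matrix.ProjectiveSpecialLinearGroup (Fin 3) F) = glN 3 (Fintype.card F) := psl_eq (by norm_num)

theorem index_inn_psl3 {p f : ℕ} [Fact p.Prime] (hf : 1 ≤ f) (hF : Fintype.card F = p ^ f)
    (hc : Subgroup.center (Matrix.ProjectiveSpecialLinearGroup (Fin 3) F) = ⊥) :
    (Inn (Matrix.ProjectiveSpecialLinearGroup (Fin 3) F)).index = 2 * f * Nat.gcd 3 (Fintype.card F - 1) := by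
  have hfin : Finite (Matrix.ProjectiveSpecialLinearGroup (Fin 3) F) := Quotient.finite _
  refine index_inn_of_aut hc ?_
  have hq : 2 ≤ Fintype.card F := Fintype.one_lt_card
  rw [Cfsg.Agent.S0813.result p f hf hF 3 (by norm_num) (by norm_num), if_neg (by norm_num), mul_assoc (2 * f)]
  congr 1
  have h2 := Cfsg.Agent.ClassicalGeometry.PSL2Basic.card_PGL_mul (Fin 3) F
  have h3 : Nat.card (GL (Fin 3) F) = glN 3 (Fintype.card F) := by
    rw [Matrix.card_GL_field, Fin.prod_univ_three]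
    unfold glN
    simp only [List.range_succ, List.range_zero, List.nil_append, List.map_append, List.map_cons, List.map_nil,
      List.prod_append, List.prod_cons, List.prod_nil, mul_one]
    rfl
  rw [h3, ← card_psl3] at h2
  refine Nat.eq_of_mul_eq_mul_right (show 0 < Fintype.card F - 1 by omega) ?_
  rw [h2]
  ring

/-- **`PSL_3(q)`, `q ≥ 3`, `q ≠ 4`.** -/
theorem dead_psl3 (h3 : 3 ≤ Fintype.card F) (h4 : Fintype.card F ≠ 4)
    {M : Subgroup (Matrix.ProjectiveSpecialLinearGroup (Fin 3) F)} (hM : IsCoatom M) : Dead _ M := by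
  have hs : IsSimpleGroup (Matrix.ProjectiveSpecialLinearGroup (Fin 3) F) :=
    LieClassical.SLGen.psl_isSimpleGroup (by rw [Fintype.card_fin])
  have hfin : Finite (Matrix.ProjectiveSpecialLinearGroup (Fin 3) F) := Quotient.finite _
  have hc : Subgroup.center (Matrix.ProjectiveSpecialLinearGroup (Fin 3) F) = ⊥ :=
    center_eq_bot (H597.CycL.not_comm_psl le_rfl)
  rcases row_psl3 hM with h | h
  · exact dead_of_iGap hc h
  · apply dead_of_index hc
    obtain ⟨p, f, hp, hf, hF⟩ := (isPrimePow_nat_iff _).1 (Fintype.isPrimePow_card_of_field (α := F))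
    have : Fact p.Prime := ⟨hp⟩
    rw [index_inn_psl3 hf hF.symm hc]
    have hN := card_psl3 (F := F)
    have hidx := M.card_mul_index
    have hT0 : 0 < Nat.card (Matrix.ProjectiveSpecialLinearGroup (Fin 3) F) := Nat.card_pos
    have h6 : Fintype.card F ≠ 6 := by
      intro h6
      have h7 : IsPrimePow 6 := h6 ▸ Fintype.isPrimePow_card_of_field (α := F)
      exact absurd h7 (by decide)
    have h2f : 2 * f ≤ Fintype.card F := by
      rw [← hF]
      calc 2 * f ≤ 2 ^ f := by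
            obtain ⟨k, rfl⟩ : ∃ k, f = k + 1 := ⟨f - 1, by omega⟩
            have := Nat.lt_two_pow_self (n := k)
            rw [pow_succ]
            omega
        _ ≤ p ^ f := Nat.pow_le_pow_left hp.two_le f
    have hineq := num_ineq (q := Fintype.card F) (f := f) (d := Nat.gcd 3 (Fintype.card F - 1)) h3 h4 h6
      (Nat.le_of_dvd (by norm_num) (Nat.gcd_dvd_left _ _)) ?_ ?_ h2f
    · rw [glN_three] at hN
      generalize Nat.card (Matrix.ProjectiveSpecialLinearGroup (Fin 3) F) = t at *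
      generalize Nat.gcd 3 (Fintype.card F - 1) = d at *
      generalize Fintype.card F = q at *
      generalize Nat.card M = m at *
      generalize M.index = i at *
      exact arith h3 hN hidx h hineq
    · intro h
      obtain ⟨-, h7⟩ := (Nat.Prime.pow_eq_iff (by norm_num : Nat.Prime 3)).1 (hF.trans h)
      rw [h]
      exact ⟨h7, by norm_num⟩
    · intro h
      obtain ⟨-, h7⟩ := (Nat.Prime.pow_eq_iff (by norm_num : Nat.Prime 5)).1 (hF.trans h)
      rw [h]
      exact ⟨h7, by norm_num⟩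

end Cfsg.Agent.H884.Row
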