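import Mathlib

/-!
# Averaging over cosets of a strongly embedded subgroup in characteristic `p` (helper884)

Let `H ≤ G` and let `A → H` be a group (a `p`-group) acting freely on `G / H` outside the point `H`.
If the "norm" of `A` kills every translate `gT` then an `H`-invariant `T` is `G`-invariant:
`T = ∑_{g ∈ G / H} g T`.

The norm vanishes when `A = F ^ ι` acts by polynomials of degree less than `(q - 1) |ι|`.
-/

set_option autoImplicit false

namespace Cfsg.Agent.H884.Avg

section Free

/-- Sums over a set on which a group acts freely outside a fixed point. -/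
theorem sum_eq_of_free {A Γ W : Type*} [Group A] [Fintype A] [Fintype Γ] [MulAction A Γ]
    [AddCommMonoid W] (γ₀ : Γ) (hfix : ∀ a : A, a • γ₀ = γ₀)
    (hfree : ∀ γ, γ ≠ γ₀ → ∀ a : A, a • γ = γ → a = 1) (F : Γ → W)
    (hF : ∀ γ, γ ≠ γ₀ → ∑ a : A, F (a • γ) = 0) : ∑ γ, F γ = F γ₀ := by
  classical
  let Ω := Quotient (MulAction.orbitRel A Γ)
  have : Fintype Ω := Fintype.ofFinite _
  let π : Γ → Ω := Quotient.mk _
  have hπ : ∀ γ γ', π γ = π γ' ↔ ∃ a : A, a • γ' = γ := by
    intro γ γ'
    rw [Quotient.eq (r := MulAction.orbitRel A Γ)]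
    exact Iff.rfl
  rw [← Finset.sum_fiberwise Finset.univ π F]
  rw [Finset.sum_eq_single (π γ₀)]
  · have e : (Finset.univ.filter fun γ => π γ = π γ₀) = {γ₀} := by
      ext γ
      rw [Finset.mem_filter, Finset.mem_singleton, hπ]
      constructor
      · rintro ⟨-, a, rfl⟩
        exact hfix a
      · rintro rfl
        exact ⟨Finset.mem_univ _, 1, one_smul _ _⟩
    rw [e, Finset.sum_singleton]
  · intro ω _ hω
    obtain ⟨γ, rfl⟩ : ∃ γ, π γ = ω := Quotient.exists_rep ω
    have hγ : γ ≠ γ₀ := by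
      rintro rfl
      exact hω rfl
    rw [← hF γ hγ]
    symm
    refine Finset.sum_bij (fun a _ => a • γ) ?_ ?_ ?_ ?_
    · intro a _
      rw [Finset.mem_filter, hπ]
      exact ⟨Finset.mem_univ _, a, rfl⟩
    · intro a _ b _ hab
      have h1 : (b⁻¹ * a) • γ = γ := by
        have h2 : a • γ = b • γ := hab
        rw [mul_smul, h2]
        exact inv_smul_smul b γ
      have h2 := hfree γ hγ _ h1
      exact (inv_mul_eq_one.1 h2).symm
    · intro γ' hγ'
      rw [Finset.mem_filter, hπ] at hγ'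
      obtain ⟨a, ha⟩ := hγ'.2
      exact ⟨a, Finset.mem_univ _, ha⟩
    · intro a _
      rfl
  · intro h
    exact absurd (Finset.mem_univ _) h

end Free

section Coset

theorem apply_out {G W : Type*} [Group G] {H : Subgroup G} {F : G → W} (hF : ∀ g, ∀ h ∈ H, F (g * h) = F g) (g : G) :
    F ((g : G ⧸ H).out) = F g := by
  obtain ⟨h, hh⟩ := QuotientGroup.mk_out_eq_mul H g
  rw [hh, hF _ _ h.2]

variable {G W : Type*} [Group G] [AddCommMonoid W] {H : Subgroup G}

theorem sum_out_mul [Fintype (G ⧸ H)] {F : G → W} (hF : ∀ g, ∀ h ∈ H, F (g * h) = F g) (x : G) :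
    ∑ γ : G ⧸ H, F (x * γ.out) = ∑ γ : G ⧸ H, F γ.out := by
  refine Fintype.sum_equiv (MulAction.toPerm x) _ _ fun γ => ?_
  obtain ⟨g, rfl⟩ := QuotientGroup.mk_surjective γ
  change F (x * (g : G ⧸ H).out) = F ((x * g : G) : G ⧸ H).out
  rw [apply_out hF]
  obtain ⟨h, hh⟩ := QuotientGroup.mk_out_eq_mul H g
  rw [hh, ← mul_assoc, hF _ _ h.2]

/-- **Averaging.** -/
theorem sum_eq [Fintype (G ⧸ H)] {A : Type*} [Group A] [Fintype A] (ρ : A →* G)
    (hρ : ∀ a, ρ a ∈ H) (hfree : ∀ g, g ∉ H → ∀ a, a ≠ 1 → g⁻¹ * ρ a * g ∉ H) {F : G → W}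
    (hF : ∀ g, ∀ h ∈ H, F (g * h) = F g) (hsum : ∀ g, ∑ a, F (ρ a * g) = 0) (x : G) :
    ∑ γ : G ⧸ H, F (x * γ.out) = F 1 := by
  rw [sum_out_mul hF]
  let _ : MulAction A (G ⧸ H) := MulAction.compHom _ ρ
  have hsm : ∀ (a : A) (g : G), a • (g : G ⧸ H) = ((ρ a * g : G) : G ⧸ H) := fun a g => rfl
  rw [sum_eq_of_free (A := A) ((1 : G) : G ⧸ H) (F := fun γ : G ⧸ H => F γ.out)]
  · exact apply_out hF 1
  · intro a
    rw [hsm, mul_one, QuotientGroup.eq, mul_one]
    exact H.inv_mem (hρ a)
  · intro γ hγ a ha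
    obtain ⟨g, rfl⟩ := QuotientGroup.mk_surjective γ
    have hg : g ∉ H := by
      intro hg
      apply hγ
      rw [eq_comm, QuotientGroup.eq, inv_one, one_mul]
      exact hg
    by_contra ha1
    apply hfree g hg a ha1
    rw [hsm, eq_comm, QuotientGroup.eq] at ha
    rwa [mul_assoc]
  · intro γ _
    obtain ⟨g, rfl⟩ := QuotientGroup.mk_surjective γ
    rw [← hsum g]
    refine Finset.sum_congr rfl fun a _ => ?_
    rw [hsm]
    exact apply_out hF _

end Coset

section Poly

variable {F : Type*} [Field F] {ι : Type*} [Fintype ι]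

/-- Polynomial functions of degree at most `d`. -/
def Pol (F : Type*) [Field F] (ι : Type*) [Fintype ι] (W : Type*) [AddCommGroup W] [Module F W]
    (d : ℕ) : Submodule F ((ι → F) → W) :=
  Submodule.span F {g | ∃ (s : ι → ℕ) (w : W), ∑ i, s i ≤ d ∧ ∀ x, g x = (∏ i, x i ^ s i) • w}

variable {W W₁ W₂ W₃ : Type*} [AddCommGroup W] [Module F W] [AddCommGroup W₁] [Module F W₁]
  [AddCommGroup W₂] [Module F W₂] [AddCommGroup W₃] [Module F W₃]

theorem Pol.mono {d e : ℕ} (h : d ≤ e) : Pol F ι W d ≤ Pol F ι W e :=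
  Submodule.span_mono fun _ ⟨s, w, h1, h2⟩ => ⟨s, w, h1.trans h, h2⟩

theorem Pol.const (w : W) : (fun _ => w) ∈ Pol F ι W 0 :=
  Submodule.subset_span ⟨0, w, by simp, fun x => by simp⟩

theorem Pol.map {d : ℕ} {f : (ι → F) → W₁} (hf : f ∈ Pol F ι W₁ d) (L : W₁ →ₗ[F] W₂) :
    (fun x => L (f x)) ∈ Pol F ι W₂ d := by
  induction hf using Submodule.span_induction with
  | mem g hg =>
    obtain ⟨s, w, h1, h2⟩ := hg
    exact Submodule.subset_span ⟨s, L w, h1, fun x => by
      change L (g x) = _
      rw [h2, map_smul]⟩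
  | zero =>
    convert (Pol F ι W₂ d).zero_mem using 1
    funext x
    exact map_zero L
  | add f g _ _ hf hg =>
    convert (Pol F ι W₂ d).add_mem hf hg using 1
    funext x
    exact map_add L _ _
  | smul c f _ hf =>
    convert (Pol F ι W₂ d).smul_mem c hf using 1
    funext x
    exact map_smul L _ _

theorem Pol.bilin {d e : ℕ} {f : (ι → F) → W₁} {g : (ι → F) → W₂} (hf : f ∈ Pol F ι W₁ d)
    (hg : g ∈ Pol F ι W₂ e) (B : W₁ →ₗ[F] W₂ →ₗ[F] W₃) :
    (fun x => B (f x) (g x)) ∈ Pol F ι W₃ (d + e) := by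
  induction hf using Submodule.span_induction with
  | mem f hf =>
    obtain ⟨s, w, h1, h2⟩ := hf
    induction hg using Submodule.span_induction with
    | mem g hg =>
      obtain ⟨t, u, h3, h4⟩ := hg
      refine Submodule.subset_span ⟨s + t, B w u, ?_, fun x => ?_⟩
      · simp only [Pi.add_apply, Finset.sum_add_distrib]
        omega
      · change B (f x) (g x) = _
        rw [h2, h4, map_smul, map_smul, LinearMap.smul_apply, smul_smul, ← Finset.prod_mul_distrib]
        congr 1
        refine Finset.prod_congr rfl fun i _ => ?_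
        rw [Pi.add_apply, pow_add, mul_comm]
    | zero =>
      convert (Pol F ι W₃ (d + e)).zero_mem using 1
      funext x
      exact map_zero _
    | add g g' _ _ hg hg' =>
      convert (Pol F ι W₃ (d + e)).add_mem hg hg' using 1
      funext x
      exact map_add _ _ _
    | smul c g _ hg =>
      convert (Pol F ι W₃ (d + e)).smul_mem c hg using 1
      funext x
      exact map_smul _ _ _
  | zero =>
    convert (Pol F ι W₃ (d + e)).zero_mem using 1
    funext x
    simp
  | add f f' _ _ hf hf' =>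
    convert (Pol F ι W₃ (d + e)).add_mem hf hf' using 1
    funext x
    simp
  | smul c f _ hf =>
    convert (Pol F ι W₃ (d + e)).smul_mem c hf using 1
    funext x
    simp

theorem Pol.linear (L : (ι → F) →ₗ[F] W) : (fun x => L x) ∈ Pol F ι W 1 := by
  classical
  have e : (fun x => L x) = ∑ i, fun x : ι → F => x i • L (Pi.single i 1) := by
    funext x
    rw [Finset.sum_apply]
    conv_lhs => rw [pi_eq_sum_univ' x]
    rw [map_sum]
    refine Finset.sum_congr rfl fun i _ => ?_
    rw [map_smul]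
  rw [e]
  refine Submodule.sum_mem _ fun i _ => Submodule.subset_span
    ⟨Pi.single i 1, L (Pi.single i 1), ?_, fun x => ?_⟩
  · simp [Finset.sum_pi_single']
  · have h1 : ∏ j, x j ^ (Pi.single i 1 : ι → ℕ) j = x i := by
      rw [Finset.prod_eq_single i]
      · simp
      · intro j _ hj
        rw [Pi.single_eq_of_ne hj, pow_zero]
      · intro h
        exact absurd (Finset.mem_univ _) h
    rw [h1]

/-- **Sums of polynomial functions of small degree vanish.** -/
theorem Pol.sum_eq_zero [Fintype F] {d : ℕ} (hd : d < (Fintype.card F - 1) * Fintype.card ι)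
    [DecidableEq ι] {f : (ι → F) → W} (hf : f ∈ Pol F ι W d) : ∑ x, f x = 0 := by
  induction hf using Submodule.span_induction with
  | mem f hf =>
    obtain ⟨s, w, h1, h2⟩ := hf
    simp only [h2]
    rw [← Finset.sum_smul]
    have h3 : ∑ x : ι → F, ∏ i, x i ^ s i = 0 := by
      have h4 := MvPolynomial.sum_eval_eq_zero (K := F) (σ := ι)
        (∏ i, (MvPolynomial.X i : MvPolynomial ι F) ^ s i) (by
          refine lt_of_le_of_lt ((MvPolynomial.totalDegree_finsetProd _ _).trans ?_) hd
          refine le_trans (Finset.sum_le_sum fun i _ => ?_) h1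
          exact (MvPolynomial.totalDegree_pow _ _).trans (by
            rw [MvPolynomial.totalDegree_X, mul_one]))
      rw [← h4]
      refine Finset.sum_congr rfl fun x _ => ?_
      rw [map_prod]
      refine Finset.prod_congr rfl fun i _ => ?_
      rw [map_pow, MvPolynomial.eval_X]
    rw [h3, zero_smul]
  | zero => simp
  | add f g _ _ hf hg =>
    simp only [Pi.add_apply, Finset.sum_add_distrib, hf, hg, add_zero]
  | smul c f _ hf =>
    simp only [Pi.smul_apply]
    rw [← Finset.smul_sum, hf, smul_zero]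

end Poly

end Cfsg.Agent.H884.Avg
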