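import Cfsg.Agent.H884.CgOrth
import Cfsg.Agent.S0295
import Cfsg.Agent.S0296
import Cfsg.Agent.S0297

/-!
# Cyclic gaps of the orthogonal groups, standard forms (for S3561, S3679)

`cg_odd`, `cg_minus`, `cg_plus` : every subgroup `M` has a `CGap`, or is in the residual class, or fixes a nonsingular
point (`m` even).
-/

set_option autoImplicit false

namespace Cfsg.Agent.H884.Cg

open Cfsg Cfsg.Geo Cfsg.Agent.OrdDiv Cfsg.Agent.H436 Cfsg.Agent.H915.GN Cfsg.Agent.H264.FKS
open Cfsg.Agent.H899.CG Cfsg.Agent.H884.El Cfsg.Agent.LieClassical Cfsg.Agent.H955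
open Cfsg.Agent.LieClassical.OmegaReindex
open scoped MatrixGroups

theorem not_comm_of_primes {T : Type*} [Group T] [Finite T] [IsSimpleGroup T] {r s : ℕ} (hr : r.Prime) (hs : s.Prime)
    (hrs : r ≠ s) (h1 : r ∣ Nat.card T) (h2 : s ∣ Nat.card T) : ¬ ∀ a b : T, a * b = b * a := by
  intro hc
  have := Fact.mk hr
  obtain ⟨x, hx⟩ := exists_prime_orderOf_dvd_card' r h1
  have hn : (Subgroup.zpowers x).Normal := ⟨fun n hn g => by rw [hc g n, mul_inv_cancel_right]; exact hn⟩
  rcases hn.eq_bot_or_eq_top with h | h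
  · rw [Subgroup.zpowers_eq_bot] at h
    rw [h, orderOf_one] at hx
    exact hr.one_lt.ne hx
  · have h3 : Nat.card T = r := by
      rw [← hx, ← Nat.card_zpowers, h, Subgroup.card_top]
    rw [h3] at h2
    exact hrs ((Nat.prime_dvd_prime_iff_eq hs hr).1 h2).symm

/-- the condition on the outer automorphisms for a named group -/
theorem outOK_of {T : Type} [Group T] [Finite T] [IsSimpleGroup T] {g : Grp} {p a : ℕ} (hp : p.Prime)
    (hna : ¬ ∀ x y : T, x * y = y * x) (hn : IsNamed g T) (hch : HasChar p g) (ha : fld g = p ^ a) :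
    OutOK T (fld g) a := by
  intro e r he hr hra
  have hlt := hr.lt (by omega)
  have h5 : 5 ≤ r := by
    by_contra hcon
    have h4 : r = 4 := by omega
    have := hr.prime
    rw [h4] at this
    exact absurd this (by norm_num)
  refine not_dvd_out hna hp hn hch hr.prime h5 ha hra fun h => ?_
  have h6 := (hr.dvd_iff (by rw [ha]; exact Nat.one_le_pow _ _ hp.pos) 2).1 h
  have := Nat.le_of_dvd (by norm_num) h6
  omega

variable {F : Type} [Field F] [Fintype F]

theorem two_primes {m : ℕ} (hm : 3 ≤ m) (hexc : ¬ (Nat.card F = 2 ∧ m = 4)) {T : Type} [Group T]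
    (h1 : ∀ r, PP (Nat.card F) (2 * m - 2) r → r ∣ Nat.card T) (h2 : ∀ r, PP (Nat.card F) (oddE m) r → r ∣ Nat.card T) :
    ∃ r s : ℕ, r.Prime ∧ s.Prime ∧ r ≠ s ∧ r ∣ Nat.card T ∧ s ∣ Nat.card T := by
  have hq := one_lt_q F
  have ho3 := oddE_odd (m := m) (by omega)
  have he33 : 3 ≤ oddE m := by
    rcases Nat.even_or_odd m with he | ho
    · rw [oddE_of_even he]
      obtain ⟨k, hk⟩ := he
      omega
    · rw [oddE_of_odd ho]; exact hm
  obtain ⟨r, hr⟩ := exists_pp (q := Nat.card F) (e := 2 * m - 2) (by omega) (by omega) (by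
    rintro ⟨h3, h4⟩
    exact hexc ⟨h3, by omega⟩)
  obtain ⟨s, hs⟩ := exists_pp (q := Nat.card F) (e := oddE m) (by omega) he33 (by
    rintro ⟨-, h⟩
    rw [h] at ho3
    exact absurd ho3 (by decide))
  refine ⟨r, s, hr.prime, hs.prime, ?_, h1 r hr, h2 s hs⟩
  refine hr.ne_of_ne hs ?_
  intro h
  rw [← h] at ho3
  have : Even (2 * m - 2) := ⟨m - 1, by omega⟩
  exact (Nat.not_even_iff_odd.2 ho3) this

/-- **`Ω_{2m+1}(q)`.** -/
theorem cg_odd {m : ℕ} (hm : 3 ≤ m) (hodd : Odd (Fintype.card F)) (M : Subgroup (POmega F (quadFormOdd m F))) :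
    CGap _ M ∨ InOrthogonalResidualClass (pre (quadFormOdd m F) M) ∨
      (Even m ∧ ∃ v, quadFormOdd m F v ≠ 0 ∧
        pre (quadFormOdd m F) M ≤ subspaceStabilizer (Submodule.span F {v})) := by
  have h2 := H390.two_ne_zero_of_odd hodd
  obtain ⟨p, a, hp, ha, hpa⟩ := exists_char F
  have hT : IsNamed (.oodd m (Fintype.card F)) (POmega F (quadFormOdd m F)) :=
    .mk' ⟨F, inferInstance, inferInstance, rfl, ⟨MulEquiv.refl _⟩⟩ ⟨hm, hodd, Fintype.isPrimePow_card_of_field⟩
      (oodd_eq hm hodd)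
  have hs : IsSimpleGroup (POmega F (quadFormOdd m F)) := S0295.result hodd m hm
  have hfin : Finite (POmega F (quadFormOdd m F)) := Quotient.finite _
  have hne : Nat.card F ≠ 2 := by
    rw [Nat.card_eq_fintype_card]
    rintro h
    rw [h] at hodd
    exact absurd hodd (by decide)
  have hD := data_odd hm h2 (F := F)
  have hQ := nondeg_iff.2 (quadOdd_nondegenerate h2 (F := F) (m := m))
  have hna : ¬ ∀ x y : POmega F (quadFormOdd m F), x * y = y * x := by
    have key : ∀ e, 3 ≤ e → e ≤ m ∨ Even e ∧ e ≤ 2 * m - 2 → (Odd e ∨ Even e) → ∀ r, PP (Nat.card F) e r →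
        r ∣ Nat.card (POmega F (⇑(quadOdd m F))) := by
      intro e he h3 h4 r hr
      have hr2 : r ≠ 2 := by have := hr.lt (by omega); omega
      rcases h4 with h4 | h4
      · have h5 : e ≤ m := by
          rcases h3 with h3 | h3
          · exact h3
          · exact absurd h3.1 (Nat.not_even_iff_odd.2 h4)
        obtain ⟨g, h1, h2', h3, -⟩ := exists_g_odd (A := 1) hQ hr h4 (by omega) le_rfl
          (Or.inr ⟨h2, by rw [card_odd]; omega⟩)
        exact dvd_card_T hD h1 hr.prime hr2 h2' h3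
      · obtain ⟨g, h1, h2', h3, -⟩ := exists_g (A := 1) hQ hr h4 (by omega) le_rfl
          (Or.inr ⟨h2, by rw [card_odd]; omega⟩)
        exact dvd_card_T hD h1 hr.prime hr2 h2' h3
    rw [coe_quadOdd] at key
    have ho3 := oddE_odd (m := m) (by omega)
    have he33 : 3 ≤ oddE m ∧ oddE m ≤ m := by
      rcases Nat.even_or_odd m with he | ho
      · rw [oddE_of_even he]
        obtain ⟨k, hk⟩ := he
        omega
      · rw [oddE_of_odd ho]; exact ⟨hm, le_rfl⟩
    obtain ⟨r, s, h3, h4, h5, h6, h7⟩ := two_primes (F := F) hm (fun h => hne h.1)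
      (T := POmega F (quadFormOdd m F)) (key _ (by omega) (Or.inr ⟨⟨m - 1, by omega⟩, le_rfl⟩) (Or.inr ⟨m - 1, by omega⟩))
      (key _ he33.1 (Or.inl he33.2) (Or.inl ho3))
    exact not_comm_of_primes h3 h4 h5 h6 h7
  have hfl : fld (.oodd m (Fintype.card F)) = p ^ a := by
    rw [← hpa, Nat.card_eq_fintype_card]; rfl
  have hout : OutOK (POmega F (quadFormOdd m F)) (Nat.card F) a := by
    have := outOK_of hp hna hT ⟨a, by rw [← Nat.card_eq_fintype_card]; exact hpa⟩ hfl
    rw [Nat.card_eq_fintype_card]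
    exact this
  have h : OutOK (POmega F (⇑(quadOdd m F))) (Nat.card F) a → ∀ M : Subgroup (POmega F (⇑(quadOdd m F))),
      CGap _ M ∨ InOrthogonalResidualClass (pre (⇑(quadOdd m F)) M) ∨
      (Even m ∧ ∃ v, quadOdd m F v ≠ 0 ∧
        pre (⇑(quadOdd m F)) M ≤ subspaceStabilizer (Submodule.span F {v})) := by
    intro ho M
    rcases cg_odd_gen hp ha hpa h2 hm (card_odd m) hQ hD ho M with
      h | h | ⟨h1, v, h2, h3, -⟩
    · exact Or.inl h
    · exact Or.inr (Or.inl h)
    · exact Or.inr (Or.inr ⟨h1, v, h2, h3⟩)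
  rw [coe_quadOdd] at h
  exact h hout M

/-- **`PΩ⁻_{2m}(q)`.** -/
theorem cg_minus {m : ℕ} (hm : 4 ≤ m) {a' b : F}
    (hab : ∀ z₁ z₂ : F, z₁ ^ 2 + a' * z₁ * z₂ + b * z₂ ^ 2 = 0 → z₁ = 0 ∧ z₂ = 0)
    (M : Subgroup (POmega F (quadFormMinus (m - 1) F a' b))) :
    CGap _ M ∨ InOrthogonalResidualClass (pre (quadFormMinus (m - 1) F a' b) M) := by
  obtain ⟨p, a, hp, ha, hpa⟩ := exists_char F
  have hT : IsNamed (.ominus m (Fintype.card F)) (POmega F (quadFormMinus (m - 1) F a' b)) :=
    .mk' ⟨F, inferInstance, inferInstance, a', b, rfl, hab, ⟨MulEquiv.refl _⟩⟩ ⟨hm, Fintype.isPrimePow_card_of_field⟩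
      (ominus_eq hm hab)
  have hs : IsSimpleGroup (POmega F (quadFormMinus (m - 1) F a' b)) := S0297.result m hm a' b hab
  have hfin : Finite (POmega F (quadFormMinus (m - 1) F a' b)) := Quotient.finite _
  have hq := one_lt_q F
  have hD := data_minus hm hab
  have hQ := nondeg_iff.2 (quadMinus_nondegenerate (m := m - 1) hab)
  have hP := not_isPlus_quadMinus (m := m - 1) hab
  have hna : ¬ ∀ x y : POmega F (quadFormMinus (m - 1) F a' b), x * y = y * x := by
    have key : ∀ e, (e = 2 * m ∨ e = 3) → ∀ r, PP (Nat.card F) e r →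
        r ∣ Nat.card (POmega F (⇑(quadMinus (m - 1) F a' b))) := by
      intro e he r hr
      have hr2 : r ≠ 2 := by have := hr.lt (by omega); omega
      have hev : Even (Fintype.card ((Fin (m - 1) ⊕ Fin (m - 1)) ⊕ Fin 2)) := by
        rw [card_minus (by omega)]; exact even_two_mul m
      rcases he with rfl | rfl
      · obtain ⟨g, h1, h2', h3, -⟩ := exists_g (A := 1) hQ hr (even_two_mul m) (by omega) le_rfl
          (Or.inl ⟨hev, Or.inr ⟨by rw [card_minus (by omega)]; omega, iff_of_false hP (by decide)⟩⟩)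
        exact dvd_card_T hD h1 hr.prime hr2 h2' h3
      · obtain ⟨g, h1, h2', h3, -⟩ := exists_g_odd (A := 1) hQ hr (by decide) (by omega) le_rfl
          (Or.inl ⟨hev, Or.inl (by rw [card_minus (by omega)]; omega)⟩)
        exact dvd_card_T hD h1 hr.prime hr2 h2' h3
    rw [coe_quadMinus] at key
    obtain ⟨r, hr⟩ := exists_pp (q := Nat.card F) (e := 2 * m) (by omega) (by omega) (by omega)
    obtain ⟨s, hs⟩ := exists_pp (q := Nat.card F) (e := 3) (by omega) le_rfl (by omega)
    exact not_comm_of_primes hr.prime hs.prime (hr.ne_of_ne hs (by omega)) (key _ (Or.inl rfl) r hr)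
      (key _ (Or.inr rfl) s hs)
  have hfl : fld (.ominus m (Fintype.card F)) = p ^ a := by
    rw [← hpa, Nat.card_eq_fintype_card]; rfl
  have hout : OutOK (POmega F (quadFormMinus (m - 1) F a' b)) (Nat.card F) a := by
    have := outOK_of hp hna hT ⟨a, by rw [← Nat.card_eq_fintype_card]; exact hpa⟩ hfl
    rw [Nat.card_eq_fintype_card]
    exact this
  have h : OutOK (POmega F (⇑(quadMinus (m - 1) F a' b))) (Nat.card F) a →
      ∀ M : Subgroup (POmega F (⇑(quadMinus (m - 1) F a' b))),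
      CGap _ M ∨ InOrthogonalResidualClass (pre (⇑(quadMinus (m - 1) F a' b)) M) := fun ho M =>
    cg_minus_gen hp ha hpa hm (card_minus (by omega)) hQ hP hD ho M
  rw [coe_quadMinus] at h
  exact h hout M

/-- **`PΩ⁺_{2m}(q)`.** -/
theorem cg_plus {m : ℕ} (hm : 4 ≤ m) (hexc : ¬ (Nat.card F = 2 ∧ m = 4)) (M : Subgroup (POmega F (quadFormPlus m F))) :
    CGap _ M ∨ InOrthogonalResidualClass (pre (quadFormPlus m F) M) ∨
      (Even m ∧ ∃ v, quadFormPlus m F v ≠ 0 ∧
        pre (quadFormPlus m F) M ≤ subspaceStabilizer (Submodule.span F {v})) := by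
  obtain ⟨p, a, hp, ha, hpa⟩ := exists_char F
  have hT : IsNamed (.oplus m (Fintype.card F)) (POmega F (quadFormPlus m F)) :=
    .mk' ⟨F, inferInstance, inferInstance, rfl, ⟨MulEquiv.refl _⟩⟩ ⟨hm, Fintype.isPrimePow_card_of_field⟩
      (oplus_eq hm)
  have hs : IsSimpleGroup (POmega F (quadFormPlus m F)) := S0296.result m hm
  have hfin : Finite (POmega F (quadFormPlus m F)) := Quotient.finite _
  have hq := one_lt_q F
  have hD := data_plus (F := F) hm
  have hQ := nondeg_iff.2 (quadPlus_nondegenerate (F := F) (m := m))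
  have hP := isPlus_quadPlus (F := F) m
  have hna : ¬ ∀ x y : POmega F (quadFormPlus m F), x * y = y * x := by
    have hev : Even (Fintype.card (Fin m ⊕ Fin m)) := by rw [card_plus]; exact even_two_mul m
    have key : ∀ e, (e = 2 * m - 2 ∨ e = 3) → ∀ r, PP (Nat.card F) e r →
        r ∣ Nat.card (POmega F (⇑(quadPlus m F))) := by
      intro e he r hr
      have hr2 : r ≠ 2 := by have := hr.lt (by omega); omega
      rcases he with rfl | rfl
      · obtain ⟨g, h1, h2', h3, -⟩ := exists_g (A := 1) hQ hr ⟨m - 1, by omega⟩ (by omega) le_rfl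
          (Or.inl ⟨hev, Or.inl (by rw [card_plus]; omega)⟩)
        exact dvd_card_T hD h1 hr.prime hr2 h2' h3
      · obtain ⟨g, h1, h2', h3, -⟩ := exists_g_odd (A := 1) hQ hr (by decide) (by omega) le_rfl
          (Or.inl ⟨hev, Or.inl (by rw [card_plus]; omega)⟩)
        exact dvd_card_T hD h1 hr.prime hr2 h2' h3
    rw [coe_quadPlus] at key
    obtain ⟨r, hr⟩ := exists_pp (q := Nat.card F) (e := 2 * m - 2) (by omega) (by omega) (fun h => hexc ⟨h.1, by omega⟩)
    obtain ⟨s, hs⟩ := exists_pp (q := Nat.card F) (e := 3) (by omega) le_rfl (by omega)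
    exact not_comm_of_primes hr.prime hs.prime (hr.ne_of_ne hs (by omega)) (key _ (Or.inl rfl) r hr)
      (key _ (Or.inr rfl) s hs)
  have hfl : fld (.oplus m (Fintype.card F)) = p ^ a := by
    rw [← hpa, Nat.card_eq_fintype_card]; rfl
  have hout : OutOK (POmega F (quadFormPlus m F)) (Nat.card F) a := by
    have := outOK_of hp hna hT ⟨a, by rw [← Nat.card_eq_fintype_card]; exact hpa⟩ hfl
    rw [Nat.card_eq_fintype_card]
    exact this
  have h : OutOK (POmega F (⇑(quadPlus m F))) (Nat.card F) a → ∀ M : Subgroup (POmega F (⇑(quadPlus m F))),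
      CGap _ M ∨ InOrthogonalResidualClass (pre (⇑(quadPlus m F)) M) ∨
      (Even m ∧ ∃ v, quadPlus m F v ≠ 0 ∧
        pre (⇑(quadPlus m F)) M ≤ subspaceStabilizer (Submodule.span F {v})) := fun ho M =>
    cg_plus_gen hp ha hpa hm (card_plus m) hQ hP hexc hD ho M
  rw [coe_quadPlus] at h
  exact h hout M

end Cfsg.Agent.H884.Cg
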