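import Cfsg.Agent.H884.ElFin
import Cfsg.Agent.H884.CgLin

/-!
# Groups of isometries hitting the large cyclic primes (CGap version of `ElRows`)

`HitsA a H e` : the order of `H` is divisible by all primes `r` with `ord_r(q) = e` and `¬ r ∣ a`, `q = p ^ a`.
-/

set_option autoImplicit false

namespace Cfsg.Agent.H884.Cg

open Module QuadraticMap Cfsg.Geo Cfsg.Agent.LieClassical.OrthCore Cfsg.Agent.H955 Cfsg.Agent.H954.TSing
open Cfsg.Agent.H951 (fx cm Inv)
open Cfsg.Agent.H884.El
open scoped MatrixGroups Matrix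

universe u v

theorem na_of {p a e r : ℕ} (ha : 1 ≤ a) (he : 1 ≤ e) (h : PP p (a * e) r) : ¬ r ∣ a := by
  intro h1
  have h2 := Nat.le_of_dvd (by omega) h1
  have h3 := h.lt (Nat.mul_pos (by omega) (by omega))
  have h4 : a * 1 ≤ a * e := Nat.mul_le_mul_left a he
  omega

theorem exists_ppa {p a e q : ℕ} (hp : p.Prime) (ha : 1 ≤ a) (hpa : q = p ^ a) (he : 3 ≤ e)
    (h6 : ¬ (q = 2 ∧ e = 6)) : ∃ r, PP q e r ∧ ¬ r ∣ a := by
  by_cases h : p = 2 ∧ a * e = 6
  · obtain ⟨rfl, h1⟩ := h
    have ha1 : a ≠ 1 := by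
      rintro rfl
      exact h6 ⟨by rw [hpa]; rfl, by omega⟩
    have ha2 : a = 2 := by
      have h3 : a * 3 ≤ a * e := Nat.mul_le_mul_left a he
      omega
    subst ha2
    have he3 : e = 3 := by omega
    subst he3
    subst hpa
    refine ⟨7, ⟨by norm_num, ?_⟩, by norm_num⟩
    have : Fact (Nat.Prime 3) := ⟨Nat.prime_three⟩
    exact orderOf_eq_prime (by decide) (by decide)
  · obtain ⟨r, hr⟩ := exists_pp (q := p) (e := a * e) hp.two_le (by
      have := Nat.mul_le_mul ha he; omega) h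
    exact ⟨r, by rw [hpa]; exact hr.of_pow ha, na_of ha (by omega) hr⟩

section Mat

variable {ι : Type} [Fintype ι] [DecidableEq ι] {F : Type u} [Field F] [Fintype F] {Q : QuadraticForm F (ι → F)}
  {H : Subgroup (GL ι F)}

/-- the order of `H` is divisible by all primes `r` with `ord_r(q) = e` and `¬ r ∣ a`. -/
def HitsA (a : ℕ) (H : Subgroup (GL ι F)) (e : ℕ) : Prop := ∀ r, PP (Nat.card F) e r → ¬ r ∣ a → r ∣ Nat.card H

/-- **Minus type.** -/
theorem rowA_minus {p a : ℕ} (hp : p.Prime) (ha : 1 ≤ a) (hpa : Nat.card F = p ^ a) {m e₃ : ℕ} (hm : 4 ≤ m) (hn : Fintype.card ι = 2 * m) (hQ : Nondeg Q)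
    (hH : H ≤ Cfsg.isometryGroup F (⇑Q)) (he₃ : Odd e₃) (he₃3 : 3 ≤ e₃) (he₃n : 2 * m < 4 * e₃)
    (he₃m : Even m → e₃ = m - 1) (h1 : HitsA a H (2 * m)) (h2 : HitsA a H (2 * m - 2)) (h3 : HitsA a H e₃) :
    InOrthogonalResidualClass H := by
  have hq := one_lt_q F
  obtain ⟨r₀, hr₀⟩ := exists_ppp (e := 2 * m) hp ha (by omega) (by omega) (fun b hb => by
    have := Nat.mul_le_mul hb (show 8 ≤ 2 * m by omega); omega)
  have hr₀q : PP (Nat.card F) (2 * m) r₀ := by rw [hpa]; exact hr₀.of_pow ha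
  have hn₀ : ¬ r₀ ∣ a := na_of ha (by omega) hr₀
  obtain ⟨r₃, hr₃, hn₃⟩ := exists_ppa (e := e₃) hp ha hpa he₃3 (by
    rintro ⟨-, rfl⟩
    exact absurd he₃ (by decide))
  have hfin : finrank F (ι → F) = 2 * m := by rw [Module.finrank_fintype_fun_eq_card, hn]
  have hlt := hr₀q.lt (by omega)
  -- irreducibility
  have hirr : ActsIrreducibly (matrixSet H) := by
    by_contra hred
    obtain ⟨g, hgH, hiso, -, hg1⟩ := exists_elt hH hr₀q (by omega) (h1 _ hr₀q hn₀)
    obtain ⟨hcm, -⟩ := hiso.even_case hQ (lin_ne_one hg1) hr₀q (even_two_mul m) (by omega)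
    have hcmt : cm (lin g) = ⊤ := Submodule.eq_top_of_finrank_eq (by rw [hcm, hfin])
    have key : ∀ W : Submodule F (ι → F), W ≠ ⊥ → H ≤ subspaceStabilizer W → W = ⊤ := by
      intro W hW hHW
      rcases hiso.le_or hr₀q hcm (inv_of_mem (hHW hgH)) with h | h
      · exfalso
        apply hW
        rw [eq_bot_iff]
        refine h.trans ?_
        have := (H951.isCompl_fx_cm hiso.ne0 hiso.pow).inf_eq_bot
        rw [hcmt, inf_top_eq] at this
        rw [this]
      · rw [hcmt] at h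
        exact top_le_iff.1 h
    rcases Cfsg.Agent.H925.reducible_cases (Cfsg.Agent.H884.OddForm.isNondegenerate_of_nondeg Q hQ) hH hred with
      ⟨W, hW0, hWs, hHW⟩ | ⟨W, hW0, -, hd, hHW⟩ | ⟨-, v, hv, hHW⟩
    · have hW := key W hW0 hHW
      exact ts_not_nondeg (Q := Q) (W := W) (U := cm (lin g)) hWs (by rw [hW]; exact le_top)
        (cm_ne_bot (lin_ne_one hg1)) (nondeg_cm hQ hiso.iso hiso.ne0 hiso.pow)
    · rw [key W hW0 hHW, finrank_top, hfin] at hd
      omega
    · have hv0 : v ≠ 0 := by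
        rintro rfl
        exact hv (QuadraticMap.map_zero Q)
      have hs0 : Submodule.span F {v} ≠ ⊥ := by
        rwa [Ne, Submodule.span_singleton_eq_bot]
      have h5 := finrank_span_singleton (K := F) hv0
      rw [key _ hs0 hHW, finrank_top, hfin] at h5
      omega
  rcases irr_main (by omega) hQ hH hirr hp ha hpa hr₀ (by omega) (h1 _ hr₀q hn₀) with
    h | ⟨s, K, hs, hsn, hK, hHK, h⟩ | ⟨s, k, hs, hk, hsk, h⟩ | h
  · have := h _ _ (by omega) hr₀q (h1 _ hr₀q hn₀)
    omega
  · exfalso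
    rw [hn] at hsn
    have hs2 : s = 2 := by
      by_cases hexc : Nat.card F = 2 ∧ 2 * m - 2 = 6
      · have hm4 : m = 4 := by omega
        rw [hm4] at hsn
        have : s ∣ 2 ^ 3 := by norm_num; exact hsn
        exact (Nat.prime_dvd_prime_iff_eq hs Nat.prime_two).1 (hs.dvd_of_dvd_pow this)
      · obtain ⟨r₁, hr₁, hn₁⟩ := exists_ppa (e := 2 * m - 2) hp ha hpa (by omega) hexc
        have hne : Nonempty ι := Fintype.card_pos_iff.1 (by omega)
        have h5 := ext_cases hs hK hHK (by rw [hn]; exact hsn) hr₁ (by omega) (h2 _ hr₁ hn₁)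
        exact eq_two (by omega) hs hsn (hr₁.lt (by omega)) h5
    subst hs2
    exact no_quadratic_field hQ hH hr₃ he₃ he₃3 (by omega) (h3 _ hr₃ hn₃) hK hHK
  · exfalso
    rw [hn] at hsk
    have hme := even_of_pow (by omega) hs hsk
    have h5 := h _ _ (by omega) hr₀q (h1 _ hr₀q hn₀)
    by_cases hexc : Nat.card F = 2 ∧ 2 * m - 2 = 6
    · have hr9 : r₀ = 9 := by omega
      have := hr₀q.prime
      rw [hr9] at this
      exact absurd this (by norm_num)
    · obtain ⟨r₁, hr₁, hn₁⟩ := exists_ppa (e := 2 * m - 2) hp ha hpa (by omega) hexc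
      rw [he₃m hme] at hr₃ h3
      have h6 := h _ _ (by omega) hr₁ (h2 _ hr₁ hn₁)
      have h7 := h _ _ (by omega) hr₃ (h3 _ hr₃ hn₃)
      exact false_of_even hm hme hr₁ hr₃ (by omega) (by omega)
  · exact h

/-- **Odd dimension.** -/
theorem rowA_odd {p a : ℕ} (hp : p.Prime) (ha : 1 ≤ a) (hpa : Nat.card F = p ^ a) {m : ℕ} (h2F : (2 : F) ≠ 0) (hm : 3 ≤ m) (hn : Fintype.card ι = 2 * m + 1) (hQ : Nondeg Q)
    (hH : H ≤ Cfsg.isometryGroup F (⇑Q)) (h1 : HitsA a H (2 * m))
    (h2 : HitsA a H (2 * m - 2)) (h3 : HitsA a H (oddE m)) :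
    InOrthogonalResidualClass H ∨ (Even m ∧ ∃ v : ι → F, Q v ≠ 0 ∧ H ≤ subspaceStabilizer (Submodule.span F {v}) ∧
      ¬ IsPlus (res Q (perp Q (Submodule.span F {v})))) := by
  have hq := one_lt_q F
  have hq2 : Nat.card F ≠ 2 := by
    intro h
    apply h2F
    have h5 : ((Fintype.card F : ℕ) : F) = 0 := FiniteField.cast_card_eq_zero F
    rw [← Nat.card_eq_fintype_card, h] at h5
    exact_mod_cast h5
  obtain ⟨r₀, hr₀⟩ := exists_ppp (e := 2 * m) hp ha (by omega) (by rw [← hpa]; omega) (fun b hb => by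
    have := Nat.mul_le_mul hb (show 6 ≤ 2 * m by omega); omega)
  have hr₀q : PP (Nat.card F) (2 * m) r₀ := by rw [hpa]; exact hr₀.of_pow ha
  have hn₀ : ¬ r₀ ∣ a := na_of ha (by omega) hr₀
  have ho3 := oddE_odd (m := m) (by omega)
  have he33 : 3 ≤ oddE m := by
    rcases Nat.even_or_odd m with he | ho
    · rw [oddE_of_even he]
      obtain ⟨k, hk⟩ := he
      omega
    · rw [oddE_of_odd ho]; exact hm
  obtain ⟨r₃, hr₃, hn₃⟩ := exists_ppa (e := oddE m) hp ha hpa he33 (by omega)
  obtain ⟨r₁, hr₁, hn₁⟩ := exists_ppa (e := 2 * m - 2) hp ha hpa (by omega) (by omega)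
  have hfin : finrank F (ι → F) = 2 * m + 1 := by rw [Module.finrank_fintype_fun_eq_card, hn]
  have hlt := hr₀q.lt (by omega)
  by_cases hirr : ActsIrreducibly (matrixSet H)
  · left
    -- the three primes are not all at most `2m + 2`
    have hbound : ¬ ∀ e t, 2 ≤ e → PP (Nat.card F) e t → t ∣ Nat.card H → t ≤ Fintype.card ι + 1 := by
      intro h
      rcases Nat.even_or_odd m with he | ho
      · have hm4 : 4 ≤ m := by
          obtain ⟨k, hk⟩ := he
          omega
        rw [oddE_of_even he] at hr₃ h3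
        have h6 := h _ _ (by omega) hr₁ (h2 _ hr₁ hn₁)
        have h7 := h _ _ (by omega) hr₃ (h3 _ hr₃ hn₃)
        exact false_of_even hm4 he hr₁ hr₃ (by omega) (by omega)
      · rw [oddE_of_odd ho] at hr₃ h3
        have h6 := h _ _ (by omega) hr₀q (h1 _ hr₀q hn₀)
        have h7 := h _ _ (by omega) hr₃ (h3 _ hr₃ hn₃)
        exact false_of_odd hm ho hr₀q hr₃ (by omega) (by omega)
    rcases irr_main (by omega) hQ hH hirr hp ha hpa hr₀ (by omega) (h1 _ hr₀q hn₀) with
      h | ⟨s, K, hs, hsn, hK, hHK, h⟩ | ⟨s, k, hs, hk, hsk, h⟩ | h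
    · exact absurd (fun e t he ht htH => (h e t he ht htH).trans (Nat.le_succ _)) hbound
    · exfalso
      rw [hn] at hsn
      have hne : Nonempty ι := Fintype.card_pos_iff.1 (by omega)
      have hnot : ¬ s ∣ 2 * m := by
        intro h5
        have h6 : s ∣ 1 := by
          have := Nat.dvd_sub hsn h5
          rwa [show 2 * m + 1 - 2 * m = 1 by omega] at this
        exact hs.one_lt.ne' (Nat.dvd_one.1 h6)
      rcases h with h | h
      · subst h
        have h5 := ext_cases hs hK hHK (by rw [hn]; exact hsn) hr₁ (by omega) (h2 _ hr₁ hn₁)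
        rcases h5 with h5 | h5
        · exact hr₁.ne_of_ne hr₀q (by omega) h5
        · have := Nat.le_of_dvd (by omega) h5
          omega
      · exact hnot h
    · exact absurd h hbound
    · exact h
  · right
    obtain ⟨g, hgH, hiso, -, hg1⟩ := exists_elt hH hr₀q (by omega) (h1 _ hr₀q hn₀)
    obtain ⟨hcm, hcmP⟩ := hiso.even_case hQ (lin_ne_one hg1) hr₀q (even_two_mul m) (by omega)
    have hadd := hiso.finrank_add
    have hfx : finrank F ↥(fx (lin g)) = 1 := by omega
    obtain ⟨v, hv0, hspan⟩ := finrank_eq_one_iff'.1 hfx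
    have hv0' : (v : ι → F) ≠ 0 := fun h => hv0 (Subtype.ext h)
    have hfxs : fx (lin g) = Submodule.span F {(v : ι → F)} := by
      apply le_antisymm
      · intro w hw
        obtain ⟨c, hc⟩ := hspan ⟨w, hw⟩
        exact Submodule.mem_span_singleton.2 ⟨c, congrArg Subtype.val hc⟩
      · rw [Submodule.span_singleton_le_iff_mem]
        exact v.2
    have hnfx := nondeg_fx hQ hiso.iso hiso.ne0 hiso.pow
    have hQv : Q (v : ι → F) ≠ 0 := by
      intro h0
      refine ts_not_nondeg (Q := Q) (W := fx (lin g)) (U := fx (lin g)) ?_ le_rfl ?_ hnfx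
      · intro w hw
        obtain ⟨c, hc⟩ := hspan ⟨w, hw⟩
        have : w = c • (v : ι → F) := (congrArg Subtype.val hc).symm
        rw [this, QuadraticMap.map_smul, h0, smul_zero]
      · intro hb
        rw [hb, finrank_bot] at hfx
        omega
    -- an invariant subspace of small dimension is the fixed line
    have key : ∀ W : Submodule F (ι → F), W ≠ ⊥ → H ≤ subspaceStabilizer W → W ≤ fx (lin g) → W = fx (lin g) := by
      intro W hW hHW hle
      apply Submodule.eq_of_le_of_finrank_eq hle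
      have h5 := Submodule.finrank_mono hle
      have h6 : finrank F W ≠ 0 := fun h => hW (Submodule.finrank_eq_zero.1 h)
      omega
    obtain ⟨W, hHW, hWeq⟩ : ∃ W : Submodule F (ι → F), H ≤ subspaceStabilizer W ∧ W = fx (lin g) := by
      rcases Cfsg.Agent.H925.reducible_cases (Cfsg.Agent.H884.OddForm.isNondegenerate_of_nondeg Q hQ) hH hirr with
        ⟨W, hW0, hWs, hHW⟩ | ⟨W, hW0, -, hd, hHW⟩ | ⟨h2', -⟩
      · exact ⟨W, hHW, key W hW0 hHW
          (hiso.ts_le hQ (lin_ne_one hg1) hr₀q hcm (inv_of_mem (hHW hgH)) hWs)⟩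
      · exact ⟨W, hHW, key W hW0 hHW (hiso.le_fx hr₀q (inv_of_mem (hHW hgH)) (by omega))⟩
      · exact absurd h2' h2F
    have hperp : perp Q (Submodule.span F {(v : ι → F)}) = cm (lin g) := by
      rw [← hfxs, perp_fx hQ hiso.iso hiso.ne0 hiso.pow]
    have hme : Even m := by
      by_contra hodd
      rw [Nat.not_even_iff_odd] at hodd
      rw [oddE_of_odd hodd] at hr₃ h3
      obtain ⟨z, hzH, hziso, -, hz1⟩ := exists_elt hH hr₃ (by omega) (h3 _ hr₃ hn₃)
      obtain ⟨hzcm, hzP, -⟩ := hziso.odd_case hQ (lin_ne_one hz1) hr₃ hodd (by omega)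
      have hzadd := hziso.finrank_add
      have hWz : W ≤ fx (lin z) := hziso.le_fx hr₃ (inv_of_mem (hHW hzH)) (by rw [hWeq]; omega)
      have hWz' : W = fx (lin z) := Submodule.eq_of_le_of_finrank_eq hWz (by rw [hWeq]; omega)
      have h5 := perp_fx hQ hziso.iso hziso.ne0 hziso.pow
      rw [← hWz', hWeq, perp_fx hQ hiso.iso hiso.ne0 hiso.pow] at h5
      rw [← h5] at hzP
      exact hcmP hzP
    refine ⟨hme, v, hQv, ?_, ?_⟩
    · rw [← hfxs, ← hWeq]; exact hHW
    · rw [hperp]; exact hcmP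

/-- **Plus type.** -/
theorem rowA_plus {p a : ℕ} (hp : p.Prime) (ha : 1 ≤ a) (hpa : Nat.card F = p ^ a) {m : ℕ} (hm : 4 ≤ m) (hn : Fintype.card ι = 2 * m) (hQ : Nondeg Q) (hP : IsPlus Q)
    (hexc : ¬ (Nat.card F = 2 ∧ m = 4))
    (hH : H ≤ Cfsg.isometryGroup F (⇑Q)) (h2 : HitsA a H (2 * m - 2)) (h3 : HitsA a H (oddE m)) :
    InOrthogonalResidualClass H ∨
      (Even m ∧ ∃ v : ι → F, Q v ≠ 0 ∧ H ≤ subspaceStabilizer (Submodule.span F {v})) := by
  have hq := one_lt_q F
  obtain ⟨r₁, hr₁⟩ := exists_ppp (e := 2 * m - 2) hp ha (by omega) (by rw [← hpa]; omega) (fun b hb => by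
    have := Nat.mul_le_mul hb (show 6 ≤ 2 * m - 2 by omega); omega)
  have hr₁q : PP (Nat.card F) (2 * m - 2) r₁ := by rw [hpa]; exact hr₁.of_pow ha
  have hn₁ : ¬ r₁ ∣ a := na_of ha (by omega) hr₁
  have ho3 := oddE_odd (m := m) (by omega)
  have he33 : 3 ≤ oddE m := by
    rcases Nat.even_or_odd m with he | ho
    · rw [oddE_of_even he]; omega
    · rw [oddE_of_odd ho]; omega
  have he3g : m - 1 ≤ oddE m := by
    rcases Nat.even_or_odd m with he | ho
    · rw [oddE_of_even he]
    · rw [oddE_of_odd ho]; omega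
  have he3n : 2 * m < 4 * oddE m := by omega
  obtain ⟨r₃, hr₃, hn₃⟩ := exists_ppa (e := oddE m) hp ha hpa he33 (by
    rintro ⟨-, h⟩
    rw [h] at ho3
    exact absurd ho3 (by decide))
  have hfin : finrank F (ι → F) = 2 * m := by rw [Module.finrank_fintype_fun_eq_card, hn]
  have hlt := hr₁q.lt (by omega)
  by_cases hirr : ActsIrreducibly (matrixSet H)
  · left
    rcases irr_main (by omega) hQ hH hirr hp ha hpa hr₁ (by omega) (h2 _ hr₁q hn₁) with
      h | ⟨s, K, hs, hsn, hK, hHK, h⟩ | ⟨s, k, hs, hk, hsk, h⟩ | h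
    · exfalso
      rcases Nat.even_or_odd m with he | ho
      · rw [oddE_of_even he] at hr₃ h3
        have h6 := h _ _ (by omega) hr₁q (h2 _ hr₁q hn₁)
        have h7 := h _ _ (by omega) hr₃ (h3 _ hr₃ hn₃)
        exact false_of_even hm he hr₁q hr₃ (by omega) (by omega)
      · rw [oddE_of_odd ho] at hr₃ h3
        have h7 := h _ _ (by omega) hr₃ (h3 _ hr₃ hn₃)
        have h8 := hr₃.two_mul_dvd (by omega) ho
        have h9 := hr₃.prime.two_le
        have := Nat.le_of_dvd (by omega) h8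
        omega
    · exfalso
      rw [hn] at hsn
      have hs2 := eq_two (by omega) hs hsn hlt h
      subst hs2
      exact no_quadratic_field hQ hH hr₃ ho3 he33 (by omega) (h3 _ hr₃ hn₃) hK hHK
    · exfalso
      rw [hn] at hsk
      have hme := even_of_pow (by omega) hs hsk
      rw [oddE_of_even hme] at hr₃ h3
      have h6 := h _ _ (by omega) hr₁q (h2 _ hr₁q hn₁)
      have h7 := h _ _ (by omega) hr₃ (h3 _ hr₃ hn₃)
      exact false_of_even hm hme hr₁q hr₃ (by omega) (by omega)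
    · exact h
  · right
    obtain ⟨g, hgH, hiso, -, hg1⟩ := exists_elt hH hr₁q (by omega) (h2 _ hr₁q hn₁)
    have hev : Even (2 * m - 2) := ⟨m - 1, by omega⟩
    obtain ⟨hcm, hcmP⟩ := hiso.even_case hQ (lin_ne_one hg1) hr₁q hev (by omega)
    have hadd := hiso.finrank_add
    have hfx : finrank F ↥(fx (lin g)) = 2 := by omega
    have hfxP : ¬ IsPlus (res Q (fx (lin g))) := by
      intro h
      have h5 := (hiso.isPlus_fx hQ (by rw [hfin]; exact even_two_mul m) (by rw [hcm]; exact hev)).1 hP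
      exact hcmP (h5.2 h)
    -- the other element
    obtain ⟨z, hzH, hziso, -, hz1⟩ := exists_elt hH hr₃ (by omega) (h3 _ hr₃ hn₃)
    obtain ⟨hzcm, hzP, -⟩ := hziso.odd_case hQ (lin_ne_one hz1) hr₃ ho3 (by omega)
    have hzadd := hziso.finrank_add
    have hzfxP : IsPlus (res Q (fx (lin z))) := by
      have h5 := (hziso.isPlus_fx hQ (by rw [hfin]; exact even_two_mul m) (by rw [hzcm]; exact even_two_mul _)).1 hP
      exact h5.1 hzP
    -- a stabilised line
    have key : ∀ W : Submodule F (ι → F), finrank F W = 1 → H ≤ subspaceStabilizer W → Even m := by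
      intro W hW hHW
      by_contra hodd
      rw [Nat.not_even_iff_odd] at hodd
      have h5 := hziso.le_fx hr₃ (inv_of_mem (hHW hzH)) (by omega)
      have h6 := Submodule.finrank_mono h5
      rw [oddE_of_odd hodd] at hzcm
      omega
    rcases Cfsg.Agent.H925.reducible_cases (Cfsg.Agent.H884.OddForm.isNondegenerate_of_nondeg Q hQ) hH hirr with
      ⟨W, hW0, hWs, hHW⟩ | ⟨W, hW0, hWn, hd, hHW⟩ | ⟨-, v, hv, hHW⟩
    · exfalso
      have h5 := hiso.ts_le hQ (lin_ne_one hg1) hr₁q hcm (inv_of_mem (hHW hgH)) hWs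
      apply hW0
      rw [Submodule.eq_bot_iff]
      intro w hw
      exact aniso_of_not_plus hfx hfxP (h5 hw) (hWs w hw)
    · have h5 := hiso.le_fx hr₁q (inv_of_mem (hHW hgH)) (by omega)
      have h6 := Submodule.finrank_mono h5
      have h7 : finrank F W ≠ 0 := fun h => hW0 (Submodule.finrank_eq_zero.1 h)
      by_cases hW1 : finrank F W = 1
      · refine ⟨key W hW1 hHW, ?_⟩
        obtain ⟨v, hv0, hspan⟩ := finrank_eq_one_iff'.1 hW1
        have hWs : W = Submodule.span F {(v : ι → F)} := by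
          apply le_antisymm
          · intro w hw
            obtain ⟨c, hc⟩ := hspan ⟨w, hw⟩
            exact Submodule.mem_span_singleton.2 ⟨c, congrArg Subtype.val hc⟩
          · rw [Submodule.span_singleton_le_iff_mem]
            exact v.2
        refine ⟨v, fun h0 => hv0 (Subtype.ext (aniso_of_not_plus hfx hfxP (h5 v.2) h0)), ?_⟩
        rw [← hWs]; exact hHW
      · exfalso
        have hW2 : finrank F W = 2 := by omega
        have h8 : W = fx (lin g) := Submodule.eq_of_le_of_finrank_eq h5 (by omega)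
        have h9 := hziso.le_fx hr₃ (inv_of_mem (hHW hzH)) (by omega)
        have h10 := Submodule.finrank_mono h9
        have h11 : W = fx (lin z) := Submodule.eq_of_le_of_finrank_eq h9 (by omega)
        rw [← h11, h8] at hzfxP
        exact hfxP hzfxP
    · refine ⟨key _ ?_ hHW, v, hv, hHW⟩
      apply finrank_span_singleton
      rintro rfl
      exact hv (QuadraticMap.map_zero Q)

end Mat

end Cfsg.Agent.H884.Cg
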