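import Cfsg.Agent.H884.CxFam2

/-!
# TEAM ELUSIVE, cross characteristic: the finite check

A version of helper278's `SporNum` for an arbitrary number `N` with prime divisors at most 73 and an arbitrary test.
-/

set_option autoImplicit false

namespace Cfsg.Agent.H884.Cx

open Cfsg.Agent.OrdDiv Cfsg.Agent.H436 Cfsg.Agent.H927.SgX Cfsg.Agent.H278.El.Num Cfsg.Agent.H278.El.SporNum

/-- the check for one `q` -/
def chkT (N : ℕ) (t : Grp → Bool) (q : ℕ) : Bool :=
  !(sm N (q ^ 2 - 1)) ||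
  (walk (fun n => q ^ n - 1) N (fun n => Nat.blt n 3 || t (.psl n q)) 73 2 &&
  walk (fun m => q ^ (2 * m) - 1) N (fun m => (Nat.blt m 2 || t (.psp m q)) &&
    (Nat.blt m 3 || Nat.beq (q % 2) 0 || t (.oodd m q))) 73 1 &&
  walk (fun i => q ^ (2 * i) - 1) N (fun i => Nat.blt i 3 ||
    ((!(sm N (q ^ (i + 1) - 1)) || t (.oplus (i + 1) q)) &&
      (!(sm N (q ^ (i + 1) + 1)) || t (.ominus (i + 1) q)))) 73 1 &&
  walk (vU q) N (fun n => Nat.blt n 3 || t (.psu n q)) 73 2)

/-- smoothness bounds the exponent -/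
theorem exp_le73 {p e : ℕ} (hp : p.Prime) (h : ∀ u : ℕ, u.Prime → u ∣ p ^ e - 1 → u ≤ 73) : e ≤ 72 := by
  by_contra hcon
  push Not at hcon
  obtain ⟨r, hr⟩ := exists_prim hp.two_le (show 3 ≤ e by omega) (fun h => by omega)
  have h1 := h r hr.prime (hr.dvd dvd_rfl)
  have := prim_le hr
  omega

theorem pow_lt73 {p e : ℕ} (hp : p ≤ 73) (he : e ≤ 72) : p ^ e + 1 < 2 ^ 512 := by
  have h1 : p ^ e ≤ 73 ^ e := Nat.pow_le_pow_left hp _
  have h2 : 73 ^ e ≤ 73 ^ 72 := Nat.pow_le_pow_right (by norm_num) he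
  have h3 : (73 : ℕ) ^ 72 + 1 < 2 ^ 512 := by decide +kernel
  omega

section

variable {N : ℕ} (hN0 : N ≠ 0) (hN : ∀ u : ℕ, u.Prime → u ∣ N → u ≤ 73) {p f : ℕ}
include hN0 hN

theorem sm_sub' (hp : p.Prime) (hp73 : p ≤ 73) {e : ℕ} (he : 1 ≤ e)
    (h : ∀ u : ℕ, u.Prime → u ∣ p ^ e - 1 → u ∣ N) : e ≤ 72 ∧ sm N (p ^ e - 1) = true := by
  have h72 : e ≤ 72 := exp_le73 hp fun u hu hd => hN u hu (h u hu hd)
  refine ⟨h72, sm_of hN0 ?_ ?_ h⟩
  · have : 2 ^ 1 ≤ p ^ e := (Nat.pow_le_pow_left hp.two_le 1).trans (Nat.pow_le_pow_right hp.pos he)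
    omega
  · have := pow_lt73 hp73 h72
    omega

omit hN in
theorem sm_add' (hp73 : p ≤ 73) {e : ℕ} (he : e ≤ 72)
    (h : ∀ u : ℕ, u.Prime → u ∣ p ^ e + 1 → u ∣ N) : sm N (p ^ e + 1) = true :=
  sm_of hN0 (by omega) (pow_lt73 hp73 he) h

/-- **The engine.** -/
theorem engine {t : Grp → Bool}
    (hchk : ∀ p : ℕ, p ≤ 73 → p.Prime → p ∣ N → ∀ j < 36, chkT N t (p ^ (j + 1)) = true)
    {g : Grp} (hg : Cond g) (hcl : IsCl g) {c : ℕ}
    (he : den g * c = num g) (hp : ∀ u : ℕ, u.Prime → u ∣ c → u ∣ N) : t g = true := by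
  have chk_of : ∀ {p f : ℕ}, p.Prime → 1 ≤ f → p ∣ N → (∀ u : ℕ, u.Prime → u ∣ (p ^ f) ^ 2 - 1 → u ∣ N) →
      p ≤ 73 ∧ sm N ((p ^ f) ^ 2 - 1) = true ∧ chkT N t (p ^ f) = true := by
    intro p f hpr hf hpx h
    have hp73 := hN p hpr hpx
    have h1 := sm_sub' hN0 hN hpr hp73 (e := f * 2) (by omega) (by rw [pow_mul]; exact h)
    have h5 := hchk p hp73 hpr hpx (f - 1) (by omega)
    rw [Nat.sub_add_cancel hf] at h5
    exact ⟨hp73, by rw [← pow_mul]; exact h1.2, h5⟩
  cases g with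
  | psl n q =>
    have hn : 3 ≤ n := hcl
    obtain ⟨p, f, hpr, hf, rfl⟩ := (isPrimePow_nat_iff _).1 hg.2.2
    have hq : 2 ≤ p ^ f := hg.2.2.two_le
    have hmq := psl_mq hn hq he
    have hpx : p ∣ N := hp p hpr (((dvd_pow_self p (by omega)).mul_right _).trans hmq)
    obtain ⟨hp73, hsm, hchk'⟩ := chk_of hpr hf hpx fun u hu hd => hp u hu (dvd_of_mq hmq hd)
    have hall : ∀ i, 1 ≤ i → i ≤ n → f * i ≤ 72 ∧ sm N ((p ^ f) ^ i - 1) = true := fun i hi1 hi2 => by
      have := sm_sub' hN0 hN hpr hp73 (e := f * i) (by nlinarith) (by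
        rw [pow_mul]
        exact fun u hu hd => hp u hu (psl_dvd hn hq he hi2 hu hd hi1))
      rwa [pow_mul] at this
    have hn72 : n ≤ 72 := by have := (hall n (by omega) le_rfl).1; nlinarith
    unfold chkT at hchk'
    rw [hsm] at hchk'
    simp only [Bool.not_true, Bool.false_or, Bool.and_eq_true] at hchk'
    have h1 := walk_spec 73 2 n hchk'.1.1.1 (by omega) (by omega) fun i hi1 hi2 => (hall i (by omega) hi2).2
    rw [Bool.or_eq_true] at h1
    rcases h1 with h1 | h1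
    · rw [Nat.blt_eq] at h1; omega
    · exact h1
  | psp m q =>
    have hm : 2 ≤ m := hg.1
    obtain ⟨p, f, hpr, hf, rfl⟩ := (isPrimePow_nat_iff _).1 hg.2.2
    have hq : 2 ≤ p ^ f := hg.2.2.two_le
    have hmq := psp_mq hm he
    have hpx : p ∣ N := hp p hpr (((dvd_pow_self p (by omega)).mul_right _).trans hmq)
    obtain ⟨hp73, hsm, hchk'⟩ := chk_of hpr hf hpx fun u hu hd => hp u hu (dvd_of_mq hmq hd)
    have hall : ∀ i, 1 ≤ i → i ≤ m → f * (2 * i) ≤ 72 ∧ sm N ((p ^ f) ^ (2 * i) - 1) = true :=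
      fun i hi1 hi2 => by
      have := sm_sub' hN0 hN hpr hp73 (e := f * (2 * i)) (by nlinarith) (by
        rw [pow_mul]
        exact fun u hu hd => hp u hu (psp_dvd hm he hi1 hi2 hu hd))
      rwa [pow_mul] at this
    have hn72 : m ≤ 36 := by have := (hall m (by omega) le_rfl).1; nlinarith
    unfold chkT at hchk'
    rw [hsm] at hchk'
    simp only [Bool.not_true, Bool.false_or, Bool.and_eq_true] at hchk'
    have h1 := walk_spec 73 1 m hchk'.1.1.2 (by omega) (by omega) fun i hi1 hi2 => (hall i (by omega) hi2).2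
    rw [Bool.and_eq_true] at h1
    have h2 := h1.1
    rw [Bool.or_eq_true] at h2
    rcases h2 with h2 | h2
    · rw [Nat.blt_eq] at h2; omega
    · exact h2
  | oodd m q =>
    have hm : 3 ≤ m := hg.1
    obtain ⟨p, f, hpr, hf, rfl⟩ := (isPrimePow_nat_iff _).1 hg.2.2
    have hq : 2 ≤ p ^ f := hg.2.2.two_le
    have hmq := oodd_mq (by omega) hg.2.1 he
    have hpx : p ∣ N := hp p hpr (((dvd_pow_self p (by omega)).mul_right _).trans hmq)
    obtain ⟨hp73, hsm, hchk'⟩ := chk_of hpr hf hpx fun u hu hd => hp u hu (dvd_of_mq hmq hd)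
    have hall : ∀ i, 1 ≤ i → i ≤ m → f * (2 * i) ≤ 72 ∧ sm N ((p ^ f) ^ (2 * i) - 1) = true :=
      fun i hi1 hi2 => by
      have := sm_sub' hN0 hN hpr hp73 (e := f * (2 * i)) (by nlinarith) (by
        rw [pow_mul]
        exact fun u hu hd => hp u hu (oodd_dvd hm hg.2.1 he hi1 hi2 hu hd))
      rwa [pow_mul] at this
    have hn72 : m ≤ 36 := by have := (hall m (by omega) le_rfl).1; nlinarith
    unfold chkT at hchk'
    rw [hsm] at hchk'
    simp only [Bool.not_true, Bool.false_or, Bool.and_eq_true] at hchk'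
    have h1 := walk_spec 73 1 m hchk'.1.1.2 (by omega) (by omega) fun i hi1 hi2 => (hall i (by omega) hi2).2
    rw [Bool.and_eq_true] at h1
    have h2 := h1.2
    rw [Bool.or_eq_true, Bool.or_eq_true] at h2
    rcases h2 with (h2 | h2) | h2
    · rw [Nat.blt_eq] at h2; omega
    · rw [Nat.beq_eq] at h2
      have := Nat.odd_iff.1 hg.2.1
      omega
    · exact h2
  | oplus m q =>
    have hm : 4 ≤ m := hg.1
    obtain ⟨p, f, hpr, hf, rfl⟩ := (isPrimePow_nat_iff _).1 hg.2
    have hq : 2 ≤ p ^ f := hg.2.two_le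
    have hmq := oplus_mq hm he
    have hpx : p ∣ N := hp p hpr (((dvd_pow_self p (by omega)).mul_right _).trans hmq)
    obtain ⟨hp73, hsm, hchk'⟩ := chk_of hpr hf hpx fun u hu hd => hp u hu (dvd_of_mq hmq hd)
    have hall : ∀ i, 1 ≤ i → i ≤ m - 1 → f * (2 * i) ≤ 72 ∧ sm N ((p ^ f) ^ (2 * i) - 1) = true :=
      fun i hi1 hi2 => by
      have := sm_sub' hN0 hN hpr hp73 (e := f * (2 * i)) (by nlinarith) (by
        rw [pow_mul]
        exact fun u hu hd => hp u hu (oplus_dvd hm hq he hi1 hi2 hu hd))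
      rwa [pow_mul] at this
    have hn72 : m - 1 ≤ 36 := by have := (hall (m - 1) (by omega) le_rfl).1; nlinarith
    have hW : sm N ((p ^ f) ^ m - 1) = true := by
      have := (sm_sub' hN0 hN hpr hp73 (e := f * m) (by nlinarith) (by
        rw [pow_mul]
        exact fun u hu hd => hp u hu (oplus_dvd' hm hq he hu hd))).2
      rwa [pow_mul] at this
    unfold chkT at hchk'
    rw [hsm] at hchk'
    simp only [Bool.not_true, Bool.false_or, Bool.and_eq_true] at hchk'
    have h1 := walk_spec 73 1 (m - 1) hchk'.1.2 (by omega) (by omega) fun i hi1 hi2 => (hall i (by omega) hi2).2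
    rw [Nat.sub_add_cancel (by omega : 1 ≤ m), hW, Bool.or_eq_true, Bool.and_eq_true] at h1
    rcases h1 with h2 | ⟨h2, -⟩
    · rw [Nat.blt_eq] at h2; omega
    · simpa using h2
  | ominus m q =>
    have hm : 4 ≤ m := hg.1
    obtain ⟨p, f, hpr, hf, rfl⟩ := (isPrimePow_nat_iff _).1 hg.2
    have hq : 2 ≤ p ^ f := hg.2.two_le
    have hmq := ominus_mq hm he
    have hpx : p ∣ N := hp p hpr (((dvd_pow_self p (by omega)).mul_right _).trans hmq)
    obtain ⟨hp73, hsm, hchk'⟩ := chk_of hpr hf hpx fun u hu hd => hp u hu (dvd_of_mq hmq hd)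
    have hall : ∀ i, 1 ≤ i → i ≤ m - 1 → f * (2 * i) ≤ 72 ∧ sm N ((p ^ f) ^ (2 * i) - 1) = true :=
      fun i hi1 hi2 => by
      have := sm_sub' hN0 hN hpr hp73 (e := f * (2 * i)) (by nlinarith) (by
        rw [pow_mul]
        exact fun u hu hd => hp u hu (ominus_dvd hm hq he hi1 hi2 hu hd))
      rwa [pow_mul] at this
    have hn70 : f * (2 * (m - 1)) ≤ 72 := (hall (m - 1) (by omega) le_rfl).1
    have hn35 : m - 1 ≤ 36 := by nlinarith
    have hW : sm N ((p ^ f) ^ m + 1) = true := by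
      have := sm_add' hN0 hp73 (e := f * m) (by
        have h3 : f * m ≤ f * (2 * (m - 1)) := Nat.mul_le_mul_left _ (by omega)
        omega) (by
        rw [pow_mul]
        exact fun u hu hd => hp u hu (ominus_dvd' hm hq he hu hd))
      rwa [pow_mul] at this
    unfold chkT at hchk'
    rw [hsm] at hchk'
    simp only [Bool.not_true, Bool.false_or, Bool.and_eq_true] at hchk'
    have h1 := walk_spec 73 1 (m - 1) hchk'.1.2 (by omega) (by omega) fun i hi1 hi2 => (hall i (by omega) hi2).2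
    rw [Nat.sub_add_cancel (by omega : 1 ≤ m), hW, Bool.or_eq_true, Bool.and_eq_true] at h1
    rcases h1 with h2 | ⟨-, h2⟩
    · rw [Nat.blt_eq] at h2; omega
    · simpa using h2
  | psu n q =>
    have hn : 3 ≤ n := hg.1
    obtain ⟨p, f, hpr, hf, rfl⟩ := (isPrimePow_nat_iff _).1 hg.2.2
    have hq : 2 ≤ p ^ f := hg.2.2.two_le
    have hmq := psu_mq hn he
    have hpx : p ∣ N := hp p hpr (((dvd_pow_self p (by omega)).mul_right _).trans hmq)
    obtain ⟨hp73, hsm, hchk'⟩ := chk_of hpr hf hpx fun u hu hd => hp u hu (dvd_of_mq hmq hd)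
    have hev : ∀ i, 1 ≤ i → i ≤ n → i % 2 = 0 → f * i ≤ 72 ∧ sm N ((p ^ f) ^ i - 1) = true :=
      fun i hi1 hi2 hi => by
      have := sm_sub' hN0 hN hpr hp73 (e := f * i) (by nlinarith) (by
        rw [pow_mul]
        refine fun u hu hd => hp u hu (psu_dvd hn he hi1 hi2 hu ?_)
        unfold vU
        rw [hi]
        exact hd)
      rwa [pow_mul] at this
    have hbig : ∀ i, 1 ≤ i → i ≤ n → f * i ≤ 72 := by
      intro i hi1 hi2
      rcases Nat.even_or_odd' i with ⟨k, hk | hk⟩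
      · exact (hev i hi1 hi2 (by omega)).1
      · -- use the primitive prime of exponent `2 f i`
        by_contra hcon
        push Not at hcon
        obtain ⟨r, hr⟩ := exists_prim hpr.two_le (show 3 ≤ f * (2 * i) by nlinarith)
          (fun h => by have := h.2; nlinarith)
        have h1 : r ∣ (p ^ f) ^ i + 1 := by
          rw [← pow_mul]
          refine hr.dvd_add (m := f * i) (by rw [show 2 * (f * i) = f * (2 * i) by ring]) ?_
          intro h2
          have := Nat.le_of_dvd (by nlinarith) h2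
          nlinarith
        have h2 := hN r hr.prime (hp r hr.prime (psu_dvd hn he hi1 hi2 hr.prime (by
          unfold vU
          rw [show i % 2 = 1 by omega]
          exact h1)))
        have := prim_le hr
        nlinarith
    have hall : ∀ i, 1 ≤ i → i ≤ n → sm N (vU (p ^ f) i) = true := by
      intro i hi1 hi2
      rcases Nat.even_or_odd' i with ⟨k, hk | hk⟩
      · have h3 := (hev i hi1 hi2 (by omega)).2
        unfold vU
        rw [show i % 2 = 0 by omega]
        exact h3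
      · have h4 := sm_add' hN0 hp73 (hbig i hi1 hi2) (by
          rw [pow_mul]
          refine fun u hu hd => hp u hu (psu_dvd hn he hi1 hi2 hu ?_)
          unfold vU
          rw [show i % 2 = 1 by omega]
          exact hd)
        unfold vU
        rw [show i % 2 = 1 by omega]
        rwa [pow_mul] at h4
    have hn72 : n ≤ 72 := by have := hbig n (by omega) le_rfl; nlinarith
    unfold chkT at hchk'
    rw [hsm] at hchk'
    simp only [Bool.not_true, Bool.false_or, Bool.and_eq_true] at hchk'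
    have h1 := walk_spec 73 2 n hchk'.2 (by omega) (by omega) fun i hi1 hi2 => hall i (by omega) hi2
    rw [Bool.or_eq_true] at h1
    rcases h1 with h1 | h1
    · rw [Nat.blt_eq] at h1; omega
    · exact h1
  | _ => exact hcl.elim

end

/-! ### the list -/

/-- the names with an exceptional `r`-part of the multiplier -/
def excM : List Grp := [.psl 2 4, .psl 3 2, .psl 3 4, .psl 4 2, .psu 4 2, .psu 6 2, .psp 3 2, .oplus 4 2, .g2 4, .f4 2,
  .te6 2, .psl 2 9, .psu 4 3, .oodd 3 3, .g2 3]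

/-- the lower bound -/
def lb (g : Grp) : ℕ := if g ∈ excM then 0 else lsb g

/-- the names with bound at most 23, with the product of the primes -/
def small : List (Grp × ℕ) :=
  [(.psl 2 4, 30), (.psl 2 5, 30), (.psl 2 7, 42), (.psl 2 8, 42), (.psl 2 9, 30), (.psl 2 11, 330),
    (.psl 2 13, 546), (.psl 2 16, 510), (.psl 2 17, 102), (.psl 2 19, 570), (.psl 2 23, 1518), (.psl 2 25, 390),
    (.psl 2 27, 546), (.psl 2 29, 6090), (.psl 2 31, 930), (.psl 2 32, 10230), (.psl 2 37, 4218),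
    (.psl 2 41, 8610), (.psl 2 43, 19866), (.psl 2 47, 6486), (.psl 3 2, 42), (.psl 3 3, 78), (.psl 3 4, 210),
    (.psl 4 2, 210), (.psl 5 2, 6510), (.psp 2 3, 30), (.psp 2 4, 510), (.psp 2 5, 390), (.psp 3 2, 210),
    (.psp 3 3, 2730), (.psp 4 2, 3570), (.psu 3 3, 42), (.psu 3 4, 390), (.psu 3 5, 210), (.psu 4 2, 30),
    (.psu 4 3, 210), (.psu 5 2, 330), (.psu 6 2, 2310), (.oodd 3 3, 2730), (.oplus 4 2, 210),
    (.oplus 5 2, 110670), (.ominus 4 2, 3570), (.ominus 5 2, 39270), (.ominus 6 2, 15825810), (.g2 3, 546),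
    (.g2 4, 2730), (.g2 5, 6510), (.f4 2, 46410), (.te6 2, 9699690), (.td4 2, 546), (.td4 3, 39858),
    (.sz 8, 2730), (.ree 27, 383838)]

/-- the remaining pairs -/
def excP : List (Grp × Grp) := [(.g2 4, .oplus 4 3), (.psl 2 4, .psp 2 3), (.psl 2 5, .psu 4 2),
  (.psl 2 5, .psp 2 3), (.psl 2 7, .psl 3 2), (.psl 2 7, .psu 3 3), (.psl 2 8, .psu 3 3), (.psl 2 9, .psu 4 2),
  (.psl 2 11, .psu 5 2), (.psl 3 2, .psu 3 3), (.psl 3 4, .psu 4 3), (.psl 3 4, .psp 2 7), (.psl 4 2, .psu 4 3),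
  (.psl 4 2, .psp 2 7), (.psp 2 3, .psu 4 2), (.psu 4 2, .psp 2 3), (.sz 8, .oodd 3 3), (.sz 8, .oplus 4 3)]

/-- the characteristic, for the names in the list -/
def pc (g : Grp) : ℕ :=
  if fs g % 2 = 0 then 2 else if fs g % 3 = 0 then 3 else if fs g % 5 = 0 then 5 else fs g

/-- the test -/
def tS (g gT : Grp) : Bool :=
  !(Nat.beq (ordN gT % ordN g) 0) || (Nat.blt (dimN gT) (lb g) || (Nat.beq (fq gT % pc g) 0 ||
    (decide ((g, gT) ∈ excP) || decide (gT = .psp 2 2))))

def ps73 : List ℕ := [2, 3, 5, 7, 11, 13, 17, 19, 23, 29, 31, 37, 41, 43, 47, 53, 59, 61, 67, 71, 73]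

def chkS (x : Grp × ℕ) : Bool := ps73.all fun p => !(Nat.beq (x.2 % p) 0) ||
  (List.range 36).all fun j => chkT x.2 (tS x.1) (p ^ (j + 1))

set_option maxRecDepth 100000 in
theorem chkS_ok : (small.all chkS) = true := by decide +kernel

/-- the primes of the order, primes at most 73, the field exponents -/
def auxS (x : Grp × ℕ) : Bool := Nat.beq (x.2 ^ 64 % XX x.1) 0 && (Nat.beq (x.2 % 6) 0 &&
  (Nat.beq (Nat.factorial 73 % x.2) 0 && (!(Nat.beq (fs x.1) 32) || Nat.beq (x.2 % 5) 0) && Nat.blt (fs x.1) 49))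

set_option maxRecDepth 100000 in
theorem auxS_ok : (small.all auxS) = true := by decide +kernel

/-! ### the names with a small bound -/

/-- prime powers at most 47 -/
def pps : List ℕ := [2, 3, 4, 5, 7, 8, 9, 11, 13, 16, 17, 19, 23, 25, 27, 29, 31, 32, 37, 41, 43, 47]

theorem mem_pps {s : ℕ} (hs : IsPrimePow s) (h : s ≤ 48) : s ∈ pps := by
  obtain ⟨p, k, hp, hk, rfl⟩ := (isPrimePow_nat_iff _).1 hs
  have h2 := hp.two_le
  have hk5 : k ≤ 5 := by
    by_contra hc
    have h3 : 2 ^ 6 ≤ p ^ k := (Nat.pow_le_pow_left h2 6).trans (Nat.pow_le_pow_right (by omega) (by omega))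
    norm_num at h3
    omega
  have hp48 : p ≤ 48 := (Nat.le_self_pow (by omega) p).trans h
  have key : ∀ p < 49, ∀ k < 6, (p.Prime ∧ 0 < k ∧ p ^ k ≤ 48) → p ^ k ∈ pps := by decide +kernel
  exact key p (by omega) k (by omega) ⟨hp, hk, h⟩

theorem pow_le_of {a b k : ℕ} (h : a ^ k - 1 ≤ 23) (hb : 24 < b ^ k) : a < b := by
  by_contra hc
  have := Nat.pow_le_pow_left (not_lt.1 hc) k
  omega

theorem exp_le_of {s k : ℕ} (hs : 2 ≤ s) (h : s ^ k - 1 ≤ 23) : k ≤ 4 := by
  by_contra hc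
  have h1 : 2 ^ 5 ≤ s ^ k := (Nat.pow_le_pow_left hs 5).trans (Nat.pow_le_pow_right (by omega) (by omega))
  omega

/-- membership in the list of names -/
def inS (g : Grp) : Bool := small.any fun x => decide (x.1 = g)

theorem inS_spec {g : Grp} (h : inS g = true) : ∃ N, (g, N) ∈ small := by
  unfold inS at h
  rw [List.any_eq_true] at h
  obtain ⟨x, hx, he⟩ := h
  exact ⟨x.2, by rw [← of_decide_eq_true he]; exact hx⟩

set_option maxRecDepth 100000 in
theorem inS_of {g : Grp} (hg : Cond g) (hlie : IsLieN g) (hL : lsb g ≤ 23) : inS g = true := by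
  cases g with
  | psl m s =>
    obtain ⟨h1, h2, h3⟩ := hg
    have hs2 := h3.two_le
    change (if m = 2 then (s - 1) / 2 else s ^ (m - 1) - 1) ≤ 23 at hL
    by_cases hm : m = 2
    · subst hm
      rw [if_pos rfl] at hL
      have h4 := mem_pps h3 (by omega)
      have key : ∀ s ∈ pps, 4 ≤ s → inS (.psl 2 s) = true := by decide +kernel
      exact key s h4 (h2 rfl)
    · rw [if_neg hm] at hL
      have h4 := exp_le_of hs2 hL
      have h5 : s < 5 := by
        by_contra hc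
        have h6 : 5 ^ 2 ≤ s ^ (m - 1) :=
          (Nat.pow_le_pow_left (by omega) 2).trans (Nat.pow_le_pow_right (by omega) (by omega))
        omega
      have key : ∀ m ≤ 5, ∀ s < 5, 3 ≤ m → 2 ≤ s → s ^ (m - 1) - 1 ≤ 23 → inS (.psl m s) = true := by
        decide +kernel
      exact key m (by omega) s h5 (by omega) hs2 hL
  | psp m s =>
    obtain ⟨h1, h2, h3⟩ := hg
    have hs2 := h3.two_le
    have h4 : s ^ m - 1 ≤ 47 := by
      change (if s % 2 = 1 then (s ^ m - 1) / 2 else s ^ m - 1) ≤ 23 at hL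
      split_ifs at hL <;> omega
    have hm : m ≤ 5 := by
      by_contra hc
      have h6 : 2 ^ 6 ≤ s ^ m := (Nat.pow_le_pow_left hs2 6).trans (Nat.pow_le_pow_right (by omega) (by omega))
      omega
    have hs7 : s < 7 := by
      by_contra hc
      have h6 : 7 ^ 2 ≤ s ^ m := (Nat.pow_le_pow_left (by omega) 2).trans (Nat.pow_le_pow_right (by omega) h1)
      omega
    have key : ∀ m < 6, ∀ s < 7, (2 ≤ m ∧ 2 ≤ s ∧ s ≠ 6 ∧ ¬ (m = 2 ∧ s < 3) ∧ lsb (.psp m s) ≤ 23) →
        inS (.psp m s) = true := by decide +kernel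
    refine key m (by omega) s hs7 ⟨h1, hs2, ?_, fun h => by have := h2 h.1; omega, hL⟩
    rintro rfl
    exact absurd (mem_pps h3 (by norm_num)) (by decide)
  | psu m s =>
    obtain ⟨h1, h2, h3⟩ := hg
    have hs2 := h3.two_le
    have hL' : (s - 1) * s ^ (m - 2) ≤ 23 := hL
    have h4 : s ^ (m - 2) ≤ 23 := by
      refine le_trans ?_ hL'
      exact Nat.le_mul_of_pos_left _ (by omega)
    have hm : m ≤ 6 := by
      by_contra hc
      have h6 : 2 ^ 5 ≤ s ^ (m - 2) :=
        (Nat.pow_le_pow_left hs2 5).trans (Nat.pow_le_pow_right (by omega) (by omega))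
      omega
    have hs7 : s < 6 := by
      by_contra hc
      have h6 : s ≤ s ^ (m - 2) := Nat.le_self_pow (by omega) s
      have : 5 * 6 ≤ (s - 1) * s ^ (m - 2) := Nat.mul_le_mul (by omega) (by omega)
      omega
    have key : ∀ m < 7, ∀ s < 6, (3 ≤ m ∧ 2 ≤ s ∧ ¬ (m = 3 ∧ s = 2) ∧ (s - 1) * s ^ (m - 2) ≤ 23) →
        inS (.psu m s) = true := by decide +kernel
    exact key m (by omega) s hs7 ⟨h1, hs2, h2, hL'⟩
  | oodd m s =>
    exfalso
    have hs2 := hg.2.2.two_le
    have ho := Nat.odd_iff.1 hg.2.1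
    have hs3 : 3 ≤ s := by omega
    have h1 : s ^ 3 - 1 ≤ 23 := (le_max_left _ _).trans hL
    have h2 : 3 ^ 3 ≤ s ^ 3 := Nat.pow_le_pow_left hs3 3
    omega
  | oplus m s =>
    have hs2 := hg.2.two_le
    have h1 : s ^ 3 - 1 ≤ 23 := (le_max_left _ _).trans hL
    have h2 : s ^ (m - 1) - 1 ≤ 23 := (le_max_right _ _).trans hL
    have h3 := pow_le_of (b := 3) h1 (by norm_num)
    have h4 := exp_le_of hs2 h2
    obtain rfl : s = 2 := by omega
    have key : ∀ m ≤ 5, 4 ≤ m → inS (.oplus m 2) = true := by decide +kernel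
    exact key m (by omega) hg.1
  | ominus m s =>
    have hs2 := hg.2.two_le
    have h1 : s ^ 3 - 1 ≤ 23 := (le_max_left _ _).trans hL
    have h2 : s ^ (m - 2) - 1 ≤ 23 := (le_max_right _ _).trans hL
    have h3 := pow_le_of (b := 3) h1 (by norm_num)
    have h4 := exp_le_of hs2 h2
    obtain rfl : s = 2 := by omega
    have key : ∀ m ≤ 6, 4 ≤ m → inS (.ominus m 2) = true := by decide +kernel
    exact key m (by omega) hg.1
  | g2 s =>
    have hL' : (if s ≤ 4 then 0 else (s - 1) * s) ≤ 23 := hL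
    have h6 : s < 6 := by
      by_contra hc
      rw [if_neg (by omega)] at hL'
      have : 5 * 6 ≤ (s - 1) * s := Nat.mul_le_mul (by omega) (by omega)
      omega
    have key : ∀ s < 6, 3 ≤ s → inS (.g2 s) = true := by decide +kernel
    exact key s h6 hg.1
  | f4 s =>
    have hs2 : 2 ≤ s := IsPrimePow.two_le hg
    have hL' : (if s = 2 then 0 else (s - 1) * s ^ 3) ≤ 23 := hL
    by_cases h2 : s = 2
    · subst h2; decide +kernel
    · exfalso
      rw [if_neg h2] at hL'
      have h3 : 3 ^ 3 ≤ s ^ 3 := Nat.pow_le_pow_left (by omega) 3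
      have : 1 * 27 ≤ (s - 1) * s ^ 3 := Nat.mul_le_mul (by omega) h3
      omega
  | e6 s =>
    exfalso
    have hs2 : 2 ≤ s := IsPrimePow.two_le hg
    have hL' : (s - 1) * s ^ 6 ≤ 23 := hL
    have : 1 * 2 ^ 6 ≤ (s - 1) * s ^ 6 := Nat.mul_le_mul (by omega) (Nat.pow_le_pow_left hs2 6)
    omega
  | e7 s =>
    exfalso
    have hs2 : 2 ≤ s := IsPrimePow.two_le hg
    have hL' : (s - 1) * s ^ 7 ≤ 23 := hL
    have : 1 * 2 ^ 7 ≤ (s - 1) * s ^ 7 := Nat.mul_le_mul (by omega) (Nat.pow_le_pow_left hs2 7)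
    omega
  | e8 s =>
    exfalso
    have hs2 : 2 ≤ s := IsPrimePow.two_le hg
    have hL' : (s - 1) * s ^ 7 ≤ 23 := hL
    have : 1 * 2 ^ 7 ≤ (s - 1) * s ^ 7 := Nat.mul_le_mul (by omega) (Nat.pow_le_pow_left hs2 7)
    omega
  | te6 s =>
    have hs2 : 2 ≤ s := IsPrimePow.two_le hg
    have hL' : (if s = 2 then 0 else (s - 1) * s ^ 6) ≤ 23 := hL
    by_cases h2 : s = 2
    · subst h2; decide +kernel
    · exfalso
      rw [if_neg h2] at hL'
      have h3 : 3 ^ 6 ≤ s ^ 6 := Nat.pow_le_pow_left (by omega) 6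
      have : 1 * 3 ^ 6 ≤ (s - 1) * s ^ 6 := Nat.mul_le_mul (by omega) h3
      omega
  | td4 s =>
    have hs2 : 2 ≤ s := IsPrimePow.two_le hg
    have hL' : (if s ≤ 3 then 0 else (s - 1) * s ^ 3) ≤ 23 := hL
    have h4 : s < 4 := by
      by_contra hc
      rw [if_neg (by omega)] at hL'
      have h3 : 4 ^ 3 ≤ s ^ 3 := Nat.pow_le_pow_left (by omega) 3
      have : 1 * 4 ^ 3 ≤ (s - 1) * s ^ 3 := Nat.mul_le_mul (by omega) h3
      omega
    have key : ∀ s < 4, 2 ≤ s → inS (.td4 s) = true := by decide +kernel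
    exact key s h4 hs2
  | sz s =>
    obtain ⟨m, hm, rfl⟩ := hg
    have hL' : 2 ^ (2 * m + 1) - 1 ≤ 23 := hL
    have h1 := exp_le_of le_rfl hL'
    obtain rfl : m = 1 := by omega
    decide +kernel
  | ree s =>
    obtain ⟨m, hm, rfl⟩ := hg
    have hL' : (3 ^ (2 * m + 1) - 1) / 2 ≤ 23 := hL
    have h1 : m ≤ 1 := by
      by_contra hc
      have : 3 ^ 5 ≤ 3 ^ (2 * m + 1) := Nat.pow_le_pow_right (by norm_num) (by omega)
      omega
    obtain rfl : m = 1 := by omega
    decide +kernel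
  | tf4 s =>
    exfalso
    obtain ⟨m, hm, rfl⟩ := hg
    have hL' : (2 ^ (2 * m + 1) - 1) * 2 ^ (2 * m + 1) ≤ 23 := hL
    have h1 : 2 ^ 3 ≤ 2 ^ (2 * m + 1) := Nat.pow_le_pow_right (by norm_num) (by omega)
    have : 7 * 8 ≤ (2 ^ (2 * m + 1) - 1) * 2 ^ (2 * m + 1) := Nat.mul_le_mul (by omega) h1
    omega
  | _ => exact hlie.elim

theorem excM_small : ∀ g ∈ excM, inS g = true := by decide +kernel

theorem ps73_of {u : ℕ} (hu : u.Prime) (h : u ≤ 73) : u ∈ ps73 := by
  have key : ∀ u ≤ 73, u.Prime → u ∈ ps73 := by decide +kernel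
  exact key u h hu

theorem pc_eq {g : Grp} {s f : ℕ} (hs : s.Prime) (hf : fs g = s ^ f) (h49 : fs g < 49) (hp : IsPrimePow (fs g)) :
    pc g = s := by
  have h0 : f ≠ 0 := by
    rintro rfl
    rw [pow_zero] at hf
    rw [hf] at hp
    exact absurd hp not_isPrimePow_one
  have hsd : s ∣ fs g := by rw [hf]; exact dvd_pow_self s h0
  have hkey : ∀ x ∈ pps, ∀ s ≤ 48, s.Prime → s ∣ x →
      (if x % 2 = 0 then 2 else if x % 3 = 0 then 3 else if x % 5 = 0 then 5 else x) = s := by decide +kernel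
  exact hkey (fs g) (mem_pps hp (by omega)) s ((Nat.le_of_dvd hp.pos hsd).trans (by omega)) hs hsd

/-- **Groups of Lie type in cross characteristic inside a classical group: the remaining pairs.** -/
theorem cross_num {g gT : Grp} (hg : Cond g) (hlie : IsLieN g) (hpp : IsPrimePow (fs g)) {cS : ℕ}
    (hS : den g * cS = num g) (hcS : cS = ordN g) (hgT : Cond gT) (hcl : IsCl gT) {c : ℕ}
    (he : den gT * c = num gT) (hc : c = ordN gT) (hd : cS ∣ c) {s f : ℕ} (hs : s.Prime) (hf : fs g = s ^ f)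
    (hsT : ¬ s ∣ fq gT) (h : ∀ r : ℕ, r.Prime → 5 ≤ r → r ∣ c → r ∣ cS ∨ r ∣ f) (hL : lb g ≤ dimN gT) :
    (g, gT) ∈ excP := by
  have hf0 : f ≠ 0 := by
    rintro rfl
    rw [pow_zero] at hf
    rw [hf] at hpp
    exact absurd hpp not_isPrimePow_one
  have hin : inS g = true := by
    by_cases hM : g ∈ excM
    · exact excM_small g hM
    · refine inS_of hg hlie (large hg hlie hS hgT hcl he (f := f) ?_ hf0 h ?_)
      · rw [hf]; exact (Nat.lt_pow_self hs.one_lt).le
      · unfold lb at hL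
        rwa [if_neg hM] at hL
  obtain ⟨N, hN⟩ := inS_spec hin
  have haux := auxS_ok
  rw [List.all_eq_true] at haux
  have ha := haux _ hN
  unfold auxS at ha
  simp only [Bool.and_eq_true, Bool.or_eq_true, Nat.beq_eq, Bool.not_eq_true', Nat.blt_eq] at ha
  obtain ⟨h1, h2, ⟨h3, h4⟩, h5⟩ := ha
  have hN0 : N ≠ 0 := by
    rintro rfl
    rw [Nat.mod_zero] at h3
    exact absurd h3 (Nat.factorial_ne_zero 73)
  have hN73 : ∀ u : ℕ, u.Prime → u ∣ N → u ≤ 73 := fun u hu hd =>
    (hu.dvd_factorial).1 (hd.trans (Nat.dvd_of_mod_eq_zero h3))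
  have hprimes : ∀ u : ℕ, u.Prime → u ∣ c → u ∣ N := by
    intro u hu huc
    rcases Nat.lt_or_ge u 5 with hu5 | hu5
    · have h6 : 6 ∣ N := Nat.dvd_of_mod_eq_zero h2
      have hu2 := hu.two_le
      interval_cases u
      · exact (by norm_num : 2 ∣ 6).trans h6
      · exact (by norm_num : 3 ∣ 6).trans h6
      · exact absurd hu (by norm_num)
    · rcases h u hu hu5 huc with h6 | h6
      · have h7 := XX_dvd_card hlie hS hu h6
        exact hu.dvd_of_dvd_pow (h7.trans (Nat.dvd_of_mod_eq_zero h1))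
      · have h7 : 5 ≤ f := hu5.trans (Nat.le_of_dvd (Nat.pos_of_ne_zero hf0) h6)
        have h8 : s < 3 := by
          by_contra hcc
          have : 3 ^ 5 ≤ s ^ f := (Nat.pow_le_pow_left (by omega) 5).trans (Nat.pow_le_pow_right (by omega) h7)
          omega
        have h9 : s = 2 := by have := hs.two_le; omega
        subst h9
        have h10 : f < 6 := by
          by_contra hcc
          have : 2 ^ 6 ≤ 2 ^ f := Nat.pow_le_pow_right (by norm_num) (by omega)
          omega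
        have h11 : f = 5 := by omega
        subst h11
        have h12 : u = 5 := by
          have := Nat.le_of_dvd (by norm_num) h6
          omega
        subst h12
        rcases h4 with h4 | h4
        · rw [hf] at h4
          exact absurd h4 (by decide)
        · exact Nat.dvd_of_mod_eq_zero h4
  have hchk := chkS_ok
  rw [List.all_eq_true] at hchk
  have h6 := hchk _ hN
  unfold chkS at h6
  rw [List.all_eq_true] at h6
  have h7 := engine hN0 hN73 (t := tS g) (fun p hp73 hp hpN j hj => by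
    have h8 := h6 p (ps73_of hp hp73)
    rw [Bool.or_eq_true] at h8
    rcases h8 with h8 | h8
    · rw [Nat.mod_eq_zero_of_dvd hpN] at h8
      exact absurd h8 (by decide)
    · rw [List.all_eq_true] at h8
      exact h8 j (List.mem_range.2 hj)) hgT hcl he hprimes
  unfold tS at h7
  simp only [Bool.or_eq_true, Bool.not_eq_true', Nat.blt_eq, Nat.beq_eq, decide_eq_true_eq] at h7
  rcases h7 with h7 | h7 | h7 | h7 | h7
  · exfalso
    rw [← hc, ← hcS, Nat.mod_eq_zero_of_dvd hd] at h7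
    exact absurd h7 (by decide)
  · omega
  · exfalso
    rw [pc_eq hs hf h5 hpp] at h7
    exact hsT (Nat.dvd_of_mod_eq_zero h7)
  · exact h7
  · exfalso
    subst h7
    have := hgT.2.1 rfl
    omega

end Cfsg.Agent.H884.Cx
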