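import Cfsg.Agent.H884.CxNum
import Cfsg.Agent.H927.SgXFam3

/-!
# TEAM ELUSIVE, cross characteristic: the groups of Lie type with bound at least 24

`fam_lt`: `24 ≤ lsb g → fs g * XX g < 4 ^ lsb g`; every prime divisor of the order divides `XX g`.
-/

set_option autoImplicit false

namespace Cfsg.Agent.H884.Cx

open Cfsg.Agent.OrdDiv Cfsg.Agent.H436 Cfsg.Agent.H927.SgX

/-- the parameter `q` -/
def fs : Grp → ℕ
  | .psl _ q => q
  | .psp _ q => q
  | .psu _ q => q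
  | .oodd _ q => q
  | .oplus _ q => q
  | .ominus _ q => q
  | .g2 q => q
  | .f4 q => q
  | .e6 q => q
  | .e7 q => q
  | .e8 q => q
  | .te6 q => q
  | .td4 q => q
  | .sz q => q
  | .ree q => q
  | .tf4 q => q
  | _ => 0

/-- a number with the prime divisors of the order -/
def XX : Grp → ℕ
  | .psl m s => glN m s
  | .psp m s => s * prB s m
  | .psu m s => s * prU s m
  | .oodd m s => s * prB s m
  | .oplus m s => s * ((s ^ m - 1) * prB s (m - 1))
  | .ominus m s => s * ((s ^ m + 1) * prB s (m - 1))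
  | .g2 q => q * ((q ^ 2 - 1) * (q ^ 6 - 1))
  | .f4 q => q * ((q ^ 2 - 1) * (q ^ 6 - 1) * (q ^ 8 - 1) * (q ^ 12 - 1))
  | .e6 q => q * ((q ^ 2 - 1) * (q ^ 5 - 1) * (q ^ 6 - 1) * (q ^ 8 - 1) * (q ^ 9 - 1) * (q ^ 12 - 1))
  | .e7 q => q * ((q ^ 2 - 1) * (q ^ 6 - 1) * (q ^ 8 - 1) * (q ^ 10 - 1) * (q ^ 12 - 1) * (q ^ 14 - 1) * (q ^ 18 - 1))
  | .e8 q => q * ((q ^ 2 - 1) * (q ^ 8 - 1) * (q ^ 12 - 1) * (q ^ 14 - 1) * (q ^ 18 - 1) *
      (q ^ 20 - 1) * (q ^ 24 - 1) * (q ^ 30 - 1))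
  | .te6 q => q * ((q ^ 2 - 1) * (q ^ 5 + 1) * (q ^ 6 - 1) * (q ^ 8 - 1) * (q ^ 9 + 1) * (q ^ 12 - 1))
  | .td4 q => q * ((q ^ 2 - 1) * (q ^ 6 - 1) * (q ^ 8 + q ^ 4 + 1))
  | .sz q => q * ((q - 1) * (q ^ 2 + 1))
  | .ree q => q * ((q - 1) * (q ^ 3 + 1))
  | .tf4 q => q * ((q - 1) * (q ^ 3 + 1) * (q ^ 4 - 1) * (q ^ 6 + 1))
  | _ => 0

theorem dvd_of_pow_mul {r s a X : ℕ} (hr : r.Prime) (h : r ∣ s ^ a * X) : r ∣ s * X := by
  rcases hr.dvd_mul.1 h with h1 | h1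
  · exact (hr.dvd_of_dvd_pow h1).mul_right _
  · exact h1.mul_left _

theorem XX_dvd {g : Grp} (hlie : IsLieN g) {r : ℕ} (hr : r.Prime) (h : r ∣ num g) : r ∣ XX g := by
  cases g <;> first | exact h | exact dvd_of_pow_mul hr h | exact hlie.elim

theorem XX_dvd_card {g : Grp} (hlie : IsLieN g) {c : ℕ} (he : den g * c = num g) {r : ℕ} (hr : r.Prime)
    (h : r ∣ c) : r ∣ XX g := XX_dvd hlie hr (he ▸ h.mul_left _)

theorem key {s k b L : ℕ} (hs : 1 ≤ s) (h : b + k * (s - 1) < 2 * L) : 2 ^ b * s ^ k < 4 ^ L := by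
  have h1 : s ≤ 2 ^ (s - 1) := by
    have := Nat.lt_two_pow_self (n := s - 1)
    omega
  have h2 : s ^ k ≤ 2 ^ (k * (s - 1)) := by
    calc s ^ k ≤ (2 ^ (s - 1)) ^ k := Nat.pow_le_pow_left h1 k
      _ = 2 ^ (k * (s - 1)) := by rw [← pow_mul, mul_comm]
  calc 2 ^ b * s ^ k ≤ 2 ^ b * 2 ^ (k * (s - 1)) := Nat.mul_le_mul_left _ h2
    _ = 2 ^ (b + k * (s - 1)) := by rw [pow_add]
    _ < 2 ^ (2 * L) := Nat.pow_lt_pow_right (by norm_num) h
    _ = 4 ^ L := by rw [pow_mul]; norm_num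

/-- comparison with a geometric sum -/
theorem keyG {s k b j L : ℕ} (hs : 2 ≤ s) (hL : s ^ j - 1 ≤ L) (h : b + k < 2 * ∑ i ∈ Finset.range j, s ^ i) :
    2 ^ b * s ^ k < 4 ^ L := by
  refine key (by omega) ?_
  rw [geo (by omega : 1 ≤ s)] at hL
  obtain ⟨t, rfl⟩ : ∃ t, s = t + 2 := ⟨s - 2, by omega⟩
  rw [show t + 2 - 1 = t + 1 by omega] at hL ⊢
  set G := ∑ i ∈ Finset.range j, (t + 2) ^ i
  have h1 : (b + k) * (t + 1) < 2 * G * (t + 1) := Nat.mul_lt_mul_of_pos_right h (by omega)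
  nlinarith [Nat.zero_le (b * t)]

theorem keyG0 {s k j L : ℕ} (hs : 2 ≤ s) (hL : s ^ j - 1 ≤ L) (h : k < 2 * ∑ i ∈ Finset.range j, s ^ i) :
    s ^ k < 4 ^ L := by
  have := keyG (b := 0) (k := k) hs hL (by omega)
  simpa using this

theorem geo_ge_two {s j : ℕ} (hs : 2 ≤ s) : 2 ^ j - 1 ≤ ∑ i ∈ Finset.range j, s ^ i := by
  rw [← geo_two]
  exact geo_mono hs

theorem two_pow_six {m : ℕ} (hm : 6 ≤ m) : m ^ 2 + 4 ≤ 2 ^ m ∧ m ^ 2 + m + 5 ≤ 2 * 2 ^ m := by
  induction m, hm using Nat.le_induction with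
  | base => norm_num
  | succ k hk ih => rw [pow_succ 2 k]; constructor <;> nlinarith

theorem two_pow_seven {m : ℕ} (hm : 7 ≤ m) : 2 * m ^ 2 + 12 ≤ 2 ^ m ∧ m ^ 2 + 3 * m + 6 ≤ 2 ^ m := by
  induction m, hm using Nat.le_induction with
  | base => norm_num
  | succ k hk ih => rw [pow_succ 2 k]; constructor <;> nlinarith

theorem three_pow_five {m : ℕ} (hm : 4 ≤ m) : m ^ 2 + 3 * m + 6 ≤ 3 ^ m := by
  induction m, hm using Nat.le_induction with
  | base => norm_num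
  | succ k hk ih => rw [pow_succ 3 k]; nlinarith

theorem pow_six_lt {s : ℕ} (hs : 49 ≤ s) : 2 * s ^ 6 < 2 ^ (s - 2) := by
  induction s, hs using Nat.le_induction with
  | base => norm_num
  | succ k hk ih =>
    rw [show k + 1 - 2 = (k - 2) + 1 by omega, pow_succ 2 (k - 2)]
    have h1 : (k + 1) ^ 6 ≤ 2 * k ^ 6 := by
      have h2 : (k + 1) ^ 6 = k ^ 6 + 6 * k ^ 5 + 15 * k ^ 4 + 20 * k ^ 3 + 15 * k ^ 2 + 6 * k + 1 := by ring
      have h3 : k ^ 6 = k ^ 5 * k := by ring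
      have h4 : k ^ 5 = k ^ 4 * k := by ring
      have h5 : k ^ 4 = k ^ 3 * k := by ring
      have h6 : k ^ 3 = k ^ 2 * k := by ring
      have h7 : k ^ 2 = k * k := by ring
      have b2 : 49 * k ≤ k ^ 2 := by rw [h7]; exact Nat.mul_le_mul_right _ hk
      have b3 : 49 * k ^ 2 ≤ k ^ 3 := by rw [h6, mul_comm]; exact Nat.mul_le_mul_left _ hk
      have b4 : 49 * k ^ 3 ≤ k ^ 4 := by rw [h5, mul_comm]; exact Nat.mul_le_mul_left _ hk
      have b5 : 49 * k ^ 4 ≤ k ^ 5 := by rw [h4, mul_comm]; exact Nat.mul_le_mul_left _ hk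
      have b6 : 49 * k ^ 5 ≤ k ^ 6 := by rw [h3, mul_comm]; exact Nat.mul_le_mul_left _ hk
      omega
    omega

theorem pow_five_lt {s : ℕ} (hs : 25 ≤ s) : 2 * s ^ 5 < 4 ^ (s - 1) := by
  induction s, hs using Nat.le_induction with
  | base => norm_num
  | succ k hk ih =>
    rw [show k + 1 - 1 = (k - 1) + 1 by omega, pow_succ 4 (k - 1)]
    have h1 : (k + 1) ^ 5 ≤ (2 * k) ^ 5 ∨ True := Or.inr trivial
    have h2 : (k + 1) ^ 5 = k ^ 5 + 5 * k ^ 4 + 10 * k ^ 3 + 10 * k ^ 2 + 5 * k + 1 := by ring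
    have h4 : k ^ 5 = k ^ 4 * k := by ring
    have h5 : k ^ 4 = k ^ 3 * k := by ring
    have h6 : k ^ 3 = k ^ 2 * k := by ring
    have h7 : k ^ 2 = k * k := by ring
    have b2 : 25 * k ≤ k ^ 2 := by rw [h7]; exact Nat.mul_le_mul_right _ hk
    have b3 : 25 * k ^ 2 ≤ k ^ 3 := by rw [h6, mul_comm]; exact Nat.mul_le_mul_left _ hk
    have b4 : 25 * k ^ 3 ≤ k ^ 4 := by rw [h5, mul_comm]; exact Nat.mul_le_mul_left _ hk
    have b5 : 25 * k ^ 4 ≤ k ^ 5 := by rw [h4, mul_comm]; exact Nat.mul_le_mul_left _ hk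
    omega

theorem half_pow {s : ℕ} (hs : 2 ≤ s) : 2 ^ (s - 2) ≤ 4 ^ ((s - 1) / 2) := by
  rw [show (4 : ℕ) = 2 ^ 2 by norm_num, ← pow_mul]
  exact Nat.pow_le_pow_right (by norm_num) (by omega)

variable {m s : ℕ}

theorem lt_psl2 (hL : 24 ≤ (s - 1) / 2) : s * glN 2 s < 4 ^ ((s - 1) / 2) := by
  have h1 := glN_le 2 s
  have h2 := pow_six_lt (s := s) (by omega)
  have h3 := half_pow (s := s) (by omega)
  have h4 : s * glN 2 s ≤ s * s ^ 4 := Nat.mul_le_mul_left _ h1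
  have h5 : s * s ^ 4 ≤ s ^ 6 := by
    calc s * s ^ 4 = s ^ 5 := by ring
      _ ≤ s ^ 6 := Nat.pow_le_pow_right (by omega) (by norm_num)
  omega

theorem lt_psl (hm : 3 ≤ m) (hs : 2 ≤ s) (hL : 24 ≤ s ^ (m - 1) - 1) : s * glN m s < 4 ^ (s ^ (m - 1) - 1) := by
  have h1 : s * glN m s ≤ s ^ (m ^ 2 + 1) := by
    rw [pow_succ, mul_comm]
    exact Nat.mul_le_mul_right _ (glN_le m s)
  refine h1.trans_lt (keyG0 hs le_rfl ?_)
  rcases Nat.lt_or_ge m 6 with h6 | h6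
  · interval_cases m
    · have hL' : 24 ≤ s ^ 2 - 1 := hL
      have h5 : 5 ≤ s := by
        by_contra h
        have : s ^ 2 ≤ 4 ^ 2 := Nat.pow_le_pow_left (by omega) 2
        omega
      simp [Finset.sum_range_succ]; omega
    · have hL' : 24 ≤ s ^ 3 - 1 := hL
      have h5 : 3 ≤ s := by
        by_contra h
        have : s ^ 3 ≤ 2 ^ 3 := Nat.pow_le_pow_left (by omega) 3
        omega
      have h9 : 9 ≤ s ^ 2 := Nat.pow_le_pow_left h5 2
      simp [Finset.sum_range_succ]; omega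
    · have hL' : 24 ≤ s ^ 4 - 1 := hL
      have h5 : 3 ≤ s := by
        by_contra h
        have : s ^ 4 ≤ 2 ^ 4 := Nat.pow_le_pow_left (by omega) 4
        omega
      have h9 : 9 ≤ s ^ 2 := Nat.pow_le_pow_left h5 2
      have h10 : 27 ≤ s ^ 3 := Nat.pow_le_pow_left h5 3
      simp [Finset.sum_range_succ]; omega
  · have h2 := geo_ge_two (j := m - 1) hs
    have h3 := (two_pow_six h6).1
    have h4 : 2 ^ m = 2 * 2 ^ (m - 1) := by rw [← pow_succ']; congr 1; omega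
    have h5 := Nat.one_le_pow (m - 1) 2 (by norm_num)
    omega

theorem lt_psp_odd (hm : 2 ≤ m) (hs : 2 ≤ s) (ho : s % 2 = 1) (hL : 24 ≤ (s ^ m - 1) / 2) :
    s * (s * prB s m) < 4 ^ ((s ^ m - 1) / 2) := by
  have ho' : s ^ m % 2 = 1 := by rw [Nat.pow_mod, ho]; simp
  have h1 : s * (s * prB s m) ≤ s ^ (m * (m + 1) + 2) := by
    calc s * (s * prB s m) = prB s m * s ^ 2 := by ring
      _ ≤ s ^ (m * (m + 1)) * s ^ 2 := Nat.mul_le_mul_right _ (prB_le m s)
      _ = _ := by rw [← pow_add]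
  have hG : ∀ {G : ℕ}, G ≤ ∑ i ∈ Finset.range m, s ^ i → m * (m + 1) + 2 < G →
      s * (s * prB s m) < 4 ^ ((s ^ m - 1) / 2) := by
    intro G hG1 hG2
    refine h1.trans_lt ?_
    have h2 := key (b := 0) (s := s) (k := m * (m + 1) + 2) (L := (s ^ m - 1) / 2) (by omega) ?_
    · simpa using h2
    · have h3 := geo (s := s) (j := m) (by omega)
      have h4 : 2 * ((s ^ m - 1) / 2) = s ^ m - 1 := by omega
      rw [h4, h3, zero_add]
      exact Nat.mul_lt_mul_of_pos_right (hG2.trans_le hG1) (by omega)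
  rcases Nat.lt_or_ge m 4 with h4 | h4
  · interval_cases m
    · have h5 : 7 ≤ s := by
        by_contra h
        have : s ^ 2 ≤ 6 ^ 2 := Nat.pow_le_pow_left (by omega) 2
        omega
      rcases Nat.lt_or_ge s 9 with h9 | h9
      · obtain rfl : s = 7 := by omega
        decide +kernel
      · exact hG (G := 10) (by simp [Finset.sum_range_succ]; omega) (by norm_num)
    · have h5 : 5 ≤ s := by
        by_contra h
        have : s ^ 3 ≤ 3 ^ 3 := Nat.pow_le_pow_left (by omega) 3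
        omega
      have h9 : 25 ≤ s ^ 2 := Nat.pow_le_pow_left h5 2
      exact hG (G := 31) (by simp [Finset.sum_range_succ]; omega) (by norm_num)
  · have h3 : 3 ≤ s := by omega
    have h5 := geo_ge_three (j := m) h3
    have h6 := three_pow_five h4
    have h7 : m * (m + 1) = m ^ 2 + m := by ring
    have h8 := exp_b h4
    refine hG (G := ∑ i ∈ Finset.range m, s ^ i) le_rfl ?_
    rw [h7]
    omega

theorem lt_psp_even (hm : 2 ≤ m) (hs : 2 ≤ s) (hL : 24 ≤ s ^ m - 1) : s * (s * prB s m) < 4 ^ (s ^ m - 1) := by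
  have h1 : s * (s * prB s m) ≤ s ^ (m * (m + 1) + 2) := by
    calc s * (s * prB s m) = prB s m * s ^ 2 := by ring
      _ ≤ s ^ (m * (m + 1)) * s ^ 2 := Nat.mul_le_mul_right _ (prB_le m s)
      _ = _ := by rw [← pow_add]
  refine h1.trans_lt (keyG0 hs le_rfl ?_)
  rcases Nat.lt_or_ge m 6 with h6 | h6
  · interval_cases m
    · have h5 : 5 ≤ s := by
        by_contra h
        have : s ^ 2 ≤ 4 ^ 2 := Nat.pow_le_pow_left (by omega) 2
        omega
      simp [Finset.sum_range_succ]; omega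
    · have h5 : 3 ≤ s := by
        by_contra h
        have : s ^ 3 ≤ 2 ^ 3 := Nat.pow_le_pow_left (by omega) 3
        omega
      have h9 : 9 ≤ s ^ 2 := Nat.pow_le_pow_left h5 2
      simp [Finset.sum_range_succ]; omega
    · have h5 : 3 ≤ s := by
        by_contra h
        have : s ^ 4 ≤ 2 ^ 4 := Nat.pow_le_pow_left (by omega) 4
        omega
      have h9 : 9 ≤ s ^ 2 := Nat.pow_le_pow_left h5 2
      have h10 : 27 ≤ s ^ 3 := Nat.pow_le_pow_left h5 3
      simp [Finset.sum_range_succ]; omega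
    · have h9 : 4 ≤ s ^ 2 := Nat.pow_le_pow_left hs 2
      have h10 : 8 ≤ s ^ 3 := Nat.pow_le_pow_left hs 3
      have h11 : 16 ≤ s ^ 4 := Nat.pow_le_pow_left hs 4
      simp [Finset.sum_range_succ]; omega
  · have h2 := geo_ge_two (j := m) hs
    have h3 := (two_pow_six h6).2
    have h7 : m * (m + 1) = m ^ 2 + m := by ring
    omega

theorem lt_psu (hm : 3 ≤ m) (hs : 2 ≤ s) (hL : 24 ≤ (s - 1) * s ^ (m - 2)) :
    s * (s * prU s m) < 4 ^ ((s - 1) * s ^ (m - 2)) := by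
  have h1 : s * (s * prU s m) ≤ 2 ^ m * s ^ (m * (m + 1) / 2 + 2) := by
    calc s * (s * prU s m) = prU s m * s ^ 2 := by ring
      _ ≤ (2 ^ m * s ^ (m * (m + 1) / 2)) * s ^ 2 := Nat.mul_le_mul_right _ (prU_le (by omega))
      _ = _ := by rw [mul_assoc, ← pow_add]
  refine h1.trans_lt (key (by omega) ?_)
  obtain ⟨t, rfl⟩ : ∃ t, s = t + 1 := ⟨s - 1, by omega⟩
  rw [show t + 1 - 1 = t by omega] at hL ⊢
  have hG : m + (m * (m + 1) / 2 + 2) < 2 * (t + 1) ^ (m - 2) →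
      m + (m * (m + 1) / 2 + 2) * t < 2 * (t * (t + 1) ^ (m - 2)) := by
    intro h
    have h2 : (m + (m * (m + 1) / 2 + 2)) * t < 2 * (t + 1) ^ (m - 2) * t :=
      Nat.mul_lt_mul_of_pos_right h (by omega)
    have h3 : m * 1 ≤ m * t := Nat.mul_le_mul_left _ (by omega)
    nlinarith
  apply hG
  rcases Nat.lt_or_ge m 7 with h7 | h7
  · interval_cases m
    · have h5 : 5 ≤ t := by
        by_contra h
        have h6 : t ≤ 4 := by omega
        interval_cases t <;> norm_num at hL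
      norm_num; omega
    · have h5 : 3 ≤ t := by
        by_contra h
        have h6 : t ≤ 2 := by omega
        interval_cases t <;> norm_num at hL
      have : 4 ^ 2 ≤ (t + 1) ^ 2 := Nat.pow_le_pow_left (by omega) 2
      norm_num; omega
    · have h5 : 2 ≤ t := by
        by_contra h
        have h6 : t ≤ 1 := by omega
        interval_cases t <;> norm_num at hL
      have : 3 ^ 3 ≤ (t + 1) ^ 3 := Nat.pow_le_pow_left (by omega) 3
      norm_num; omega
    · have h5 : 2 ≤ t := by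
        by_contra h
        have h6 : t ≤ 1 := by omega
        interval_cases t <;> norm_num at hL
      have : 3 ^ 4 ≤ (t + 1) ^ 4 := Nat.pow_le_pow_left (by omega) 4
      norm_num; omega
  · have h8 : 2 ^ (m - 2) ≤ (t + 1) ^ (m - 2) := Nat.pow_le_pow_left hs _
    have h9 : 2 ^ m = 4 * 2 ^ (m - 2) := by
      rw [show (4 : ℕ) = 2 ^ 2 by norm_num, ← pow_add]; congr 1; omega
    have h10 := (two_pow_seven h7).2
    have h11 : m * (m + 1) = m ^ 2 + m := by ring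
    omega

theorem lt_oodd (hm : 3 ≤ m) (hs : 3 ≤ s) :
    s * (s * prB s m) < 4 ^ max (s ^ 3 - 1) (s ^ (m - 1) - 1) := by
  have h1 : s * (s * prB s m) ≤ s ^ (m * (m + 1) + 2) := by
    calc s * (s * prB s m) = prB s m * s ^ 2 := by ring
      _ ≤ s ^ (m * (m + 1)) * s ^ 2 := Nat.mul_le_mul_right _ (prB_le m s)
      _ = _ := by rw [← pow_add]
  refine h1.trans_lt ?_
  rcases Nat.lt_or_ge m 5 with h5 | h5
  · refine keyG0 (by omega) (le_max_left _ _) ?_
    have h9 : 9 ≤ s ^ 2 := Nat.pow_le_pow_left hs 2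
    have h6 : m * (m + 1) ≤ 20 := by nlinarith
    simp [Finset.sum_range_succ]; omega
  · refine keyG0 (by omega) (le_max_right _ _) ?_
    have h6 := geo_ge_three (j := m - 1) hs
    have h7 := three_pow_five (m := m - 1) (by omega)
    obtain ⟨k, rfl⟩ : ∃ k, m = k + 1 := ⟨m - 1, by omega⟩
    rw [Nat.add_sub_cancel] at h6 h7 ⊢
    have h8 : (k + 1) * (k + 1 + 1) = k ^ 2 + 3 * k + 2 := by ring
    omega

theorem bd_oplus (hm : 4 ≤ m) : s * (s * ((s ^ m - 1) * prB s (m - 1))) ≤ s ^ (m ^ 2 + 2) := by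
  calc s * (s * ((s ^ m - 1) * prB s (m - 1))) = (s ^ m - 1) * prB s (m - 1) * s ^ 2 := by ring
    _ ≤ s ^ m * s ^ (m * (m - 1)) * s ^ 2 :=
        Nat.mul_le_mul_right _ (Nat.mul_le_mul (Nat.sub_le _ _) (prB_pred_le hm))
    _ = _ := by
        rw [← pow_add, ← pow_add]
        congr 1
        obtain ⟨k, rfl⟩ : ∃ k, m = k + 1 := ⟨m - 1, by omega⟩
        rw [Nat.add_sub_cancel]
        ring

theorem bd_ominus (hm : 4 ≤ m) (hs : 1 ≤ s) :
    s * (s * ((s ^ m + 1) * prB s (m - 1))) ≤ 2 ^ 1 * s ^ (m ^ 2 + 2) := by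
  calc s * (s * ((s ^ m + 1) * prB s (m - 1))) = (s ^ m + 1) * prB s (m - 1) * s ^ 2 := by ring
    _ ≤ (2 * s ^ m) * s ^ (m * (m - 1)) * s ^ 2 :=
        Nat.mul_le_mul_right _ (Nat.mul_le_mul (add_le_pow hs m) (prB_pred_le hm))
    _ = _ := by
        rw [pow_one, mul_assoc, mul_assoc, ← pow_add, ← pow_add]
        congr 2
        obtain ⟨k, rfl⟩ : ∃ k, m = k + 1 := ⟨m - 1, by omega⟩
        rw [Nat.add_sub_cancel]
        ring

theorem three_le_of {s k : ℕ} (h : 24 ≤ s ^ k - 1) (hk : k = 3 ∨ k = 4) : 3 ≤ s := by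
  by_contra hc
  have h1 : s ^ k ≤ 2 ^ k := Nat.pow_le_pow_left (by omega) k
  rcases hk with rfl | rfl
  · norm_num at h1; omega
  · norm_num at h1; omega

theorem lt_oplus (hm : 4 ≤ m) (hs : 2 ≤ s) (hL : 24 ≤ max (s ^ 3 - 1) (s ^ (m - 1) - 1)) :
    s * (s * ((s ^ m - 1) * prB s (m - 1))) < 4 ^ max (s ^ 3 - 1) (s ^ (m - 1) - 1) := by
  refine (bd_oplus hm).trans_lt ?_
  have hmax : max (s ^ 3 - 1) (s ^ (m - 1) - 1) = s ^ (m - 1) - 1 := by
    have := Nat.pow_le_pow_right (show 0 < s by omega) (show 3 ≤ m - 1 by omega)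
    exact max_eq_right (by omega)
  rw [hmax] at hL ⊢
  refine keyG0 hs le_rfl ?_
  rcases Nat.lt_or_ge m 6 with h6 | h6
  · interval_cases m
    · have h5 := three_le_of hL (Or.inl rfl)
      have h9 : 9 ≤ s ^ 2 := Nat.pow_le_pow_left h5 2
      simp [Finset.sum_range_succ]; omega
    · have h5 := three_le_of hL (Or.inr rfl)
      have h9 : 9 ≤ s ^ 2 := Nat.pow_le_pow_left h5 2
      have h10 : 27 ≤ s ^ 3 := Nat.pow_le_pow_left h5 3
      simp [Finset.sum_range_succ]; omega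
  · have h2 := geo_ge_two (j := m - 1) hs
    have h3 := (two_pow_six h6).1
    have h4 : 2 ^ m = 2 * 2 ^ (m - 1) := by rw [← pow_succ']; congr 1; omega
    rcases Nat.lt_or_ge m 7 with h7 | h7
    · obtain rfl : m = 6 := by omega
      norm_num at h2 ⊢; omega
    · have h8 := (two_pow_seven h7).1
      omega

theorem lt_ominus (hm : 4 ≤ m) (hs : 2 ≤ s) (hL : 24 ≤ max (s ^ 3 - 1) (s ^ (m - 2) - 1)) :
    s * (s * ((s ^ m + 1) * prB s (m - 1))) < 4 ^ max (s ^ 3 - 1) (s ^ (m - 2) - 1) := by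
  rcases Nat.lt_or_ge m 7 with h7 | h7
  · rcases Nat.lt_or_ge m 6 with h6 | h6
    · have h3 : 3 ≤ s := by
        have : max (s ^ 3 - 1) (s ^ (m - 2) - 1) = s ^ 3 - 1 := by
          have := Nat.pow_le_pow_right (show 0 < s by omega) (show m - 2 ≤ 3 by omega)
          exact max_eq_left (by omega)
        rw [this] at hL
        exact three_le_of hL (Or.inl rfl)
      have h9 : 9 ≤ s ^ 2 := Nat.pow_le_pow_left h3 2
      interval_cases m
      · refine (bd_ominus hm (by omega)).trans_lt (keyG hs (le_max_left _ _) ?_)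
        simp [Finset.sum_range_succ]; omega
      · rcases Nat.lt_or_ge s 4 with h4 | h4
        · obtain rfl : s = 3 := by omega
          decide +kernel
        · have h10 : 16 ≤ s ^ 2 := Nat.pow_le_pow_left h4 2
          refine (bd_ominus hm (by omega)).trans_lt (keyG hs (le_max_left _ _) ?_)
          simp [Finset.sum_range_succ]; omega
    · obtain rfl : m = 6 := by omega
      have hmax : max (s ^ 3 - 1) (s ^ (6 - 2) - 1) = s ^ 4 - 1 := by
        have h0 : s ^ 3 ≤ s ^ 4 := Nat.pow_le_pow_right (show 0 < s by omega) (show 3 ≤ 4 by omega)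
        exact max_eq_right (show s ^ 3 - 1 ≤ s ^ 4 - 1 by omega)
      rw [hmax] at hL ⊢
      have h5 := three_le_of hL (Or.inr rfl)
      have h9 : 9 ≤ s ^ 2 := Nat.pow_le_pow_left h5 2
      have h10 : 27 ≤ s ^ 3 := Nat.pow_le_pow_left h5 3
      refine (bd_ominus hm (by omega)).trans_lt (keyG hs le_rfl ?_)
      simp [Finset.sum_range_succ]; omega
  · refine (bd_ominus hm (by omega)).trans_lt (keyG hs (le_max_right _ _) ?_)
    have h2 := geo_ge_two (j := m - 2) hs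
    have h9 : 2 ^ m = 4 * 2 ^ (m - 2) := by
      rw [show (4 : ℕ) = 2 ^ 2 by norm_num, ← pow_add]; congr 1; omega
    have h8 := (two_pow_seven h7).1
    omega

theorem lt_exc {k b a L : ℕ} (hs : 2 ≤ s) (hL : (s - 1) * s ^ a ≤ L) (h : b + k < 2 * s ^ a) {X : ℕ}
    (hX : X ≤ 2 ^ b * s ^ k) : X < 4 ^ L := by
  refine hX.trans_lt (key (by omega) ?_)
  obtain ⟨t, rfl⟩ : ∃ t, s = t + 2 := ⟨s - 2, by omega⟩
  rw [show t + 2 - 1 = t + 1 by omega] at hL ⊢
  have h1 : (b + k) * (t + 1) < 2 * (t + 2) ^ a * (t + 1) := Nat.mul_lt_mul_of_pos_right h (by omega)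
  nlinarith [Nat.zero_le (b * t)]

end Cfsg.Agent.H884.Cx
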