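import Cfsg.Agent.H884.CxFam

/-!
# TEAM ELUSIVE, cross characteristic: the groups of Lie type with bound at least 24 (exceptional groups, `fam_lt`)
-/

set_option autoImplicit false

namespace Cfsg.Agent.H884.Cx

open Cfsg.Agent.OrdDiv Cfsg.Agent.H436 Cfsg.Agent.H927.SgX Cfsg.Agent.H278.El.SporNum

variable {s : ℕ}

theorem lt_g2 (hL : 24 ≤ lsb (.g2 s)) : fs (.g2 s) * XX (.g2 s) < 4 ^ lsb (.g2 s) := by
  change 24 ≤ (if s ≤ 4 then 0 else (s - 1) * s) at hL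
  change s * (s * ((s ^ 2 - 1) * (s ^ 6 - 1))) < 4 ^ (if s ≤ 4 then 0 else (s - 1) * s)
  by_cases h4 : s ≤ 4
  · rw [if_pos h4] at hL; omega
  rw [if_neg h4] at hL ⊢
  have h6 : 6 ≤ s := by
    by_contra h
    obtain rfl : s = 5 := by omega
    norm_num at hL
  refine lt_exc (s := s) (a := 1) (b := 0) (k := 10) (by omega) (by rw [pow_one]) (by rw [pow_one]; omega) ?_
  calc s * (s * ((s ^ 2 - 1) * (s ^ 6 - 1))) ≤ s * (s * (s ^ 2 * s ^ 6)) := by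
        gcongr <;> exact Nat.sub_le _ _
    _ = _ := by ring

theorem lt_f4 (hs : 2 ≤ s) (hL : 24 ≤ lsb (.f4 s)) : fs (.f4 s) * XX (.f4 s) < 4 ^ lsb (.f4 s) := by
  change 24 ≤ (if s = 2 then 0 else (s - 1) * s ^ 3) at hL
  change s * (s * ((s ^ 2 - 1) * (s ^ 6 - 1) * (s ^ 8 - 1) * (s ^ 12 - 1))) <
    4 ^ (if s = 2 then 0 else (s - 1) * s ^ 3)
  by_cases h4 : s = 2
  · rw [if_pos h4] at hL; omega
  rw [if_neg h4] at hL ⊢
  have h6 : 3 ^ 3 ≤ s ^ 3 := Nat.pow_le_pow_left (by omega) 3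
  refine lt_exc (a := 3) (b := 0) (k := 30) hs le_rfl (by omega) ?_
  calc s * (s * ((s ^ 2 - 1) * (s ^ 6 - 1) * (s ^ 8 - 1) * (s ^ 12 - 1)))
      ≤ s * (s * (s ^ 2 * s ^ 6 * s ^ 8 * s ^ 12)) := by gcongr <;> exact Nat.sub_le _ _
    _ = _ := by ring

theorem lt_e6 (hs : 2 ≤ s) : fs (.e6 s) * XX (.e6 s) < 4 ^ lsb (.e6 s) := by
  have h6 : 2 ^ 6 ≤ s ^ 6 := Nat.pow_le_pow_left hs 6
  refine lt_exc (a := 6) (b := 0) (k := 44) hs le_rfl (by omega) ?_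
  change s * (s * ((s ^ 2 - 1) * (s ^ 5 - 1) * (s ^ 6 - 1) * (s ^ 8 - 1) * (s ^ 9 - 1) * (s ^ 12 - 1))) ≤ _
  calc s * (s * ((s ^ 2 - 1) * (s ^ 5 - 1) * (s ^ 6 - 1) * (s ^ 8 - 1) * (s ^ 9 - 1) * (s ^ 12 - 1)))
      ≤ s * (s * (s ^ 2 * s ^ 5 * s ^ 6 * s ^ 8 * s ^ 9 * s ^ 12)) := by gcongr <;> exact Nat.sub_le _ _
    _ = _ := by ring

theorem lt_e7 (hs : 2 ≤ s) : fs (.e7 s) * XX (.e7 s) < 4 ^ lsb (.e7 s) := by
  have h6 : 2 ^ 7 ≤ s ^ 7 := Nat.pow_le_pow_left hs 7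
  refine lt_exc (a := 7) (b := 0) (k := 72) hs le_rfl (by omega) ?_
  change s * (s * ((s ^ 2 - 1) * (s ^ 6 - 1) * (s ^ 8 - 1) * (s ^ 10 - 1) * (s ^ 12 - 1) * (s ^ 14 - 1) *
    (s ^ 18 - 1))) ≤ _
  calc s * (s * ((s ^ 2 - 1) * (s ^ 6 - 1) * (s ^ 8 - 1) * (s ^ 10 - 1) * (s ^ 12 - 1) * (s ^ 14 - 1) *
    (s ^ 18 - 1))) ≤ s * (s * (s ^ 2 * s ^ 6 * s ^ 8 * s ^ 10 * s ^ 12 * s ^ 14 * s ^ 18)) := by
        gcongr <;> exact Nat.sub_le _ _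
    _ = _ := by ring

theorem lt_e8 (hs : 2 ≤ s) : fs (.e8 s) * XX (.e8 s) < 4 ^ lsb (.e8 s) := by
  have h6 : 2 ^ 7 ≤ s ^ 7 := Nat.pow_le_pow_left hs 7
  refine lt_exc (a := 7) (b := 0) (k := 130) hs le_rfl (by omega) ?_
  change s * (s * ((s ^ 2 - 1) * (s ^ 8 - 1) * (s ^ 12 - 1) * (s ^ 14 - 1) * (s ^ 18 - 1) *
      (s ^ 20 - 1) * (s ^ 24 - 1) * (s ^ 30 - 1))) ≤ _
  calc s * (s * ((s ^ 2 - 1) * (s ^ 8 - 1) * (s ^ 12 - 1) * (s ^ 14 - 1) * (s ^ 18 - 1) *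
      (s ^ 20 - 1) * (s ^ 24 - 1) * (s ^ 30 - 1)))
      ≤ s * (s * (s ^ 2 * s ^ 8 * s ^ 12 * s ^ 14 * s ^ 18 * s ^ 20 * s ^ 24 * s ^ 30)) := by
        gcongr <;> exact Nat.sub_le _ _
    _ = _ := by ring

theorem lt_te6 (hs : 2 ≤ s) (hL : 24 ≤ lsb (.te6 s)) : fs (.te6 s) * XX (.te6 s) < 4 ^ lsb (.te6 s) := by
  change 24 ≤ (if s = 2 then 0 else (s - 1) * s ^ 6) at hL
  change s * (s * ((s ^ 2 - 1) * (s ^ 5 + 1) * (s ^ 6 - 1) * (s ^ 8 - 1) * (s ^ 9 + 1) * (s ^ 12 - 1))) <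
    4 ^ (if s = 2 then 0 else (s - 1) * s ^ 6)
  by_cases h4 : s = 2
  · rw [if_pos h4] at hL; omega
  rw [if_neg h4] at hL ⊢
  have h6 : 3 ^ 6 ≤ s ^ 6 := Nat.pow_le_pow_left (by omega) 6
  refine lt_exc (a := 6) (b := 2) (k := 44) hs le_rfl (by omega) ?_
  calc s * (s * ((s ^ 2 - 1) * (s ^ 5 + 1) * (s ^ 6 - 1) * (s ^ 8 - 1) * (s ^ 9 + 1) * (s ^ 12 - 1)))
      ≤ s * (s * (s ^ 2 * (2 * s ^ 5) * s ^ 6 * s ^ 8 * (2 * s ^ 9) * s ^ 12)) := by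
        gcongr <;> first | exact Nat.sub_le _ _ | exact add_le_pow (by omega) _
    _ = _ := by ring

theorem lt_td4 (hs : 2 ≤ s) (hL : 24 ≤ lsb (.td4 s)) : fs (.td4 s) * XX (.td4 s) < 4 ^ lsb (.td4 s) := by
  change 24 ≤ (if s ≤ 3 then 0 else (s - 1) * s ^ 3) at hL
  change s * (s * ((s ^ 2 - 1) * (s ^ 6 - 1) * (s ^ 8 + s ^ 4 + 1))) < 4 ^ (if s ≤ 3 then 0 else (s - 1) * s ^ 3)
  by_cases h4 : s ≤ 3
  · rw [if_pos h4] at hL; omega
  rw [if_neg h4] at hL ⊢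
  have h6 : 4 ^ 3 ≤ s ^ 3 := Nat.pow_le_pow_left (by omega) 3
  refine lt_exc (a := 3) (b := 2) (k := 18) hs le_rfl (by omega) ?_
  have h8 : s ^ 8 + s ^ 4 + 1 ≤ 4 * s ^ 8 := by
    have h9 : s ^ 4 ≤ s ^ 8 := Nat.pow_le_pow_right (by omega) (by norm_num)
    have h10 : 1 ≤ s ^ 8 := Nat.one_le_pow _ _ (by omega)
    omega
  calc s * (s * ((s ^ 2 - 1) * (s ^ 6 - 1) * (s ^ 8 + s ^ 4 + 1)))
      ≤ s * (s * (s ^ 2 * s ^ 6 * (4 * s ^ 8))) := by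
        gcongr <;> exact Nat.sub_le _ _
    _ = _ := by ring

theorem lt_sz (hL : 24 ≤ lsb (.sz s)) : fs (.sz s) * XX (.sz s) < 4 ^ lsb (.sz s) := by
  change 24 ≤ s - 1 at hL
  change s * (s * ((s - 1) * (s ^ 2 + 1))) < 4 ^ (s - 1)
  refine lt_of_le_of_lt ?_ (pow_five_lt (s := s) (by omega))
  calc s * (s * ((s - 1) * (s ^ 2 + 1))) ≤ s * (s * (s * (2 * s ^ 2))) := by
        gcongr <;> first | exact Nat.sub_le _ _ | exact add_le_pow (by omega) _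
    _ = _ := by ring

theorem lt_ree (hL : 24 ≤ lsb (.ree s)) : fs (.ree s) * XX (.ree s) < 4 ^ lsb (.ree s) := by
  change 24 ≤ (s - 1) / 2 at hL
  change s * (s * ((s - 1) * (s ^ 3 + 1))) < 4 ^ ((s - 1) / 2)
  refine lt_of_lt_of_le ?_ (half_pow (s := s) (by omega))
  refine lt_of_le_of_lt ?_ (pow_six_lt (s := s) (by omega))
  calc s * (s * ((s - 1) * (s ^ 3 + 1))) ≤ s * (s * (s * (2 * s ^ 3))) := by
        gcongr <;> first | exact Nat.sub_le _ _ | exact add_le_pow (by omega) _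
    _ = _ := by ring

theorem lt_tf4 (hs : ∃ m, 1 ≤ m ∧ s = 2 ^ (2 * m + 1)) :
    fs (.tf4 s) * XX (.tf4 s) < 4 ^ lsb (.tf4 s) := by
  obtain ⟨m, hm, rfl⟩ := hs
  rcases Nat.eq_or_lt_of_le hm with rfl | h2
  · decide +kernel
  · have h32 : 2 ^ 5 ≤ 2 ^ (2 * m + 1) := Nat.pow_le_pow_right (by norm_num) (by omega)
    generalize 2 ^ (2 * m + 1) = s at *
    change s * (s * ((s - 1) * (s ^ 3 + 1) * (s ^ 4 - 1) * (s ^ 6 + 1))) < 4 ^ ((s - 1) * s)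
    refine lt_exc (s := s) (a := 1) (b := 2) (k := 16) (by omega) (by rw [pow_one]) (by rw [pow_one]; omega) ?_
    calc s * (s * ((s - 1) * (s ^ 3 + 1) * (s ^ 4 - 1) * (s ^ 6 + 1)))
        ≤ s * (s * (s * (2 * s ^ 3) * s ^ 4 * (2 * s ^ 6))) := by
          gcongr <;> first | exact Nat.sub_le _ _ | exact add_le_pow (by omega) _
      _ = _ := by ring

/-- **The groups of Lie type with bound at least 24.** -/
theorem fam_lt {g : Grp} (hg : Cond g) (hlie : IsLieN g) (hL : 24 ≤ lsb g) : fs g * XX g < 4 ^ lsb g := by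
  cases g with
  | psl m s =>
    obtain ⟨h1, h2, h3⟩ := hg
    change 24 ≤ (if m = 2 then (s - 1) / 2 else s ^ (m - 1) - 1) at hL
    change s * glN m s < 4 ^ (if m = 2 then (s - 1) / 2 else s ^ (m - 1) - 1)
    by_cases hm : m = 2
    · subst hm
      rw [if_pos rfl] at hL ⊢
      exact lt_psl2 hL
    · rw [if_neg hm] at hL ⊢
      exact lt_psl (by omega) h3.two_le hL
  | psp m s =>
    have hs : 2 ≤ s := hg.2.2.two_le
    change 24 ≤ (if s % 2 = 1 then (s ^ m - 1) / 2 else s ^ m - 1) at hL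
    change s * (s * prB s m) < 4 ^ (if s % 2 = 1 then (s ^ m - 1) / 2 else s ^ m - 1)
    split_ifs at hL ⊢ with ho
    · exact lt_psp_odd hg.1 hs ho hL
    · exact lt_psp_even hg.1 hs hL
  | psu m s => exact lt_psu hg.1 hg.2.2.two_le hL
  | oodd m s =>
    have hs : 2 ≤ s := hg.2.2.two_le
    have ho := Nat.odd_iff.1 hg.2.1
    have hs3 : 3 ≤ s := by omega
    exact lt_oodd hg.1 hs3
  | oplus m s => exact lt_oplus hg.1 hg.2.two_le hL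
  | ominus m s => exact lt_ominus hg.1 hg.2.two_le hL
  | g2 s => exact lt_g2 hL
  | f4 s => exact lt_f4 (IsPrimePow.two_le hg) hL
  | e6 s => exact lt_e6 (IsPrimePow.two_le hg)
  | e7 s => exact lt_e7 (IsPrimePow.two_le hg)
  | e8 s => exact lt_e8 (IsPrimePow.two_le hg)
  | te6 s => exact lt_te6 (IsPrimePow.two_le hg) hL
  | td4 s => exact lt_td4 (IsPrimePow.two_le hg) hL
  | sz s => exact lt_sz hL
  | ree s => exact lt_ree hL
  | tf4 s => exact lt_tf4 hg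
  | _ => exact hlie.elim

theorem sub_ne {k : ℕ} (hs : 2 ≤ s) (hk : k ≠ 0) : s ^ k - 1 ≠ 0 := by
  have : 2 ^ 1 ≤ s ^ k := (Nat.pow_le_pow_left hs 1).trans (Nat.pow_le_pow_right (by omega) (by omega))
  omega

theorem list_ne {f : ℕ → ℕ} (m : ℕ) (h : ∀ i < m, f i ≠ 0) : ((List.range m).map f).prod ≠ 0 := by
  rw [Ne, List.prod_eq_zero_iff, List.mem_map]
  rintro ⟨i, hi, h0⟩
  exact h i (List.mem_range.1 hi) h0

theorem prB_ne (hs : 2 ≤ s) (m : ℕ) : prB s m ≠ 0 := list_ne m fun i _ => sub_ne hs (by omega)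

theorem prU_ne (hs : 2 ≤ s) (m : ℕ) : prU s m ≠ 0 := list_ne m fun i _ => by
  split_ifs
  · omega
  · exact sub_ne hs (by omega)

theorem glN_ne (hs : 2 ≤ s) (m : ℕ) : glN m s ≠ 0 := list_ne m fun i hi => by
  have := Nat.pow_lt_pow_right (show 1 < s by omega) hi
  omega

theorem XX_ne {g : Grp} (hg : Cond g) (hlie : IsLieN g) : XX g ≠ 0 := by
  cases g with
  | psl m s => exact glN_ne hg.2.2.two_le m
  | psp m s => exact Nat.mul_ne_zero (by have := hg.2.2.two_le; omega) (prB_ne hg.2.2.two_le m)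
  | psu m s => exact Nat.mul_ne_zero (by have := hg.2.2.two_le; omega) (prU_ne hg.2.2.two_le m)
  | oodd m s => exact Nat.mul_ne_zero (by have := hg.2.2.two_le; omega) (prB_ne hg.2.2.two_le m)
  | oplus m s =>
    exact Nat.mul_ne_zero (by have := hg.2.two_le; omega)
      (Nat.mul_ne_zero (sub_ne hg.2.two_le (by have := hg.1; omega)) (prB_ne hg.2.two_le _))
  | ominus m s =>
    exact Nat.mul_ne_zero (by have := hg.2.two_le; omega) (Nat.mul_ne_zero (by omega) (prB_ne hg.2.two_le _))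
  | g2 s =>
    have hs : 2 ≤ s := IsPrimePow.two_le hg.2
    refine Nat.mul_ne_zero (by omega) (Nat.mul_ne_zero ?_ ?_) <;> exact sub_ne hs (by norm_num)
  | f4 s =>
    have hs : 2 ≤ s := IsPrimePow.two_le hg
    refine Nat.mul_ne_zero (by omega) (Nat.mul_ne_zero (Nat.mul_ne_zero (Nat.mul_ne_zero ?_ ?_) ?_) ?_) <;>
      exact sub_ne hs (by norm_num)
  | e6 s =>
    have hs : 2 ≤ s := IsPrimePow.two_le hg
    refine Nat.mul_ne_zero (by omega) (Nat.mul_ne_zero (Nat.mul_ne_zero (Nat.mul_ne_zero (Nat.mul_ne_zero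
      (Nat.mul_ne_zero ?_ ?_) ?_) ?_) ?_) ?_) <;> exact sub_ne hs (by norm_num)
  | e7 s =>
    have hs : 2 ≤ s := IsPrimePow.two_le hg
    refine Nat.mul_ne_zero (by omega) (Nat.mul_ne_zero (Nat.mul_ne_zero (Nat.mul_ne_zero (Nat.mul_ne_zero
      (Nat.mul_ne_zero (Nat.mul_ne_zero ?_ ?_) ?_) ?_) ?_) ?_) ?_) <;> exact sub_ne hs (by norm_num)
  | e8 s =>
    have hs : 2 ≤ s := IsPrimePow.two_le hg
    refine Nat.mul_ne_zero (by omega) (Nat.mul_ne_zero (Nat.mul_ne_zero (Nat.mul_ne_zero (Nat.mul_ne_zero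
      (Nat.mul_ne_zero (Nat.mul_ne_zero (Nat.mul_ne_zero ?_ ?_) ?_) ?_) ?_) ?_) ?_) ?_) <;>
      exact sub_ne hs (by norm_num)
  | te6 s =>
    have hs : 2 ≤ s := IsPrimePow.two_le hg
    refine Nat.mul_ne_zero (by omega) (Nat.mul_ne_zero (Nat.mul_ne_zero (Nat.mul_ne_zero (Nat.mul_ne_zero
      (Nat.mul_ne_zero ?_ ?_) ?_) ?_) ?_) ?_) <;> first | exact sub_ne hs (by norm_num) | omega
  | td4 s =>
    have hs : 2 ≤ s := IsPrimePow.two_le hg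
    refine Nat.mul_ne_zero (by omega) (Nat.mul_ne_zero (Nat.mul_ne_zero ?_ ?_) ?_) <;>
      first | exact sub_ne hs (by norm_num) | omega
  | sz s =>
    obtain ⟨m, hm, rfl⟩ := hg
    have h32 : 2 ^ 1 ≤ 2 ^ (2 * m + 1) := Nat.pow_le_pow_right (by norm_num) (by omega)
    refine Nat.mul_ne_zero (by omega) (Nat.mul_ne_zero ?_ ?_) <;> omega
  | ree s =>
    obtain ⟨m, hm, rfl⟩ := hg
    have h32 : 3 ^ 1 ≤ 3 ^ (2 * m + 1) := Nat.pow_le_pow_right (by norm_num) (by omega)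
    refine Nat.mul_ne_zero (by omega) (Nat.mul_ne_zero ?_ ?_) <;> omega
  | tf4 s =>
    obtain ⟨m, hm, rfl⟩ := hg
    have h32 : 2 ^ 1 ≤ 2 ^ (2 * m + 1) := Nat.pow_le_pow_right (by norm_num) (by omega)
    refine Nat.mul_ne_zero (by omega) (Nat.mul_ne_zero (Nat.mul_ne_zero (Nat.mul_ne_zero ?_ ?_) ?_) ?_) <;>
      first | omega | exact sub_ne (by omega) (by norm_num)
  | _ => exact hlie.elim

/-- **No classical group of large dimension.** -/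
theorem large {g gT : Grp} (hg : Cond g) (hlie : IsLieN g) {cS : ℕ} (hS : den g * cS = num g)
    (hgT : Cond gT) (hcl : IsCl gT) {c : ℕ} (he : den gT * c = num gT) {f : ℕ} (hf : f ≤ fs g) (hf0 : f ≠ 0)
    (h : ∀ r : ℕ, r.Prime → 5 ≤ r → r ∣ c → r ∣ cS ∨ r ∣ f) (hL : lsb g ≤ dimN gT) : lsb g ≤ 23 := by
  by_contra hcon
  push Not at hcon
  have h1 := fam_lt hg hlie hcon
  have h2 := crude hgT hcl he (N := f * XX g) (Nat.mul_ne_zero hf0 (XX_ne hg hlie)) (fun r hr h5 hd => by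
    rcases h r hr h5 hd with h3 | h3
    · exact (XX_dvd_card hlie hS hr h3).mul_left _
    · exact h3.mul_right _) (by omega)
  have h3 : 4 ^ lsb g ≤ 4 ^ dimN gT := Nat.pow_le_pow_right (by norm_num) hL
  have h4 : f * XX g ≤ fs g * XX g := Nat.mul_le_mul_right _ hf
  omega

end Cfsg.Agent.H884.Cx
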