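import Cfsg.Agent.H278.ElSporNum

/-!
# TEAM ELUSIVE, cross characteristic: the product of the primitive primes of a classical group

`T` a classical group of dimension `n` over `F_q`: the order of `T` is divisible by primitive primes `r_e` for all
even `4 ≤ e ≤ n - 2` (`e ≠ 6`) and all odd `e ≥ 3` with `2 e ≤ n - 2`. Their product is at least `4 ^ n` for
`n ≥ 24`.
-/

set_option autoImplicit false

namespace Cfsg.Agent.H884.Cx

open Cfsg.Agent.OrdDiv Cfsg.Agent.H436 Cfsg.Agent.H278.El.Num Cfsg.Agent.H278.El.SporNum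

/-- the dimension of the natural module -/
def dimN : Grp → ℕ
  | .psl n _ => n
  | .psp m _ => 2 * m
  | .psu n _ => n
  | .oodd m _ => 2 * m + 1
  | .oplus m _ => 2 * m
  | .ominus m _ => 2 * m
  | _ => 0

/-- the parameter `q` -/
def fq : Grp → ℕ
  | .psl _ q => q
  | .psp _ q => q
  | .psu _ q => q
  | .oodd _ q => q
  | .oplus _ q => q
  | .ominus _ q => q
  | _ => 0

/-- lower bound of a primitive prime -/
def wt (e : ℕ) : ℕ := if e % 2 = 0 then e + 1 else 2 * e + 1

theorem prim_dvd_pred {q e r : ℕ} (h : Prim q e r) : e ∣ r - 1 := by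
  have hc : Nat.Coprime q r := ((Nat.Prime.coprime_iff_not_dvd h.prime).2 h.not_dvd).symm
  have h2 := Nat.ModEq.pow_totient hc
  rw [Nat.totient_prime h.prime] at h2
  rcases Nat.eq_zero_or_pos q with rfl | hq
  · exact absurd (dvd_zero r) h.not_dvd
  · exact (h.dvd_iff _).1 ((Nat.modEq_iff_dvd' (Nat.one_le_pow _ _ hq)).1 h2.symm)

theorem wt_le {q e r : ℕ} (h : Prim q e r) (he : 3 ≤ e) : wt e ≤ r := by
  have h1 := prim_le h
  unfold wt
  split_ifs with h2
  · exact h1
  · have h3 : r % 2 = 1 := (h.prime.eq_two_or_odd).resolve_left (by omega)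
    obtain ⟨k, hk⟩ := prim_dvd_pred h
    have h4 : k ≠ 0 := by rintro rfl; omega
    have h5 : k ≠ 1 := by rintro rfl; omega
    have h6 : e * 2 ≤ e * k := Nat.mul_le_mul_left _ (by omega)
    omega

theorem five_le {q e r : ℕ} (h : Prim q e r) (he : 3 ≤ e) : 5 ≤ r := by
  have h1 := prim_le h
  by_contra h2
  have : r = 4 := by omega
  subst this
  exact absurd h.prime (by norm_num)

theorem prim_inj {q e e' r : ℕ} (h : Prim q e r) (h' : Prim q e' r) : e = e' := by
  apply Nat.dvd_antisymm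
  · exact (h.dvd_iff _).1 (h'.dvd (dvd_refl _))
  · exact (h'.dvd_iff _).1 (h.dvd (dvd_refl _))

/-- **The product of the primitive primes.** -/
theorem prod_le {A : Finset ℕ} {w : ℕ → ℕ} {N q : ℕ} (hN : N ≠ 0)
    (h : ∀ e ∈ A, ∃ r, Prim q e r ∧ r ∣ N ∧ w e ≤ r) : ∏ e ∈ A, w e ≤ N := by
  classical
  choose! r hr using h
  have h1 : ∏ e ∈ A, r e ∣ N := by
    have key : ∀ B : Finset ℕ, B ⊆ A → ∏ e ∈ B, r e ∣ N := by
      intro B
      induction B using Finset.induction_on with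
      | empty => intro _; simp
      | insert a s ha ih =>
        intro hs
        rw [Finset.prod_insert ha]
        refine Nat.Coprime.mul_dvd_of_dvd_of_dvd ?_ (hr a (hs (Finset.mem_insert_self _ _))).2.1
          (ih fun x hx => hs (Finset.mem_insert_of_mem hx))
        refine Nat.Coprime.prod_right fun b hb => ?_
        have h2 := (hr a (hs (Finset.mem_insert_self _ _))).1
        have h3 := (hr b (hs (Finset.mem_insert_of_mem hb))).1
        rw [Nat.coprime_primes h2.prime h3.prime]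
        intro h4
        rw [← h4] at h3
        have h5 := prim_inj h2 h3
        exact ha (h5 ▸ hb)
    exact key A (Finset.Subset.refl _)
  exact (Finset.prod_le_prod' fun e he => (hr e he).2.2).trans (Nat.le_of_dvd (Nat.pos_of_ne_zero hN) h1)

/-- the exponents -/
def EA (h : ℕ) : Finset ℕ :=
  (Finset.range (2 * h)).filter fun e => 3 ≤ e ∧ e ≠ 6 ∧ (e % 2 = 1 → e + 1 ≤ h)

theorem EA_prod : ∀ k : ℕ, 4 ^ (2 * (12 + k) + 1) ≤ ∏ e ∈ EA (12 + k), wt e
  | 0 => by decide +kernel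
  | k + 1 => by
    have ih := EA_prod k
    have h1 : 2 * (12 + k) ∉ EA (12 + k) := by simp [EA]
    have h2 : insert (2 * (12 + k)) (EA (12 + k)) ⊆ EA (12 + (k + 1)) := by
      intro e he
      rw [Finset.mem_insert] at he
      simp only [EA, Finset.mem_filter, Finset.mem_range] at he ⊢
      omega
    have h3 : ∏ e ∈ insert (2 * (12 + k)) (EA (12 + k)), wt e ≤ ∏ e ∈ EA (12 + (k + 1)), wt e := by
      refine Finset.prod_le_prod_of_subset_of_one_le' h2 fun e _ _ => ?_
      unfold wt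
      split_ifs <;> omega
    rw [Finset.prod_insert h1] at h3
    have h4 : 16 ≤ wt (2 * (12 + k)) := by
      unfold wt
      rw [if_pos (by omega)]
      omega
    calc 4 ^ (2 * (12 + (k + 1)) + 1) = 16 * 4 ^ (2 * (12 + k) + 1) := by
          rw [show 2 * (12 + (k + 1)) + 1 = (2 * (12 + k) + 1) + 2 by ring, pow_add]; ring
      _ ≤ wt (2 * (12 + k)) * ∏ e ∈ EA (12 + k), wt e := Nat.mul_le_mul h4 ih
      _ ≤ _ := h3

/-- **The primitive primes of a classical group.** -/
theorem exists_r {g : Grp} (hg : Cond g) (hcl : IsCl g) {c : ℕ} (he : den g * c = num g) {e : ℕ} (h3 : 3 ≤ e)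
    (h6 : e ≠ 6) (hn : e + 2 ≤ dimN g) (ho : e % 2 = 1 → 2 * e + 2 ≤ dimN g) :
    ∃ r, Prim (fq g) e r ∧ r ∣ c := by
  have hex : 2 ≤ fq g → ∃ r, Prim (fq g) e r := fun hq => exists_prim hq h3 fun h => h6 h.2
  cases g with
  | psl n q =>
    have hq : 2 ≤ q := hg.2.2.two_le
    obtain ⟨r, hr⟩ := hex hq
    have hn' : e + 2 ≤ n := hn
    exact ⟨r, hr, psl_dvd hcl hq he (i := e) (by omega) hr.prime (hr.dvd (dvd_refl _)) (by omega)⟩
  | psp m q =>
    have hq : 2 ≤ q := hg.2.2.two_le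
    obtain ⟨r, hr⟩ := hex hq
    have hn' : e + 2 ≤ 2 * m := hn
    have ho' : e % 2 = 1 → 2 * e + 2 ≤ 2 * m := ho
    refine ⟨r, hr, ?_⟩
    rcases Nat.even_or_odd' e with ⟨k, hk | hk⟩
    · exact psp_dvd hg.1 he (i := k) (by omega) (by omega) hr.prime (hr.dvd (by rw [hk]))
    · exact psp_dvd hg.1 he (i := e) (by omega) (by omega) hr.prime (hr.dvd (Dvd.intro_left _ rfl))
  | oodd m q =>
    have hq : 2 ≤ q := hg.2.2.two_le
    obtain ⟨r, hr⟩ := hex hq
    have hn' : e + 2 ≤ 2 * m + 1 := hn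
    have ho' : e % 2 = 1 → 2 * e + 2 ≤ 2 * m + 1 := ho
    refine ⟨r, hr, ?_⟩
    rcases Nat.even_or_odd' e with ⟨k, hk | hk⟩
    · exact oodd_dvd hg.1 hg.2.1 he (i := k) (by omega) (by omega) hr.prime (hr.dvd (by rw [hk]))
    · exact oodd_dvd hg.1 hg.2.1 he (i := e) (by omega) (by omega) hr.prime (hr.dvd (Dvd.intro_left _ rfl))
  | oplus m q =>
    have hq : 2 ≤ q := hg.2.two_le
    obtain ⟨r, hr⟩ := hex hq
    have hn' : e + 2 ≤ 2 * m := hn
    have ho' : e % 2 = 1 → 2 * e + 2 ≤ 2 * m := ho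
    refine ⟨r, hr, ?_⟩
    rcases Nat.even_or_odd' e with ⟨k, hk | hk⟩
    · exact oplus_dvd hg.1 hq he (i := k) (by omega) (by omega) hr.prime (hr.dvd (by rw [hk]))
    · exact oplus_dvd hg.1 hq he (i := e) (by omega) (by omega) hr.prime (hr.dvd (Dvd.intro_left _ rfl))
  | ominus m q =>
    have hq : 2 ≤ q := hg.2.two_le
    obtain ⟨r, hr⟩ := hex hq
    have hn' : e + 2 ≤ 2 * m := hn
    have ho' : e % 2 = 1 → 2 * e + 2 ≤ 2 * m := ho
    refine ⟨r, hr, ?_⟩
    rcases Nat.even_or_odd' e with ⟨k, hk | hk⟩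
    · exact ominus_dvd hg.1 hq he (i := k) (by omega) (by omega) hr.prime (hr.dvd (by rw [hk]))
    · exact ominus_dvd hg.1 hq he (i := e) (by omega) (by omega) hr.prime (hr.dvd (Dvd.intro_left _ rfl))
  | psu n q =>
    have hq : 2 ≤ q := hg.2.2.two_le
    obtain ⟨r, hr⟩ := hex hq
    have hn' : e + 2 ≤ n := hn
    have ho' : e % 2 = 1 → 2 * e + 2 ≤ n := ho
    refine ⟨r, hr, ?_⟩
    rcases Nat.even_or_odd' e with ⟨k, hk | hk⟩
    · rcases Nat.even_or_odd' k with ⟨j, hj | hj⟩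
      · refine psu_dvd hg.1 he (i := e) (by omega) (by omega) hr.prime ?_
        unfold vU
        rw [show e % 2 = 0 by omega]
        exact hr.dvd (dvd_refl _)
      · refine psu_dvd hg.1 he (i := k) (by omega) (by omega) hr.prime ?_
        unfold vU
        rw [show k % 2 = 1 by omega]
        refine hr.dvd_add (m := k) (by rw [hk]) fun h => ?_
        have := Nat.le_of_dvd (by omega) h
        omega
    · refine psu_dvd hg.1 he (i := 2 * e) (by omega) (by omega) hr.prime ?_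
      unfold vU
      rw [show 2 * e % 2 = 0 by omega]
      exact hr.dvd (Dvd.intro_left _ rfl)
  | _ => exact hcl.elim

/-- **The crude bound.** -/
theorem crude {g : Grp} (hg : Cond g) (hcl : IsCl g) {c : ℕ} (he : den g * c = num g) {N : ℕ} (hN : N ≠ 0)
    (h : ∀ r : ℕ, r.Prime → 5 ≤ r → r ∣ c → r ∣ N) (hn : 24 ≤ dimN g) : 4 ^ dimN g ≤ N := by
  obtain ⟨k, hk⟩ : ∃ k, dimN g / 2 = 12 + k := ⟨dimN g / 2 - 12, by omega⟩
  have h1 := EA_prod k
  have h2 : ∏ e ∈ EA (12 + k), wt e ≤ N := by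
    refine prod_le (q := fq g) hN fun e hmem => ?_
    simp only [EA, Finset.mem_filter, Finset.mem_range] at hmem
    obtain ⟨r, hr, hrc⟩ := exists_r hg hcl he hmem.2.1 hmem.2.2.1 (by
      rcases Nat.even_or_odd' e with ⟨j, hj | hj⟩
      · omega
      · have := hmem.2.2.2 (by omega)
        omega) (fun ho => by
        have := hmem.2.2.2 ho
        omega)
    exact ⟨r, hr, h r hr.prime (five_le hr hmem.2.1) hrc, wt_le hr hmem.2.1⟩
  calc 4 ^ dimN g ≤ 4 ^ (2 * (12 + k) + 1) := Nat.pow_le_pow_right (by norm_num) (by omega)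
    _ ≤ _ := h1.trans h2

end Cfsg.Agent.H884.Cx
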