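import Mathlib
import Cfsg.Agent.H883.Root
import Cfsg.Agent.H883.Sub

/-!
# Extension fields in orthogonal groups: basics (helper884)

`V` is a vector space over `K ⊇ F` with a nondegenerate quadratic form `QK` over `K`, and `Q = Tr ∘ QK`.
-/

set_option autoImplicit false
set_option linter.unusedSectionVars false

namespace Cfsg.Agent.H884.Ext

open QuadraticMap Cfsg.Agent.LieClassical.OrthCore Cfsg.Agent.LieClassical.OrthTrans
  Cfsg.Agent.LieClassical.OrthSimple Cfsg.Agent.LieClassical.OrthFinite Cfsg.Agent.H883.Root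
  Cfsg.Agent.H883.Sub Module

variable {F K V : Type*} [Field F] [Field K] [Algebra F K] [AddCommGroup V] [Module F V] [Module K V]
  [IsScalarTower F K V] {Q : QuadraticForm F V} {QK : QuadraticForm K V}

/-- `Q` is the trace of the nondegenerate form `QK`. -/
structure TF (Q : QuadraticForm F V) (QK : QuadraticForm K V) : Prop where
  two : (2 : K) ≠ 0
  tr : ∀ v, Q v = Algebra.trace F K (QK v)
  nondeg : Nondeg QK

section Trace

variable [Finite K]

theorem trace_ext {a : K} (h : ∀ c : K, Algebra.trace F K (c * a) = 0) : a = 0 := by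
  have : Finite F := Finite.of_injective _ (algebraMap F K).injective
  by_contra ha
  have h1 : Algebra.trace F K ≠ 0 := Algebra.trace_ne_zero F K
  apply h1
  ext c
  have := h (c * a⁻¹)
  rwa [mul_assoc, inv_mul_cancel₀ ha, mul_one] at this

theorem trace_ext' {a b : K} (h : ∀ c : K, Algebra.trace F K (c * a) = Algebra.trace F K (c * b)) :
    a = b := by
  rw [← sub_eq_zero]
  apply trace_ext (F := F)
  intro c
  rw [mul_sub, map_sub, h, sub_self]

/-- Every linear functional on `K` is `x ↦ Tr (e x)`. -/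
theorem exists_trace (φ : K →ₗ[F] F) : ∃ e : K, ∀ x, φ x = Algebra.trace F K (e * x) := by
  have : Finite F := Finite.of_injective _ (algebraMap F K).injective
  have hfd : FiniteDimensional F K := inferInstance
  let T : K →ₗ[F] (K →ₗ[F] F) := Algebra.traceForm F K
  have hinj : Function.Injective T := by
    rw [← LinearMap.ker_eq_bot, LinearMap.ker_eq_bot']
    intro a ha
    apply trace_ext (F := F)
    intro c
    have := LinearMap.congr_fun ha c
    rw [mul_comm]
    exact this
  have hsurj : Function.Surjective T := by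
    have h2 : finrank F K = finrank F (K →ₗ[F] F) := by
      rw [finrank_linearMap, finrank_self, mul_one]
    exact (LinearMap.injective_iff_surjective_of_finrank_eq_finrank h2).1 hinj
  obtain ⟨e, he⟩ := hsurj φ
  exact ⟨e, fun x => by rw [← he]; rfl⟩

end Trace

namespace TF

variable (h : TF Q QK)
include h

theorem polar_eq (x y : V) : polar Q x y = Algebra.trace F K (polar QK x y) := by
  rw [polar, polar, h.tr, h.tr, h.tr, map_sub, map_sub]

theorem twoF : (2 : F) ≠ 0 := by
  intro h2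
  apply h.two
  have h3 := congrArg (algebraMap F K) h2
  rwa [map_ofNat, map_zero] at h3

theorem smul_left (c : K) (x y : V) : polar Q (c • x) y = Algebra.trace F K (c * polar QK x y) := by
  rw [h.polar_eq, polar_smul_left, smul_eq_mul]

theorem smul_right (c : K) (x y : V) : polar Q x (c • y) = Algebra.trace F K (c * polar QK x y) := by
  rw [h.polar_eq, polar_smul_right, smul_eq_mul]

theorem sing {v : V} (hv : QK v = 0) : Q v = 0 := by rw [h.tr, hv, map_zero]

theorem perp_of {x y : V} (hxy : polar QK x y = 0) : polar Q x y = 0 := by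
  rw [h.polar_eq, hxy, map_zero]

theorem polarK_eq_zero [Finite K] {x y : V} (hxy : ∀ c : K, polar Q (c • x) y = 0) :
    polar QK x y = 0 :=
  trace_ext (F := F) fun c => by rw [← h.smul_left, hxy]

theorem nondegF [Finite K] : Nondeg Q := by
  intro x hx
  apply h.nondeg
  intro y
  rw [polar_comm]
  apply h.polarK_eq_zero
  intro c
  rw [polar_comm]
  exact hx _

theorem good [Finite K] [FiniteDimensional F V] (hd : 5 ≤ finrank F V) : Good Q := by
  have : Finite F := Finite.of_injective _ (algebraMap F K).injective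
  exact good_of_finite h.nondegF hd

end TF

/-- The group of semilinear transformations (over `F`). -/
def NK (F K V : Type*) [Field F] [Field K] [Algebra F K] [AddCommGroup V] [Module F V] [Module K V] :
    Subgroup (V ≃ₗ[F] V) where
  carrier := {g | ∃ σ : K ≃+* K, ∀ (c : K) (v : V), g (c • v) = σ c • g v}
  mul_mem' := by
    rintro g g' ⟨σ, hσ⟩ ⟨σ', hσ'⟩
    refine ⟨σ'.trans σ, fun c v => ?_⟩
    rw [LinearEquiv.mul_apply, LinearEquiv.mul_apply, hσ', hσ]
    rfl
  one_mem' := ⟨RingEquiv.refl K, fun c v => rfl⟩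
  inv_mem' := by
    rintro g ⟨σ, hσ⟩
    refine ⟨σ.symm, fun c v => ?_⟩
    apply g.injective
    rw [hσ, RingEquiv.apply_symm_apply]
    change g (g.symm (c • v)) = c • g (g.symm v)
    rw [LinearEquiv.apply_symm_apply, LinearEquiv.apply_symm_apply]

theorem mem_NK {g : V ≃ₗ[F] V} :
    g ∈ NK F K V ↔ ∃ σ : K ≃+* K, ∀ (c : K) (v : V), g (c • v) = σ c • g v := Iff.rfl

/-- `K`-linear transformations. -/
theorem mem_NK_of_linear {g : V ≃ₗ[F] V} (hg : ∀ (c : K) (v : V), g (c • v) = c • g v) :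
    g ∈ NK F K V := ⟨RingEquiv.refl K, hg⟩

/-- Semilinear maps fix `F`. -/
theorem sigma_algebraMap [Nontrivial V] {g : V ≃ₗ[F] V} {σ : K ≃+* K}
    (hσ : ∀ (c : K) (v : V), g (c • v) = σ c • g v) (a : F) :
    σ (algebraMap F K a) = algebraMap F K a := by
  obtain ⟨v, hv⟩ := exists_ne (0 : V)
  have h1 := hσ (algebraMap F K a) v
  rw [algebraMap_smul, map_smul, ← algebraMap_smul K a (g v), ← sub_eq_zero, ← sub_smul] at h1
  rcases smul_eq_zero.1 h1 with h2 | h2
  · exact (sub_eq_zero.1 h2).symm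
  · exact absurd (g.map_eq_zero_iff.1 h2) hv

/-- The `F`-algebra automorphism attached to a semilinear map. -/
def toAlgEquiv [Nontrivial V] {g : V ≃ₗ[F] V} {σ : K ≃+* K}
    (hσ : ∀ (c : K) (v : V), g (c • v) = σ c • g v) : K ≃ₐ[F] K :=
  AlgEquiv.ofRingEquiv (f := σ) (sigma_algebraMap hσ)

theorem trace_sigma [Nontrivial V] {g : V ≃ₗ[F] V} {σ : K ≃+* K}
    (hσ : ∀ (c : K) (v : V), g (c • v) = σ c • g v) (a : K) :
    Algebra.trace F K (σ a) = Algebra.trace F K a :=
  Algebra.trace_eq_of_algEquiv (toAlgEquiv hσ) a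

theorem TF.polar_sigma [Finite K] [Nontrivial V] (h : TF Q QK) {g : V ≃ₗ[F] V} (hg : g ∈ O Q)
    {σ : K ≃+* K} (hσ : ∀ (c : K) (v : V), g (c • v) = σ c • g v) (x y : V) :
    polar QK (g x) (g y) = σ (polar QK x y) := by
  apply trace_ext' (F := F)
  intro c
  obtain ⟨c, rfl⟩ := σ.surjective c
  rw [← h.smul_left, ← hσ, polar_map hg, h.smul_left, ← map_mul, trace_sigma hσ]

theorem TF.quad_sigma [Finite K] [Nontrivial V] (h : TF Q QK) {g : V ≃ₗ[F] V} (hg : g ∈ O Q)
    {σ : K ≃+* K} (hσ : ∀ (c : K) (v : V), g (c • v) = σ c • g v) (x : V) :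
    QK (g x) = σ (QK x) := by
  have h1 := h.polar_sigma hg hσ x x
  rw [polar_self', polar_self', map_mul] at h1
  have h2 : σ (2 : K) = 2 := map_ofNat σ 2
  rw [h2] at h1
  exact mul_left_cancel₀ h.two h1

/-! ### `K`-isometries -/

theorem TF.restrict_mem_O (h : TF Q QK) {g : V ≃ₗ[K] V} (hg : g ∈ O QK) :
    g.restrictScalars F ∈ O Q := by
  intro v
  change Q (g v) = Q v
  rw [h.tr, h.tr, hg]

/-- Squares of isometries are in `E Q`. -/
theorem sq_mem_E [FiniteDimensional F V] (hG : Good Q) {g : V ≃ₗ[F] V} (hg : g ∈ O Q) :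
    g * g ∈ E Q := by
  have hcomm : ∀ a ∈ O Q, ∀ b ∈ O Q, a * b * a⁻¹ * b⁻¹ ∈ E Q := fun a ha b hb =>
    hG.commutator_le_E (Subgroup.commutator_mem_commutator ha hb)
  have hmul : ∀ a ∈ O Q, ∀ b ∈ O Q, a * a ∈ E Q → b * b ∈ E Q → (a * b) * (a * b) ∈ E Q := by
    intro a ha b hb h1 h2
    have e : (a * b) * (a * b) =
        (a * (b * a * b⁻¹ * a⁻¹) * a⁻¹) * (a * a) * (b * b) := by group
    rw [e]
    refine (E Q).mul_mem ((E Q).mul_mem ?_ h1) h2
    exact conj_mem_E ha (hcomm b hb a ha)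
  rw [O_eq_closure hG.nondeg] at hg
  have key : g ∈ O Q ∧ g * g ∈ E Q := by
    induction hg using Subgroup.closure_induction with
    | mem x hx =>
      rcases hx with ⟨v, hv, rfl⟩ | ⟨u, w, hu, hw, rfl⟩
      · exact ⟨refl_mem_O hv, by rw [refl_mul_self]; exact (E Q).one_mem⟩
      · exact ⟨siegel_mem_O hu hw, (E Q).mul_mem (siegel_mem_E hu hw) (siegel_mem_E hu hw)⟩
    | one => exact ⟨(O Q).one_mem, by rw [one_mul]; exact (E Q).one_mem⟩
    | mul x y _ _ hx hy => exact ⟨(O Q).mul_mem hx.1 hy.1, hmul x hx.1 y hy.1 hx.2 hy.2⟩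
    | inv x _ hx =>
      refine ⟨(O Q).inv_mem hx.1, ?_⟩
      rw [← mul_inv_rev]
      exact (E Q).inv_mem hx.2
  exact key.2

/-- Isometries of odd order are in `E Q`. -/
theorem mem_E_of_odd [FiniteDimensional F V] (hG : Good Q) {g : V ≃ₗ[F] V} (hg : g ∈ O Q) {n : ℕ}
    (hn : Odd n) (hgn : g ^ n = 1) : g ∈ E Q := by
  obtain ⟨k, rfl⟩ := hn
  have e : g = (g ^ (k + 1)) * (g ^ (k + 1)) := by
    rw [← pow_add, show k + 1 + (k + 1) = (2 * k + 1) + 1 by ring, pow_succ, hgn, one_mul]
  rw [e]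
  exact sq_mem_E hG ((O Q).pow_mem hg _)

/-- Unipotent isometries `u` with `(u - 1)³ = 0` are in `E Q` (odd characteristic). -/
theorem mem_E_of_unip [Finite F] [FiniteDimensional F V] (hG : Good Q) (h2 : (2 : F) ≠ 0)
    {g : V ≃ₗ[F] V} (hg : g ∈ O Q)
    (hu : ∀ v, g (g (g v)) - (3 : F) • g (g v) + (3 : F) • g v - v = 0) : g ∈ E Q := by
  obtain ⟨p, hp⟩ := CharP.exists F
  have hpp : p.Prime := (CharP.char_is_prime_or_zero F p).resolve_right (by
    rintro rfl
    have : CharZero F := CharP.charP_to_charZero F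
    exact not_finite F)
  have hp2 : p ≠ 2 := by
    rintro rfl
    exact h2 (CharTwo.two_eq_zero)
  have hodd : Odd p := hpp.odd_of_ne_two hp2
  have : Fact p.Prime := ⟨hpp⟩
  let N : Module.End F V := g.toLinearMap - 1
  have hN3 : N ^ 3 = 0 := by
    ext v
    have := hu v
    simp only [N, pow_succ, pow_zero, one_mul, Module.End.mul_apply, LinearMap.sub_apply,
      LinearEquiv.coe_coe, Module.End.one_apply, map_sub, LinearMap.zero_apply]
    rw [← this]
    module
  have hNp : N ^ (p ^ 2) = 0 := by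
    have h3 : 3 ≤ p ^ 2 := by
      have := hpp.two_le
      nlinarith
    obtain ⟨k, hk⟩ := Nat.exists_eq_add_of_le h3
    rw [hk, pow_add, hN3, zero_mul]
  have hchar : CharP (Module.End F V) p := by
    have : Nontrivial V := by
      obtain ⟨x, hx, -⟩ := hG.sing
      exact ⟨⟨x, 0, hx⟩⟩
    exact charP_of_injective_algebraMap (algebraMap F (Module.End F V)).injective p
  have h1 : (g.toLinearMap : Module.End F V) = 1 + N := by simp [N]
  have h3 : (g.toLinearMap : Module.End F V) ^ (p ^ 2) = 1 := by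
    rw [h1, add_pow_char_pow_of_commute p 2 (Commute.one_left N), hNp, one_pow, add_zero]
  refine mem_E_of_odd hG hg (hodd.pow (n := 2)) ?_
  have h4 : ((g ^ (p ^ 2) : V ≃ₗ[F] V).toLinearMap : Module.End F V) = 1 := by
    rw [← h3]
    clear * -
    induction p ^ 2 with
    | zero => rfl
    | succ n ih =>
      rw [pow_succ, pow_succ, ← ih]
      rfl
  ext v
  exact LinearMap.congr_fun h4 v

end Cfsg.Agent.H884.Ext
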