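import Mathlib
import Cfsg.Agent.H884.Ext1

/-!
# Extension fields in orthogonal groups: stabilisers of singular points (helper884)
-/

set_option autoImplicit false
set_option linter.unusedSectionVars false

namespace Cfsg.Agent.H884.Ext

open QuadraticMap Cfsg.Agent.LieClassical.OrthCore Cfsg.Agent.LieClassical.OrthTrans
  Cfsg.Agent.LieClassical.OrthSimple Cfsg.Agent.LieClassical.OrthFinite Cfsg.Agent.H883.Root
  Cfsg.Agent.H883.Sub Module

variable {F K V : Type*} [Field F] [Field K] [Algebra F K] [AddCommGroup V] [Module F V] [Module K V]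
  [IsScalarTower F K V] {Q : QuadraticForm F V} {QK : QuadraticForm K V}

/-- The `K`-Siegel transformation as an `F`-linear map. -/
def rho (F : Type*) {K V : Type*} [Field F] [Field K] [Algebra F K] [AddCommGroup V] [Module F V]
    [Module K V] [IsScalarTower F K V] (QK : QuadraticForm K V) (v y : V) (hv : QK v = 0)
    (hy : polar QK v y = 0) : V ≃ₗ[F] V :=
  (siegel QK v y hv hy).restrictScalars F

theorem rho_apply {v y : V} (hv : QK v = 0) (hy : polar QK v y = 0) (x : V) :
    rho F QK v y hv hy x =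
      x + polar QK v x • y - polar QK y x • v - (QK y * polar QK v x) • v :=
  siegel_apply hv hy x

theorem rho_mul {v y y' : V} (hv : QK v = 0) (hy : polar QK v y = 0) (hy' : polar QK v y' = 0)
    (h : polar QK v (y + y') = 0) :
    rho F QK v y hv hy * rho F QK v y' hv hy' = rho F QK v (y + y') hv h := by
  ext x
  exact siegelLin_comp hv hy hy' x

theorem rho_inv {v y : V} (hv : QK v = 0) (hy : polar QK v y = 0) (hy' : polar QK v (-y) = 0) :
    (rho F QK v y hv hy)⁻¹ = rho F QK v (-y) hv hy' := by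
  rw [inv_eq_iff_mul_eq_one, rho_mul hv hy hy' (by rw [add_neg_cancel, polar_zero_right])]
  ext x
  rw [rho_apply]
  simp

theorem rho_smul {v y : V} (hv : QK v = 0) (hy : polar QK v y = 0) (c : K) (x : V) :
    rho F QK v y hv hy (c • x) = c • rho F QK v y hv hy x :=
  (siegel QK v y hv hy).map_smul c x

theorem rho_perp {v y x : V} (hv : QK v = 0) (hy : polar QK v y = 0) (hx : polar QK v x = 0) :
    rho F QK v y hv hy x = x - polar QK y x • v := by
  rw [rho_apply, hx]
  simp

theorem rho_self {v y : V} (hv : QK v = 0) (hy : polar QK v y = 0) (c : K) :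
    rho F QK v y hv hy (c • v) = c • v := by
  rw [rho_perp hv hy (by rw [polar_smul_right, polar_self_of_sing hv, smul_zero]), polar_smul_right,
    polar_comm QK y v, hy]
  simp

theorem rho_mem_NK {v y : V} (hv : QK v = 0) (hy : polar QK v y = 0) :
    rho F QK v y hv hy ∈ NK F K V := mem_NK_of_linear (rho_smul hv hy)

theorem TF.rho_mem_O (h : TF Q QK) {v y : V} (hv : QK v = 0) (hy : polar QK v y = 0) :
    rho F QK v y hv hy ∈ O Q := h.restrict_mem_O (siegel_mem_O hv hy)

theorem TF.rho_mem_E [FiniteDimensional F V] (h : TF Q QK) (hG : Good Q) {v y : V} (hv : QK v = 0)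
    (hy : polar QK v y = 0) : rho F QK v y hv hy ∈ E Q := by
  have hy2 : polar QK v ((2 : K)⁻¹ • y) = 0 := by rw [polar_smul_right, hy, smul_zero]
  have e : (2 : K)⁻¹ • y + (2 : K)⁻¹ • y = y := by
    rw [← two_smul K ((2 : K)⁻¹ • y), smul_smul, mul_inv_cancel₀ h.two, one_smul]
  have e2 : rho F QK v y hv hy =
      rho F QK v ((2 : K)⁻¹ • y) hv hy2 * rho F QK v ((2 : K)⁻¹ • y) hv hy2 := by
    rw [rho_mul hv hy2 hy2 (by rw [e]; exact hy)]
    congr 1
    exact e.symm
  rw [e2]
  exact sq_mem_E hG (h.rho_mem_O hv hy2)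

theorem TF.restrict_mem_E [FiniteDimensional F V] (h : TF Q QK) (hG : Good Q) {g : V ≃ₗ[K] V}
    (hg : g ∈ E QK) : g.restrictScalars F ∈ E Q := by
  induction hg using Subgroup.closure_induction with
  | mem x hx =>
    obtain ⟨u, w, hu, hw, rfl⟩ := hx
    exact h.rho_mem_E hG hu hw
  | one => exact (E Q).one_mem
  | mul x y _ _ hx hy => exact (E Q).mul_mem hx hy
  | inv x _ hx => exact (E Q).inv_mem hx

/-- `X` is an overgroup in `E Q` of the normaliser of `K`. -/
structure Over (Q : QuadraticForm F V) (K : Type*) [Field K] [Algebra F K] [Module K V]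
    (X : Subgroup (V ≃ₗ[F] V)) : Prop where
  le : X ≤ E Q
  ge : ∀ g ∈ E Q, g ∈ NK F K V → g ∈ X

/-- Two nonzero singular vectors have a common opposite. -/
theorem exists_opp (h : TF Q QK) (hm : 3 ≤ finrank K V) {v v' : V} (hv : QK v = 0)
    (hv' : QK v' = 0) (h0 : v ≠ 0) (h0' : v' ≠ 0) :
    ∃ u, QK u = 0 ∧ polar QK u v ≠ 0 ∧ polar QK u v' ≠ 0 := by
  by_cases hp : polar QK v v' = 0
  · obtain ⟨z, hz, hz'⟩ : ∃ z, polar QK z v ≠ 0 ∧ polar QK z v' ≠ 0 := by
      obtain ⟨z1, h1⟩ := h.nondeg.exists_polar_ne h0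
      obtain ⟨z2, h2⟩ := h.nondeg.exists_polar_ne h0'
      rw [polar_comm] at h1 h2
      by_cases h3 : polar QK z1 v' = 0
      · by_cases h4 : polar QK z2 v = 0
        · exact ⟨z1 + z2, by rw [polar_add_left, h4, add_zero]; exact h1,
            by rw [polar_add_left, h3, zero_add]; exact h2⟩
        · exact ⟨z2, h4, h2⟩
      · exact ⟨z1, h1, h3⟩
    refine ⟨z + (-(QK z * (polar QK z v)⁻¹)) • v, ?_, ?_, ?_⟩
    · rw [Q_add, QuadraticMap.map_smul, hv, polar_smul_right]
      simp only [smul_eq_mul, mul_zero, add_zero]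
      field_simp
      ring
    · rw [polar_add_left, polar_smul_left, polar_self_of_sing hv, smul_zero, add_zero]
      exact hz
    · rw [polar_add_left, polar_smul_left, hp, smul_zero, add_zero]
      exact hz'
  · obtain ⟨y, hy, hyv, hyv'⟩ : ∃ y, QK y ≠ 0 ∧ polar QK v y = 0 ∧ polar QK v' y = 0 := by
      have hH : Hyp QK v ((polar QK v v')⁻¹ • v') :=
        ⟨hv, by rw [QuadraticMap.map_smul, hv', smul_zero],
          by rw [polar_smul_right, smul_eq_mul, inv_mul_cancel₀ hp]⟩
      obtain ⟨a, c, h1, h2, h3, h4, h5⟩ := exists_perp2 h.nondeg hm hH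
      have h2' : polar QK v' a = 0 := by
        rw [polar_smul_left, smul_eq_mul] at h2
        exact (mul_eq_zero.1 h2).resolve_left (inv_ne_zero hp)
      have h4' : polar QK v' c = 0 := by
        rw [polar_smul_left, smul_eq_mul] at h4
        exact (mul_eq_zero.1 h4).resolve_left (inv_ne_zero hp)
      rcases exists_nonsing h5 with h6 | h6 | h6
      · exact ⟨a, h6, h1, h2'⟩
      · exact ⟨c, h6, h3, h4'⟩
      · exact ⟨a + c, h6, by rw [polar_add_right, h1, h3, add_zero],
          by rw [polar_add_right, h2', h4', add_zero]⟩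
    refine ⟨v + y + (-(QK y * (polar QK v v')⁻¹)) • v', ?_, ?_, ?_⟩
    · rw [Q_add, Q_add, QuadraticMap.map_smul, hv, hv', polar_smul_right, polar_add_left, hyv,
        polar_comm QK y v', hyv']
      simp only [smul_eq_mul, mul_zero, add_zero, zero_add]
      field_simp
      ring
    · rw [polar_add_left, polar_add_left, polar_smul_left, polar_self_of_sing hv, polar_comm QK y v,
        hyv, polar_comm QK v' v, smul_eq_mul, neg_mul, mul_assoc, inv_mul_cancel₀ hp]
      simpa using hy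
    · rw [polar_add_left, polar_add_left, polar_smul_left, polar_self_of_sing hv', polar_comm QK y v',
        hyv']
      simpa using hp

/-- `E QK` is transitive on singular points. -/
theorem exists_trans (h : TF Q QK) (hm : 3 ≤ finrank K V) {v v' : V} (hv : QK v = 0)
    (hv' : QK v' = 0) (h0 : v ≠ 0) (h0' : v' ≠ 0) :
    ∃ g ∈ E QK, ∃ a : K, a ≠ 0 ∧ g v = a • v' := by
  obtain ⟨u, hu, h1, h2⟩ := exists_opp h hm hv hv' h0 h0'
  have hH : Hyp QK u ((polar QK u v)⁻¹ • v) :=
    ⟨hu, by rw [QuadraticMap.map_smul, hv, smul_zero],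
      by rw [polar_smul_right, smul_eq_mul, inv_mul_cancel₀ h1]⟩
  have hH' : Hyp QK u ((polar QK u v')⁻¹ • v') :=
    ⟨hu, by rw [QuadraticMap.map_smul, hv', smul_zero],
      by rw [polar_smul_right, smul_eq_mul, inv_mul_cancel₀ h2]⟩
  obtain ⟨g, hg, -, hg'⟩ := siegel_partner hH hH'
  refine ⟨g, hg, polar QK u v * (polar QK u v')⁻¹, mul_ne_zero h1 (inv_ne_zero h2), ?_⟩
  rw [map_smul] at hg'
  rw [mul_smul, ← hg', smul_smul, mul_inv_cancel₀ h1, one_smul]

theorem Over.exists_trans [FiniteDimensional F V] {X : Subgroup (V ≃ₗ[F] V)} (hX : Over Q K X)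
    (h : TF Q QK) (hG : Good Q) (hm : 3 ≤ finrank K V) {v v' : V} (hv : QK v = 0)
    (hv' : QK v' = 0) (h0 : v ≠ 0) (h0' : v' ≠ 0) :
    ∃ g ∈ X, (∀ (c : K) (x : V), g (c • x) = c • g x) ∧ ∃ a : K, a ≠ 0 ∧ g v = a • v' := by
  obtain ⟨g, hg, a, ha, hga⟩ := Ext.exists_trans h hm hv hv' h0 h0'
  exact ⟨g.restrictScalars F, hX.ge _ (h.restrict_mem_E hG hg)
    (mem_NK_of_linear fun c x => g.map_smul c x), fun c x => g.map_smul c x, a, ha, hga⟩

theorem Over.rho_mem [FiniteDimensional F V] {X : Subgroup (V ≃ₗ[F] V)} (hX : Over Q K X)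
    (h : TF Q QK) (hG : Good Q) {v y : V} (hv : QK v = 0) (hy : polar QK v y = 0) :
    rho F QK v y hv hy ∈ X := hX.ge _ (h.rho_mem_E hG hv hy) (rho_mem_NK hv hy)

/-! ### Transformations attached to skew maps of `K` -/

/-- A vector orthogonal to `v^⊥` is a multiple of `v`. -/
theorem eq_smul_of_perp (h : TF Q QK) {v v' w : V} (hH : Hyp QK v v')
    (hw : ∀ z, polar QK v z = 0 → polar QK w z = 0) : w = polar QK v' w • v := by
  rw [← sub_eq_zero]
  apply h.nondeg
  intro y
  have h1 : polar QK v (y - polar QK v y • v') = 0 := by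
    rw [polar_sub_right, polar_smul_right, hH.pair, smul_eq_mul, mul_one, sub_self]
  have h2 := hw _ h1
  rw [polar_sub_right, polar_smul_right, sub_eq_zero] at h2
  rw [polar_sub_left, polar_smul_left, h2, polar_comm QK w v', smul_eq_mul, smul_eq_mul]
  ring

/-- An isometry fixing `v^⊥` pointwise. -/
theorem exists_beta [Finite K] (h : TF Q QK) {v v' : V} (hH : Hyp QK v v') {g : V ≃ₗ[F] V}
    (hg : g ∈ O Q) (hfix : ∀ x, polar QK v x = 0 → g x = x) :
    ∃ β : K →ₗ[F] K, ∀ x, g x = x + β (polar QK v x) • v := by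
  have h1 : ∀ x, g x - x = polar QK v' (g x - x) • v := by
    intro x
    apply eq_smul_of_perp h hH
    intro z hz
    apply h.polarK_eq_zero
    intro c
    have hz' : polar QK v (c • z) = 0 := by rw [polar_smul_right, hz, smul_zero]
    have e : polar Q (c • (g x - x)) z = polar Q (g x - x) (c • z) := by
      rw [h.smul_left, h.smul_right]
    rw [e, polar_sub_left]
    nth_rewrite 1 [← hfix _ hz']
    rw [polar_map hg, sub_self]
  let T : K →ₗ[F] V := (LinearMap.toSpanSingleton K V v').restrictScalars F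
  let P : V →ₗ[F] K := (polarBilin QK v').restrictScalars F
  refine ⟨P ∘ₗ (g.toLinearMap - LinearMap.id) ∘ₗ T, fun x => ?_⟩
  have h2 : g x - x = g (polar QK v x • v') - polar QK v x • v' := by
    have h3 : polar QK v (x - polar QK v x • v') = 0 := by
      rw [polar_sub_right, polar_smul_right, hH.pair, smul_eq_mul, mul_one, sub_self]
    have h4 := hfix _ h3
    rw [map_sub] at h4
    rw [sub_eq_sub_iff_sub_eq_sub]
    exact h4
  have h5 : (P ∘ₗ (g.toLinearMap - LinearMap.id) ∘ₗ T) (polar QK v x) =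
      polar QK v' (g (polar QK v x • v') - polar QK v x • v') := rfl
  rw [h5, ← h1, ← h2]
  abel

/-- Trivial on `Kv`, on `v^⊥ / Kv`. -/
structure Uni (QK : QuadraticForm K V) (v : V) (q : V ≃ₗ[F] V) : Prop where
  fix : ∀ c : K, q (c • v) = c • v
  perp : ∀ x, polar QK v x = 0 → ∃ c : K, q x = x + c • v

theorem Uni.polar_eq [Finite K] (h : TF Q QK) {v : V} {q : V ≃ₗ[F] V} (hq : Uni QK v q)
    (hO : q ∈ O Q) (x : V) : polar QK v (q x) = polar QK v x := by
  apply trace_ext' (F := F)
  intro c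
  rw [← h.smul_left, ← h.smul_left]
  nth_rewrite 1 [← hq.fix c]
  exact polar_map hO _ _

theorem Uni.inv {v : V} {q : V ≃ₗ[F] V} (hq : Uni QK v q) : Uni QK v q⁻¹ := by
  have h1 : ∀ c : K, q⁻¹ (c • v) = c • v := by
    intro c
    apply q.injective
    rw [hq.fix]
    exact q.apply_symm_apply _
  refine ⟨h1, fun x hx => ?_⟩
  obtain ⟨c, hc⟩ := hq.perp x hx
  refine ⟨-c, ?_⟩
  apply q.injective
  rw [map_add, hq.fix, hc, neg_smul, add_neg_cancel_right]
  exact q.apply_symm_apply _

theorem Uni.mul {v : V} {q q' : V ≃ₗ[F] V} (hq : Uni QK v q) (hq' : Uni QK v q') :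
    Uni QK v (q * q') := by
  refine ⟨fun c => ?_, fun x hx => ?_⟩
  · rw [LinearEquiv.mul_apply, hq'.fix, hq.fix]
  · obtain ⟨c, hc⟩ := hq.perp x hx
    obtain ⟨c', hc'⟩ := hq'.perp x hx
    exact ⟨c + c', by rw [LinearEquiv.mul_apply, hc', map_add, hq.fix, hc, add_smul]; abel⟩

theorem uni_rho {v y : V} (hv : QK v = 0) (hy : polar QK v y = 0) :
    Uni QK v (rho F QK v y hv hy) :=
  ⟨rho_self hv hy, fun x hx => ⟨-polar QK y x, by rw [rho_perp hv hy hx, neg_smul]; abel⟩⟩

/-- The hypothesis `B = 1`. -/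
def Triv (QK : QuadraticForm K V) (X : Subgroup (V ≃ₗ[F] V)) (v : V) : Prop :=
  ∀ β : K →ₗ[F] K, (∃ g ∈ X, ∀ x, g x = x + β (polar QK v x) • v) → β = 0

theorem Triv.eq_one [Finite K] (h : TF Q QK) {X : Subgroup (V ≃ₗ[F] V)} (hXO : X ≤ O Q) {v v' : V}
    (hH : Hyp QK v v') (hT : Triv QK X v) {g : V ≃ₗ[F] V} (hg : g ∈ X)
    (hfix : ∀ x, polar QK v x = 0 → g x = x) : g = 1 := by
  obtain ⟨β, hβ⟩ := exists_beta h hH (hXO hg) hfix
  have h0 := hT β ⟨g, hg, hβ⟩
  ext x
  rw [hβ, h0]
  simp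

/-- Elements of `X` in the unipotent radical commute with the `K`-Siegel transformations. -/
theorem Triv.commute [Finite K] [FiniteDimensional F V] (h : TF Q QK) (hG : Good Q)
    {X : Subgroup (V ≃ₗ[F] V)} (hX : Over Q K X) {v v' : V} (hH : Hyp QK v v')
    (hT : Triv QK X v) {q : V ≃ₗ[F] V} (hq : q ∈ X) (hU : Uni QK v q) {y : V}
    (hy : polar QK v y = 0) (x : V) :
    q (rho F QK v y hH.left hy x) = rho F QK v y hH.left hy (q x) := by
  have hXO : X ≤ O Q := fun g hg => E_le_O (hX.le hg)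
  set ρ := rho F QK v y hH.left hy with hρ
  have hρX : ρ ∈ X := hX.rho_mem h hG hH.left hy
  have hρU : Uni QK v ρ := uni_rho hH.left hy
  have h1 : q * ρ * q⁻¹ * ρ⁻¹ = 1 := by
    apply hT.eq_one h hXO hH
    · exact X.mul_mem (X.mul_mem (X.mul_mem hq hρX) (X.inv_mem hq)) (X.inv_mem hρX)
    · intro x hx
      obtain ⟨c, hc⟩ := hU.inv.perp x hx
      obtain ⟨d, hd⟩ := hρU.inv.perp x hx
      have h2 : q (x + c • v) = x := by
        rw [← hc]; exact q.apply_symm_apply _
      have h3 : ρ (x + d • v) = x := by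
        rw [← hd]; exact ρ.apply_symm_apply _
      rw [map_add, hρU.fix] at h3
      have h4 : ρ (x + c • v + d • v) = x + c • v := by
        rw [map_add, map_add, hρU.fix, hρU.fix, add_right_comm, h3]
      rw [LinearEquiv.mul_apply, LinearEquiv.mul_apply, LinearEquiv.mul_apply, hd, map_add, hc,
        hU.inv.fix, h4, h2]
  have h5 : q * ρ = ρ * q := by
    have : q * ρ = (q * ρ * q⁻¹ * ρ⁻¹) * (ρ * q) := by group
    rw [this, h1, one_mul]
  exact LinearEquiv.congr_fun h5 x

/-- Elements of `X` in the unipotent radical are `K`-Siegel transformations. -/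
theorem Triv.exists_rho [Finite K] [FiniteDimensional F V] (h : TF Q QK) (hG : Good Q)
    {X : Subgroup (V ≃ₗ[F] V)} (hX : Over Q K X) {v v' : V} (hH : Hyp QK v v')
    (hT : Triv QK X v) {q : V ≃ₗ[F] V} (hq : q ∈ X) (hU : Uni QK v q) :
    ∃ (w : V) (hw : polar QK v w = 0), polar QK v' w = 0 ∧ q = rho F QK v w hH.left hw := by
  have hXO : X ≤ O Q := fun g hg => E_le_O (hX.le hg)
  set w0 := q v' - v' with hw0
  have h1 : polar QK v w0 = 0 := by
    rw [hw0, polar_sub_right, hU.polar_eq h (hXO hq), sub_self]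
  set w := w0 - polar QK v' w0 • v with hw
  have h2 : polar QK v w = 0 := by
    rw [hw, polar_sub_right, polar_smul_right, h1, polar_self_of_sing hH.left, smul_zero, sub_zero]
  have h3 : polar QK v' w = 0 := by
    rw [hw, polar_sub_right, polar_smul_right, hH.pair', smul_eq_mul, mul_one, sub_self]
  refine ⟨w, h2, h3, ?_⟩
  set ρ := rho F QK v w hH.left h2 with hρ
  have hρX : ρ ∈ X := hX.rho_mem h hG hH.left h2
  have hρU : Uni QK v ρ := uni_rho hH.left h2
  -- `q' = ρ⁻¹ q`
  have hq'X : ρ⁻¹ * q ∈ X := X.mul_mem (X.inv_mem hρX) hq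
  have hq'U : Uni QK v (ρ⁻¹ * q) := hρU.inv.mul hU
  have hρv' : ρ v' = v' + w - QK w • v := by
    rw [hρ, rho_apply, hH.pair, polar_comm QK w v', h3]
    simp
  have hqv' : q v' = v' + w + polar QK v' w0 • v := by
    rw [hw, hw0]; abel
  have hv' : (ρ⁻¹ * q) v' = v' + (polar QK v' w0 + QK w) • v := by
    apply ρ.injective
    rw [map_add, hρU.fix, hρv']
    have : ρ ((ρ⁻¹ * q) v') = q v' := ρ.apply_symm_apply _
    rw [this, hqv', add_smul]
    abel
  have hz : ∀ z, polar QK v z = 0 → polar QK v' z = 0 → (ρ⁻¹ * q) z = z := by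
    intro z hz hz'
    have h4 := hT.commute h hG hX hH hq'X hq'U hz v'
    have h5 : rho F QK v z hH.left hz v' = v' + z - QK z • v := by
      rw [rho_apply, hH.pair, polar_comm QK z v', hz']
      simp
    rw [hv', h5, map_sub, map_add, hv', map_add, h5, hq'U.fix, rho_self] at h4
    have h6 : (ρ⁻¹ * q) z = (v' + (polar QK v' w0 + QK w) • v + (ρ⁻¹ * q) z - QK z • v) -
        (v' + (polar QK v' w0 + QK w) • v) + QK z • v := by abel
    rw [h6, h4]
    abel
  have hone : ρ⁻¹ * q = 1 := by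
    apply hT.eq_one h hXO hH hq'X
    intro x hx
    have h4 : x = polar QK v' x • v + (x - polar QK v' x • v) := by abel
    have h5 : (ρ⁻¹ * q) (x - polar QK v' x • v) = x - polar QK v' x • v := by
      apply hz
      · rw [polar_sub_right, polar_smul_right, hx, polar_self_of_sing hH.left, smul_zero, sub_zero]
      · rw [polar_sub_right, polar_smul_right, hH.pair', smul_eq_mul, mul_one, sub_self]
    rw [h4, map_add, hq'U.fix, h5]
  have : q = ρ * (ρ⁻¹ * q) := by group
  rw [this, hone, mul_one]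

end Cfsg.Agent.H884.Ext
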