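import Mathlib
import Cfsg.Agent.H884.Ext2

/-!
# Extension fields in orthogonal groups: the stabiliser of a singular point is semilinear (helper884)
-/

set_option autoImplicit false
set_option linter.unusedSectionVars false

namespace Cfsg.Agent.H884.Ext

open QuadraticMap Cfsg.Agent.LieClassical.OrthCore Cfsg.Agent.LieClassical.OrthTrans
  Cfsg.Agent.LieClassical.OrthSimple Cfsg.Agent.LieClassical.OrthFinite Cfsg.Agent.H883.Root
  Cfsg.Agent.H883.Sub Module

variable {F K V : Type*} [Field F] [Field K] [Algebra F K] [AddCommGroup V] [Module F V] [Module K V]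
  [IsScalarTower F K V] {Q : QuadraticForm F V} {QK : QuadraticForm K V}

theorem rho_sq {v y : V} (hv : QK v = 0) (hy : polar QK v y = 0) (x : V) :
    rho F QK v y hv hy (rho F QK v y hv hy x) - (2 : F) • rho F QK v y hv hy x + x =
      -((2 : K) • (QK y * polar QK v x) • v) := by
  have h1 : rho F QK v y hv hy (rho F QK v y hv hy x) =
      rho F QK v (y + y) hv (by rw [polar_add_right, hy, add_zero]) x := by
    rw [← rho_mul hv hy hy]; rfl
  have h2 : ∀ z : V, (2 : F) • z = z + z := fun z => two_smul F z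
  have h3 : ∀ z : V, (2 : K) • z = z + z := fun z => two_smul K z
  rw [h1, rho_apply, rho_apply, Q_add, polar_self', polar_add_left, h2, h3]
  module

/-- A map of `K` satisfying `∀ c, ∃ t, ∀ a, f (c ^ 2 * a) = t * f a` is semilinear. -/
theorem exists_sigma [Finite K] (h2 : (2 : K) ≠ 0) (f : K →ₗ[F] K) (hf : Function.Injective f)
    (hsq : ∀ c : K, ∃ t, ∀ a, f (c ^ 2 * a) = t * f a) :
    ∃ σ : K ≃ₐ[F] K, ∀ c a, f (c * a) = σ c * f a := by
  have hall : ∀ c : K, ∃ t, ∀ a, f (c * a) = t * f a := by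
    intro c
    obtain ⟨s, hs⟩ := hsq ((c + 1) / 2)
    obtain ⟨t, ht⟩ := hsq ((c - 1) / 2)
    refine ⟨s - t, fun a => ?_⟩
    have e : c * a = ((c + 1) / 2) ^ 2 * a - ((c - 1) / 2) ^ 2 * a := by
      field_simp
      ring
    rw [e, map_sub, hs, ht]
    ring
  have h1 : f 1 ≠ 0 := fun h0 => one_ne_zero (hf (h0.trans (map_zero f).symm))
  have hmul : ∀ c a, f (c * a) = f c * (f 1)⁻¹ * f a := by
    intro c a
    obtain ⟨t, ht⟩ := hall c
    have h3 := ht 1
    rw [mul_one] at h3
    rw [ht, h3, mul_assoc t, mul_inv_cancel₀ h1, mul_one]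
  let s : K →ₐ[F] K :=
    { toFun := fun c => f c * (f 1)⁻¹
      map_one' := mul_inv_cancel₀ h1
      map_mul' := fun c d => by rw [hmul]; ring
      map_zero' := by rw [map_zero, zero_mul]
      map_add' := fun c d => by rw [map_add, add_mul]
      commutes' := fun a => by
        have : (algebraMap F K) a = a • (1 : K) := Algebra.algebraMap_eq_smul_one a
        rw [this, map_smul, smul_mul_assoc, mul_inv_cancel₀ h1] }
  have hs : Function.Bijective s := by
    have hinj : Function.Injective s := s.toRingHom.injective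
    exact ⟨hinj, Finite.surjective_of_injective hinj⟩
  exact ⟨AlgEquiv.ofBijective s hs, hmul⟩

section Stab

variable [Finite K] [FiniteDimensional F V] {X : Subgroup (V ≃ₗ[F] V)} {v v' : V}

/-- The action on a point. -/
theorem exists_on_point (hv0 : v ≠ 0) {g : V ≃ₗ[F] V} (hg : ∀ c : K, ∃ c' : K, g (c • v) = c' • v) :
    ∃ f : K →ₗ[F] K, Function.Injective f ∧ ∀ c, g (c • v) = f c • v := by
  choose f hf using hg
  have hinj : ∀ {a b : K}, a • v = b • v → a = b := fun h => smul_left_injective K hv0 h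
  refine ⟨{ toFun := f, map_add' := fun a b => ?_, map_smul' := fun a b => ?_ }, ?_, hf⟩
  · apply hinj
    rw [← hf, add_smul, add_smul, map_add, hf, hf]
  · apply hinj
    rw [← hf, RingHom.id_apply, smul_assoc, smul_assoc, map_smul, hf]
  · intro a b hab
    have hab' : f a = f b := hab
    apply hinj
    apply g.injective
    rw [hf, hf, hab']

theorem inv_on_point {g : V ≃ₗ[F] V} {f : K →ₗ[F] K} (hf : Function.Injective f)
    (hg : ∀ c, g (c • v) = f c • v) : ∀ c : K, ∃ c' : K, g⁻¹ (c • v) = c' • v := by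
  intro c
  obtain ⟨d, rfl⟩ := Finite.surjective_of_injective hf c
  exact ⟨d, by rw [← hg]; exact g.symm_apply_apply _⟩

theorem perp_of_point (h : TF Q QK) {g : V ≃ₗ[F] V} (hgO : g ∈ O Q) {f : K →ₗ[F] K}
    (hf : Function.Injective f) (hg : ∀ c, g (c • v) = f c • v) {x : V} (hx : polar QK v x = 0) :
    polar QK v (g x) = 0 := by
  apply trace_ext (F := F)
  intro c
  obtain ⟨d, rfl⟩ := Finite.surjective_of_injective hf c
  rw [← h.smul_left, ← hg, polar_map hgO, h.smul_left, hx, mul_zero, map_zero]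

/-- Conjugation of Siegel transformations by the stabiliser of the point. -/
theorem Triv.conj_rho (h : TF Q QK) (hG : Good Q) (hX : Over Q K X) (hH : Hyp QK v v')
    (hT : Triv QK X v) {g : V ≃ₗ[F] V} (hgX : g ∈ X) (hg : ∀ c : K, ∃ c' : K, g (c • v) = c' • v)
    {y : V} (hy : polar QK v y = 0) :
    ∃ (w : V) (hw : polar QK v w = 0), polar QK v' w = 0 ∧
      ∀ x, g (rho F QK v y hH.left hy x) = rho F QK v w hH.left hw (g x) := by
  have hXO : X ≤ O Q := fun g hg => E_le_O (hX.le hg)
  obtain ⟨f, hf, hgf⟩ := exists_on_point hH.left_ne hg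
  have hgi := inv_on_point hf hgf
  obtain ⟨f', hf', hgf'⟩ := exists_on_point hH.left_ne hgi
  have hρX := hX.rho_mem h hG hH.left hy
  obtain ⟨w, hw, hw', e⟩ := hT.exists_rho h hG hX hH
    (q := g * rho F QK v y hH.left hy * g⁻¹) (X.mul_mem (X.mul_mem hgX hρX) (X.inv_mem hgX)) (by
      refine ⟨fun c => ?_, fun x hx => ?_⟩
      · obtain ⟨c', hc'⟩ := hgi c
        rw [LinearEquiv.mul_apply, LinearEquiv.mul_apply, hc', rho_self, ← hc']
        exact g.apply_symm_apply _
      · have h1 : polar QK v (g⁻¹ x) = 0 := perp_of_point h ((O Q).inv_mem (hXO hgX)) hf' hgf' hx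
        obtain ⟨c', hc'⟩ := hg (polar QK y (g⁻¹ x))
        refine ⟨-c', ?_⟩
        rw [LinearEquiv.mul_apply, LinearEquiv.mul_apply, rho_perp hH.left hy h1, map_sub, hc',
          neg_smul, ← sub_eq_add_neg]
        congr 1
        exact g.apply_symm_apply _)
  refine ⟨w, hw, hw', fun x => ?_⟩
  rw [← e, LinearEquiv.mul_apply, LinearEquiv.mul_apply]
  congr 2
  exact (g.symm_apply_apply x).symm

theorem exists_nonsing_perp (h : TF Q QK) (hm : 3 ≤ finrank K V) (hH : Hyp QK v v') :
    ∃ y, QK y ≠ 0 ∧ polar QK v y = 0 ∧ polar QK v' y = 0 := by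
  obtain ⟨a, c, h1, h2, h3, h4, h5⟩ := exists_perp2 h.nondeg hm hH
  rcases exists_nonsing h5 with h6 | h6 | h6
  · exact ⟨a, h6, h1, h2⟩
  · exact ⟨c, h6, h3, h4⟩
  · exact ⟨a + c, h6, by rw [polar_add_right, h1, h3, add_zero],
      by rw [polar_add_right, h2, h4, add_zero]⟩

/-- An element of `X` stabilising the point `Kv` is semilinear. -/
theorem Triv.stab_le (h : TF Q QK) (hG : Good Q) (hm : 3 ≤ finrank K V) (hX : Over Q K X)
    (hH : Hyp QK v v') (hT : Triv QK X v) {g : V ≃ₗ[F] V} (hgX : g ∈ X)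
    (hg : ∀ c : K, ∃ c' : K, g (c • v) = c' • v) : g ∈ NK F K V := by
  have hXO : X ≤ O Q := fun g hg => E_le_O (hX.le hg)
  have hv := hH.left
  have hv0 := hH.left_ne
  have hnt : Nontrivial V := ⟨⟨v, 0, hv0⟩⟩
  obtain ⟨f, hf, hgf⟩ := exists_on_point hv0 hg
  have hfs : Function.Surjective f := Finite.surjective_of_injective hf
  have hgi := inv_on_point hf hgf
  have hinj : ∀ {a b : K}, a • v = b • v → a = b := fun h => smul_left_injective K hv0 h
  have hperp : ∀ {x}, polar QK v x = 0 → polar QK v (g x) = 0 :=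
    fun hx => perp_of_point h (hXO hgX) hf hgf hx
  -- the action on `V / v^⊥`
  let k : K →ₗ[F] K := ((polarBilin QK v).restrictScalars F) ∘ₗ g.toLinearMap ∘ₗ
    ((LinearMap.toSpanSingleton K V v').restrictScalars F)
  have hk : ∀ a, k a = polar QK v (g (a • v')) := fun a => rfl
  -- star
  have hstar : ∀ y, polar QK v y = 0 → ∃ t : K, ∀ a, f (QK y * a) = t * k a := by
    intro y hy
    obtain ⟨w, hw, -, hconj⟩ := hT.conj_rho h hG hX hH hgX hg hy
    have key : ∀ x : V, f (QK y * polar QK v x) = QK w * polar QK v (g x) := by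
      intro x
      have h1 := congrArg g (rho_sq (F := F) hv hy x)
      have h2 := rho_sq (F := F) hv hw (g x)
      have h3 : ∀ z : V, (2 : K) • z = (2 : F) • z := by
        intro z
        rw [two_smul, two_smul]
      rw [h3, map_add, map_sub, map_smul, hconj, hconj, h2, map_neg, neg_inj, map_smul, hgf,
        ← h3] at h1
      exact (hinj (smul_right_injective V h.two h1)).symm
    refine ⟨QK w, fun a => ?_⟩
    have h1 := key (a • v')
    rw [polar_smul_right, hH.pair, smul_eq_mul, mul_one] at h1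
    exact h1
  obtain ⟨y0, hy0, hvy0, hvy0'⟩ := exists_nonsing_perp h hm hH
  obtain ⟨t0, ht0⟩ := hstar y0 hvy0
  have ht00 : t0 ≠ 0 := by
    rintro rfl
    have h1 := ht0 1
    rw [zero_mul, mul_one] at h1
    exact hy0 (hf (h1.trans (map_zero f).symm))
  obtain ⟨σ, hσ⟩ := exists_sigma h.two f hf (by
    intro c
    obtain ⟨t, ht⟩ := hstar (c • y0) (by rw [polar_smul_right, hvy0, smul_zero])
    refine ⟨t * t0⁻¹, fun a => ?_⟩
    have h1 := ht ((QK y0)⁻¹ * a)
    have h2 := ht0 ((QK y0)⁻¹ * a)
    rw [QuadraticMap.map_smul, smul_eq_mul] at h1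
    rw [← mul_assoc, mul_inv_cancel₀ hy0, one_mul] at h2
    have e : c * c * QK y0 * ((QK y0)⁻¹ * a) = c ^ 2 * a := by
      field_simp
    rw [e] at h1
    rw [h1, h2]
    field_simp)
  have hkσ : ∀ c a, k (c * a) = σ c * k a := by
    intro c a
    apply mul_left_cancel₀ ht00
    rw [← ht0, mul_left_comm, hσ, ht0]
    ring
  set μ := f 1 with hμ
  set κ := k 1 with hκ
  have hfμ : ∀ c, f c = σ c * μ := fun c => by rw [hμ, ← hσ, mul_one]
  have hkκ : ∀ c, k c = σ c * κ := fun c => by rw [hκ, ← hkσ, mul_one]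
  have htrσ : ∀ c, Algebra.trace F K (σ c) = Algebra.trace F K c :=
    fun c => Algebra.trace_eq_of_algEquiv σ c
  have hμκ : μ * κ = 1 := by
    apply trace_ext' (F := F)
    intro c
    obtain ⟨c, rfl⟩ := σ.surjective c
    have h1 : polar Q (g v) (g (c • v')) = polar Q v (c • v') := polar_map (hXO hgX) _ _
    have h2 : g v = μ • v := by
      have := hgf 1
      rwa [one_smul] at this
    rw [h2, h.smul_left, ← hk, hkκ, h.smul_right, hH.pair, mul_one] at h1
    rw [mul_one (σ c), htrσ, ← h1]
    congr 1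
    ring
  -- semilinearity modulo `Kv`
  have hmod : ∀ z, polar QK v z = 0 → ∀ c : K, ∃ d : K, g (c • z) = σ c • g z + d • v := by
    intro z hz c
    have hcz : polar QK v (c • z) = 0 := by rw [polar_smul_right, hz, smul_zero]
    refine ⟨polar QK v' (g (c • z) - σ c • g z), ?_⟩
    rw [← eq_smul_of_perp h hH (w := g (c • z) - σ c • g z), add_sub_cancel]
    intro w hw
    obtain ⟨y, hy, -, hconj⟩ := hT.conj_rho h hG hX hH (X.inv_mem hgX) hgi hw
    -- `g ρ_y = ρ_w g`
    have hconj' : ∀ x, g (rho F QK v y hv hy x) = rho F QK v w hv hw (g x) := by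
      intro x
      have h1 := hconj (g x)
      have h2 : g⁻¹ (g x) = x := g.symm_apply_apply x
      rw [h2] at h1
      rw [← h1]
      exact g.apply_symm_apply _
    have h3 : ∀ x, polar QK v x = 0 → f (polar QK y x) = polar QK w (g x) := by
      intro x hx
      have h4 := hconj' x
      rw [rho_perp hv hy hx, rho_perp hv hw (hperp hx), map_sub, hgf] at h4
      exact hinj (sub_right_injective h4)
    rw [polar_comm, polar_sub_right, polar_smul_right, ← h3 _ hcz, ← h3 _ hz, polar_smul_right,
      smul_eq_mul, hσ, smul_eq_mul, sub_self]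
  -- the semilinear isometry
  let pL : V →ₗ[F] V := LinearMap.id
    - ((polarBilin QK v').smulRight v).restrictScalars F
    - ((polarBilin QK v).smulRight v').restrictScalars F
  have hpL : ∀ x, pL x = x - polar QK v' x • v - polar QK v x • v' := fun x => rfl
  let pV : V →ₗ[F] V := LinearMap.id - ((polarBilin QK v').smulRight v).restrictScalars F
  have hpV : ∀ x, pV x = x - polar QK v' x • v := fun x => rfl
  let A1 : V →ₗ[F] V := ((LinearMap.toSpanSingleton K V v).restrictScalars F) ∘ₗ f ∘ₗ
    ((polarBilin QK v').restrictScalars F)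
  have hA1 : ∀ x, A1 x = f (polar QK v' x) • v := fun x => rfl
  let A2 : V →ₗ[F] V := ((LinearMap.toSpanSingleton K V v').restrictScalars F) ∘ₗ k ∘ₗ
    ((polarBilin QK v).restrictScalars F)
  have hA2 : ∀ x, A2 x = k (polar QK v x) • v' := fun x => rfl
  let H : V →ₗ[F] V := A1 + pV ∘ₗ g.toLinearMap ∘ₗ pL + A2
  have hHx : ∀ x, H x = f (polar QK v' x) • v + pV (g (pL x)) + k (polar QK v x) • v' :=
    fun x => rfl
  have hpL1 : ∀ x, polar QK v (pL x) = 0 := by
    intro x
    rw [hpL, polar_sub_right, polar_sub_right, polar_smul_right, polar_smul_right, hH.polar_left,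
      hH.pair, smul_zero, smul_eq_mul, mul_one, sub_zero, sub_self]
  have hpL2 : ∀ x, polar QK v' (pL x) = 0 := by
    intro x
    rw [hpL, polar_sub_right, polar_sub_right, polar_smul_right, polar_smul_right, hH.polar_right,
      hH.pair', smul_zero, smul_eq_mul, mul_one, sub_self, sub_zero]
  have hpVp : ∀ x, polar QK v x = 0 → polar QK v (pV x) = 0 := by
    intro x hx
    rw [hpV, polar_sub_right, polar_smul_right, hx, hH.polar_left, smul_zero, sub_zero]
  have hpVp' : ∀ x, polar QK v' (pV x) = 0 := by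
    intro x
    rw [hpV, polar_sub_right, polar_smul_right, hH.pair', smul_eq_mul, mul_one, sub_self]
  have hdec : ∀ x, x = polar QK v' x • v + pL x + polar QK v x • v' := by
    intro x
    rw [hpL]; abel
  have hHsemi : ∀ (c : K) (x : V), H (c • x) = σ c • H x := by
    intro c x
    rw [hHx, hHx, polar_smul_right, polar_smul_right, smul_eq_mul, smul_eq_mul, hσ, hkσ]
    have h1 : pL (c • x) = c • pL x := by
      rw [hpL, hpL, polar_smul_right, polar_smul_right, smul_eq_mul, smul_eq_mul]
      module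
    obtain ⟨d, hd⟩ := hmod (pL x) (hpL1 x) c
    have h2 : pV (g (c • pL x)) = σ c • pV (g (pL x)) := by
      rw [hd, hpV, hpV, polar_add_right, polar_smul_right, polar_smul_right, hH.pair', smul_eq_mul,
        smul_eq_mul]
      module
    rw [h1, h2]
    module
  have hQH : ∀ x, Q (H x) = Q x := by
    intro x
    have h1 : ∀ (a : K) (z : V) (b : K), polar QK v z = 0 → polar QK v' z = 0 →
        QK (a • v + z + b • v') = a * b + QK z := by
      intro a z b hz hz'
      rw [Q_add, Q_add, QuadraticMap.map_smul, QuadraticMap.map_smul, hH.left, hH.right,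
        polar_add_left, polar_smul_left, polar_smul_left, polar_smul_right, polar_smul_right, hz,
        polar_comm QK z v', hz', hH.pair]
      simp only [smul_eq_mul]
      ring
    have h2 : QK (pV (g (pL x))) = QK (g (pL x)) := by
      rw [hpV, sub_eq_add_neg, ← neg_smul, Q_add, QuadraticMap.map_smul, hH.left, polar_smul_right,
        polar_comm QK (g (pL x)) v, hperp (hpL1 x)]
      simp
    have h3 : Q (g (pL x)) = Q (pL x) := hXO hgX _
    rw [h.tr, h.tr, hHx, h1 _ _ _ (hpVp _ (hperp (hpL1 x))) (hpVp' _), h2, map_add, ← h.tr, h3,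
      hfμ, hkκ]
    conv_rhs => rw [hdec x, h1 _ _ _ (hpL1 x) (hpL2 x), map_add, ← h.tr]
    congr 1
    rw [← htrσ (polar QK v' x * polar QK v x), map_mul σ]
    congr 1
    calc σ (polar QK v' x) * μ * (σ (polar QK v x) * κ)
        = σ (polar QK v' x) * σ (polar QK v x) * (μ * κ) := by ring
      _ = _ := by rw [hμκ, mul_one]
  have hpolH : ∀ x y, polar Q (H x) (H y) = polar Q x y := by
    intro x y
    rw [polar, polar, ← map_add, hQH, hQH, hQH]
  have hHinj : Function.Injective H := by
    rw [← LinearMap.ker_eq_bot, LinearMap.ker_eq_bot']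
    intro x hx
    apply h.nondegF
    intro y
    rw [← hpolH, hx, polar_zero_left]
  let H' : V ≃ₗ[F] V := LinearEquiv.ofInjectiveEndo H hHinj
  have hH' : ∀ x, H' x = H x := fun x => rfl
  have hH'O : H' ∈ O Q := hQH
  have hH'N : H' ∈ NK F K V := ⟨σ.toRingEquiv, hHsemi⟩
  have hH'v : ∀ c : K, H' (c • v) = g (c • v) := by
    intro c
    have h1 : pL (c • v) = 0 := by
      rw [hpL, polar_smul_right, polar_smul_right, hH.pair', hH.polar_left, smul_eq_mul, mul_one,
        smul_zero, zero_smul, sub_self, sub_zero]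
    rw [hH', hHx, h1, map_zero, map_zero, add_zero, polar_smul_right, polar_smul_right, hH.pair',
      hH.polar_left, smul_zero, map_zero, zero_smul, add_zero, smul_eq_mul, mul_one, hgf]
  set u := H'⁻¹ * g with hu
  have hHu : ∀ x, H' (u x) = g x := fun x => H'.apply_symm_apply _
  have huU : Uni QK v u := by
    refine ⟨fun c => ?_, fun x hx => ?_⟩
    · apply H'.injective
      rw [hHu, hH'v]
    · have h1 : g x = H' x + polar QK v' (g (pL x)) • v := by
        rw [hH', hHx, hx, map_zero, zero_smul, add_zero, hpV]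
        conv_lhs => rw [hdec x, hx, zero_smul, add_zero, map_add, hgf]
        abel
      obtain ⟨e, he⟩ := hfs (polar QK v' (g (pL x)))
      refine ⟨e, ?_⟩
      apply H'.injective
      rw [hHu, map_add, hH'v, hgf, he, h1]
  have huO : u ∈ O Q := (O Q).mul_mem ((O Q).inv_mem hH'O) (hXO hgX)
  have hFfin : Finite F := Finite.of_injective _ (algebraMap F K).injective
  have huE : u ∈ E Q := by
    apply mem_E_of_unip hG h.twoF huO
    intro x
    have h1 : polar QK v (u x - x) = 0 := by
      rw [polar_sub_right, huU.polar_eq h huO, sub_self]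
    obtain ⟨c, hc⟩ := huU.perp _ h1
    have h2 : u (u x) = u x + (u x - x) + c • v := by
      rw [map_sub] at hc
      rw [add_assoc, ← hc]; abel
    have h3 : u (u (u x)) = u x + (u x - x) + (u x - x) + c • v + c • v + c • v := by
      rw [h2, map_add, map_add, huU.fix, hc, h2]
      abel
    rw [h3, h2]
    have e2 : ∀ z : V, (3 : F) • z = z + z + z := by
      intro z
      rw [show (3 : F) = 1 + 1 + 1 by norm_num, add_smul, add_smul, one_smul]
    rw [e2, e2]
    abel
  have hH'E : H' ∈ E Q := by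
    have : H' = g * u⁻¹ := by rw [hu]; group
    rw [this]
    exact (E Q).mul_mem (hX.le hgX) ((E Q).inv_mem huE)
  have hH'X : H' ∈ X := hX.ge _ hH'E hH'N
  have huX : u ∈ X := X.mul_mem (X.inv_mem hH'X) hgX
  obtain ⟨w, hw, -, e⟩ := hT.exists_rho h hG hX hH huX huU
  have : g = H' * u := by rw [hu]; group
  rw [this, e]
  exact (NK F K V).mul_mem hH'N (rho_mem_NK _ _)

end Stab

end Cfsg.Agent.H884.Ext
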