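import Mathlib
import Cfsg.Agent.H884.Ext3

/-!
# Extension fields in orthogonal groups: the case `B = 1` (helper884)

Fusion of vectors in an overgroup is controlled by the normaliser of the field.
-/

set_option autoImplicit false
set_option linter.unusedSectionVars false

namespace Cfsg.Agent.H884.Ext

open QuadraticMap Cfsg.Agent.LieClassical.OrthCore Cfsg.Agent.LieClassical.OrthTrans
  Cfsg.Agent.LieClassical.OrthSimple Cfsg.Agent.LieClassical.OrthFinite Cfsg.Agent.H883.Root
  Cfsg.Agent.H883.Sub Module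

/-- If the `p`-subgroups `P`, `P'` of `S` have unique fixed points `H`, `kH` on `G / H` then
these points are in the same `S`-orbit. -/
theorem exists_mem_of_fix {G : Type*} [Group G] [Finite G] {p : ℕ} [Fact p.Prime]
    {H S P P' : Subgroup G} (hP : IsPGroup p P) (hP' : IsPGroup p P') (hPS : P ≤ S)
    (hP'S : P' ≤ S) (hPH : P ≤ H) (hfix : ∀ g, (∀ x ∈ P, g⁻¹ * x * g ∈ H) → g ∈ H) {k : G}
    (hfix' : ∀ g, (∀ x ∈ P', g⁻¹ * x * g ∈ H) → k⁻¹ * g ∈ H) : ∃ s ∈ S, k⁻¹ * s ∈ H := by
  classical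
  by_contra hcon
  push Not at hcon
  have key : ∀ (R : Subgroup G) (hR : R ≤ S) (s : S),
      ((s : S ⧸ H.subgroupOf S) ∈ MulAction.fixedPoints (R.subgroupOf S) (S ⧸ H.subgroupOf S)) ↔
        ∀ x ∈ R, (s : G)⁻¹ * x * s ∈ H := by
    intro R hR s
    constructor
    · intro h x hx
      have h1 := h ⟨⟨x, hR hx⟩, hx⟩
      have h2 : (((⟨x, hR hx⟩ : S) * s : S) : S ⧸ H.subgroupOf S) = (s : S ⧸ H.subgroupOf S) := h1
      rw [eq_comm, QuotientGroup.eq, Subgroup.mem_subgroupOf] at h2
      have h3 : (s : G)⁻¹ * (x * s) ∈ H := h2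
      rwa [← mul_assoc] at h3
    · rintro h ⟨⟨x, hxS⟩, hx⟩
      have h1 : (((⟨x, hxS⟩ : S) * s : S) : S ⧸ H.subgroupOf S) = (s : S ⧸ H.subgroupOf S) := by
        rw [eq_comm, QuotientGroup.eq, Subgroup.mem_subgroupOf]
        change (s : G)⁻¹ * (x * s) ∈ H
        rw [← mul_assoc]
        exact h x hx
      exact h1
  have hp1 : IsPGroup p (P.subgroupOf S) :=
    hP.comap_of_injective S.subtype Subtype.val_injective
  have hp2 : IsPGroup p (P'.subgroupOf S) :=
    hP'.comap_of_injective S.subtype Subtype.val_injective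
  have h1 := hp1.card_modEq_card_fixedPoints (S ⧸ H.subgroupOf S)
  have h2 := hp2.card_modEq_card_fixedPoints (S ⧸ H.subgroupOf S)
  have h3 : Nat.card (MulAction.fixedPoints (P.subgroupOf S) (S ⧸ H.subgroupOf S)) = 1 := by
    rw [Nat.card_eq_one_iff_unique]
    constructor
    · constructor
      rintro ⟨a, ha⟩ ⟨b, hb⟩
      obtain ⟨a, rfl⟩ := QuotientGroup.mk_surjective a
      obtain ⟨b, rfl⟩ := QuotientGroup.mk_surjective b
      have ha' := hfix _ ((key P hPS a).1 ha)
      have hb' := hfix _ ((key P hPS b).1 hb)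
      apply Subtype.ext
      change (a : S ⧸ H.subgroupOf S) = b
      rw [QuotientGroup.eq, Subgroup.mem_subgroupOf]
      exact H.mul_mem (H.inv_mem ha') hb'
    · exact ⟨⟨((1 : S) : S ⧸ H.subgroupOf S), (key P hPS 1).2 fun x hx => by
        simpa using hPH hx⟩⟩
  have h4 : Nat.card (MulAction.fixedPoints (P'.subgroupOf S) (S ⧸ H.subgroupOf S)) = 0 := by
    rw [Nat.card_eq_zero]
    left
    constructor
    rintro ⟨a, ha⟩
    obtain ⟨a, rfl⟩ := QuotientGroup.mk_surjective a
    exact hcon a a.2 (hfix' _ ((key P' hP'S a).1 ha))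
  rw [h3] at h1
  rw [h4] at h2
  have h5 := h1.symm.trans h2
  have h6 : p ∣ 1 := (Nat.modEq_zero_iff_dvd).1 h5
  exact (Fact.out : p.Prime).one_lt.ne' (Nat.dvd_one.1 h6)

variable {F K V : Type*} [Field F] [Field K] [Algebra F K] [AddCommGroup V] [Module F V] [Module K V]
  [IsScalarTower F K V] {Q : QuadraticForm F V} {QK : QuadraticForm K V}

theorem exists_sq_sub (h2 : (2 : K) ≠ 0) (c : K) : ∃ s t : K, c = s ^ 2 - t ^ 2 :=
  ⟨(c + 1) / 2, (c - 1) / 2, by field_simp; ring⟩

theorem smul_perp {v y : V} (hy : polar QK v y = 0) (c : K) : polar QK v (c • y) = 0 := by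
  rw [polar_smul_right, hy, smul_zero]

section

variable [Finite K] [FiniteDimensional F V] {X : Subgroup (V ≃ₗ[F] V)}

theorem exists_bijOn {v w : V} (hw0 : w ≠ 0) {g : V ≃ₗ[F] V}
    (hg : ∀ κ : K, ∃ b : K, κ • w = g (b • v)) : ∀ b : K, ∃ κ : K, g (b • v) = κ • w := by
  choose f hf using hg
  have hinj : Function.Injective f := by
    intro a b hab
    apply smul_left_injective K hw0
    change a • w = b • w
    rw [hf, hf, hab]
  intro b
  obtain ⟨κ, rfl⟩ := Finite.surjective_of_injective hinj b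
  exact ⟨κ, (hf κ).symm⟩

/-- **Unique fixed points.** -/
theorem unique_fix (h : TF Q QK) (hG : Good Q) (hm : 3 ≤ finrank K V) (hX : Over Q K X)
    (hT : ∀ v, v ≠ 0 → QK v = 0 → Triv QK X v) {v y : V} (hv0 : v ≠ 0) (hv : QK v = 0)
    (hy : polar QK v y = 0) (hy0 : QK y ≠ 0) {g : V ≃ₗ[F] V} (hg : g ∈ X)
    (hgN : ∀ c : K, g * rho F QK v (c • y) hv (smul_perp hy c) * g⁻¹ ∈ NK F K V) :
    g ∈ NK F K V := by
  have hXO : X ≤ O Q := fun g hg => E_le_O (hX.le hg)
  have hFfin : Finite F := Finite.of_injective _ (algebraMap F K).injective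
  have hnt : Nontrivial V := ⟨⟨v, 0, hv0⟩⟩
  obtain ⟨v', hH⟩ := exists_hyp h.nondeg hv hv0
  have hg0 : ∀ x, g (g⁻¹ x) = x := fun x => g.apply_symm_apply x
  have hg1 : ∀ x, g⁻¹ (g x) = x := fun x => g.symm_apply_apply x
  -- a linear conjugate
  obtain ⟨c, hc, hlin⟩ : ∃ c : K, c ≠ 0 ∧ ∀ (a : K) (x : V),
      (g * rho F QK v (c • y) hv (smul_perp hy c) * g⁻¹) (a • x) =
        a • (g * rho F QK v (c • y) hv (smul_perp hy c) * g⁻¹) x := by
    choose σ hσ using hgN
    let f : K → (K ≃ₐ[F] K) := fun c => toAlgEquiv (hσ c)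
    have hnot : ¬ Function.Injective f := by
      intro hinj
      have := Fintype.ofFinite K
      have := Fintype.ofFinite F
      have h1 : Nat.card K ≤ Nat.card (K ≃ₐ[F] K) := Nat.card_le_card_of_injective f hinj
      have h2 : Nat.card (K ≃ₐ[F] K) ≤ finrank F K := by
        rw [Nat.card_eq_fintype_card]
        exact AlgEquiv.card_le
      have h3 : Nat.card K = Nat.card F ^ finrank F K := by
        rw [Nat.card_eq_fintype_card, Nat.card_eq_fintype_card]
        exact Module.card_eq_pow_finrank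
      have h4 : 1 < Nat.card F := Finite.one_lt_card
      have h5 := Nat.lt_pow_self h4 (n := finrank F K)
      omega
    rw [Function.Injective] at hnot
    push Not at hnot
    obtain ⟨c1, c2, he, hne⟩ := hnot
    have he' : σ c1 = σ c2 := by
      ext a
      exact AlgEquiv.congr_fun he a
    refine ⟨c1 - c2, sub_ne_zero.2 hne, fun a x => ?_⟩
    have hneg : polar QK v (-(c2 • y)) = 0 := by rw [polar_neg_right, smul_perp hy, neg_zero]
    have e1 : rho F QK v ((c1 - c2) • y) hv (smul_perp hy _) =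
        rho F QK v (c1 • y) hv (smul_perp hy _) * (rho F QK v (c2 • y) hv (smul_perp hy _))⁻¹ := by
      rw [rho_inv hv (smul_perp hy _) hneg, rho_mul hv _ _ (by
        rw [← sub_eq_add_neg, ← sub_smul]; exact smul_perp hy _)]
      congr 1
      rw [sub_smul, sub_eq_add_neg]
    set A := g * rho F QK v (c1 • y) hv (smul_perp hy c1) * g⁻¹ with hA
    set B := g * rho F QK v (c2 • y) hv (smul_perp hy c2) * g⁻¹ with hB
    have e2 : g * rho F QK v ((c1 - c2) • y) hv (smul_perp hy _) * g⁻¹ = A * B⁻¹ := by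
      rw [e1, hA, hB]; group
    have hBi : ∀ (a : K) (x : V), B⁻¹ (a • x) = (σ c2).symm a • B⁻¹ x := by
      intro a x
      apply B.injective
      rw [hσ c2, RingEquiv.apply_symm_apply]
      change B (B.symm (a • x)) = a • B (B.symm x)
      rw [LinearEquiv.apply_symm_apply, LinearEquiv.apply_symm_apply]
    have hA' : ∀ (a : K) (x : V), A (a • x) = σ c1 a • A x := hσ c1
    have e3 : ∀ x, (A * B⁻¹) x = A (B⁻¹ x) := fun x => rfl
    rw [e2, e3, e3, hBi, hA', he', RingEquiv.apply_symm_apply]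
  set ρ := rho F QK v (c • y) hv (smul_perp hy c) with hρ
  set t := g * ρ * g⁻¹ with ht
  set d := (2 : K) * QK (c • y) with hd
  have hd0 : d ≠ 0 := by
    rw [hd, QuadraticMap.map_smul, smul_eq_mul]
    exact mul_ne_zero h.two (mul_ne_zero (mul_ne_zero hc hc) hy0)
  have hD : ∀ x, t (t x) - (2 : F) • t x + x = -g ((d * polar QK v (g⁻¹ x)) • v) := by
    intro x
    have h1 := congrArg g (rho_sq (F := F) hv (smul_perp hy c) (g⁻¹ x))
    have h2 : ∀ z, t (g z) = g (ρ z) := by
      intro z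
      rw [ht, LinearEquiv.mul_apply, LinearEquiv.mul_apply, hg1]
    rw [map_add, map_sub, map_smul, ← hρ, ← h2, ← h2, hg0, map_neg, smul_smul, ← mul_assoc, ← hd] at h1
    exact h1
  have hDlin : ∀ (κ : K) (x : V), t (t (κ • x)) - (2 : F) • t (κ • x) + κ • x =
      κ • (t (t x) - (2 : F) • t x + x) := by
    intro κ x
    rw [hlin, hlin, smul_add, smul_sub, smul_comm κ (2 : F)]
  have hline : ∀ κ : K, ∃ b : K, κ • g v = g (b • v) := by
    intro κ
    obtain ⟨z0, hz0⟩ : ∃ z0, polar QK v (g⁻¹ z0) = -d⁻¹ :=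
      ⟨g ((-d⁻¹) • v'), by rw [hg1, polar_smul_right, hH.pair, smul_eq_mul, mul_one]⟩
    have h1 : t (t z0) - (2 : F) • t z0 + z0 = g v := by
      rw [hD, hz0, mul_neg, mul_inv_cancel₀ hd0, neg_one_smul, map_neg, neg_neg]
    refine ⟨-(d * polar QK v (g⁻¹ (κ • z0))), ?_⟩
    rw [← h1, ← hDlin, hD, neg_smul, map_neg]
  have hgv0 : g v ≠ 0 := fun h0 => hv0 (g.map_eq_zero_iff.1 h0)
  have hline' := exists_bijOn hgv0 hline
  have hgvs : QK (g v) = 0 := by
    have h1 : ∀ κ : K, Algebra.trace F K (κ ^ 2 * QK (g v)) = 0 := by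
      intro κ
      obtain ⟨b, hb⟩ := hline κ
      have h2 : Q (κ • g v) = 0 := by
        rw [hb, hXO hg, h.tr, QuadraticMap.map_smul, hv, smul_zero, map_zero]
      rw [h.tr, QuadraticMap.map_smul, smul_eq_mul, ← pow_two] at h2
      exact h2
    apply trace_ext (F := F)
    intro a
    obtain ⟨s, t, rfl⟩ := exists_sq_sub h.two a
    rw [sub_mul, map_sub, h1, h1, sub_self]
  obtain ⟨k, hkX, hklin, a, ha, hka⟩ := hX.exists_trans h hG hm hgvs hv hgv0 hv0
  have h1 : k * g ∈ NK F K V := by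
    refine (hT v hv0 hv).stab_le h hG hm hX hH (X.mul_mem hkX hg) fun b => ?_
    obtain ⟨κ, hκ⟩ := hline' b
    exact ⟨κ * a, by rw [LinearEquiv.mul_apply, hκ, hklin, hka, smul_smul]⟩
  have h2 : g = k⁻¹ * (k * g) := by group
  rw [h2]
  exact (NK F K V).mul_mem ((NK F K V).inv_mem (mem_NK_of_linear hklin)) h1

/-- Every vector is orthogonal to a suitable pair `(v, y)`. -/
theorem exists_pair [FiniteDimensional K V] (h : TF Q QK) (hm : 4 ≤ finrank K V) (x : V) :
    ∃ v y, v ≠ 0 ∧ QK v = 0 ∧ polar QK v y = 0 ∧ QK y ≠ 0 ∧ polar QK v x = 0 ∧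
      polar QK y x = 0 := by
  by_cases hx : QK x = 0
  · by_cases hx0 : x = 0
    · obtain ⟨v, hv0, hv, -⟩ := exists_sing_perp (Q := QK) ![] (by omega : 0 + 3 ≤ finrank K V)
      obtain ⟨v', hH⟩ := exists_hyp h.nondeg hv hv0
      obtain ⟨y, hy, hvy, -⟩ := exists_nonsing_perp h (by omega) hH
      exact ⟨v, y, hv0, hv, hvy, hy, by rw [hx0, polar_zero_right], by rw [hx0, polar_zero_right]⟩
    · obtain ⟨v', hH⟩ := exists_hyp h.nondeg hx hx0
      obtain ⟨y, hy, hvy, -⟩ := exists_nonsing_perp h (by omega) hH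
      exact ⟨x, y, hx0, hx, hvy, hy, polar_self_of_sing hx, by rw [polar_comm]; exact hvy⟩
  · obtain ⟨v, hv0, hv, hvx⟩ := exists_sing_perp (Q := QK) ![x] (by omega : 1 + 3 ≤ finrank K V)
    have hxv : polar QK x v = 0 := hvx 0
    obtain ⟨z, hz1, hz2⟩ := exists_sep h.nondeg (x := v) (z := x) (by
      rintro c rfl
      rw [QuadraticMap.map_smul, smul_eq_mul] at hv
      rcases mul_eq_zero.1 hv with h1 | h1
      · rw [mul_self_eq_zero] at h1
        exact hv0 (by rw [h1, zero_smul])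
      · exact hx h1)
    have hH : Hyp QK v (z + (-QK z) • v) := by
      refine ⟨hv, ?_, ?_⟩
      · rw [Q_add, QuadraticMap.map_smul, hv, polar_smul_right, polar_comm QK z v, hz2]
        simp
      · rw [polar_add_right, polar_smul_right, polar_self_of_sing hv, hz2]
        simp
    have hxv' : polar QK x (z + (-QK z) • v) = 0 := by
      rw [polar_add_right, polar_smul_right, hz1, hxv]
      simp
    set v' := z + (-QK z) • v with hv'
    obtain ⟨a, ha0, ha⟩ := exists_perp_ne (Q := QK) ![v, v', x] (by omega)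
    have h1 : polar QK v a = 0 := ha 0
    have h2 : polar QK v' a = 0 := ha 1
    have h3 : polar QK x a = 0 := ha 2
    obtain ⟨c, hc⟩ := h.nondeg.exists_polar_eq ha0 1
    have hxx : polar QK x x ≠ 0 := by
      rw [polar_self']
      exact mul_ne_zero h.two hx
    set c' := proj QK v v' c - (polar QK x c * (polar QK x x)⁻¹) • x with hc'
    have h4 : polar QK v c' = 0 := by
      rw [hc', polar_sub_right, polar_proj_left hH, polar_smul_right, polar_comm QK v x, hxv]
      simp
    have h5 : polar QK v' c' = 0 := by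
      rw [hc', polar_sub_right, polar_proj_right hH, polar_smul_right, polar_comm QK v' x, hxv']
      simp
    have h6 : polar QK x c' = 0 := by
      rw [hc', polar_sub_right, polar_proj_of_perp (by rw [polar_comm]; exact hxv)
        (by rw [polar_comm]; exact hxv'), polar_smul_right, smul_eq_mul, mul_assoc,
        inv_mul_cancel₀ hxx, mul_one, sub_self]
    have h7 : polar QK a c' = 1 := by
      rw [hc', polar_sub_right, polar_proj_of_perp h1 h2, hc, polar_smul_right,
        polar_comm QK a x, h3]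
      simp
    rcases exists_nonsing h7 with h8 | h8 | h8
    · exact ⟨v, a, hv0, hv, h1, h8, by rw [polar_comm]; exact hxv, by rw [polar_comm]; exact h3⟩
    · exact ⟨v, c', hv0, hv, h4, h8, by rw [polar_comm]; exact hxv, by rw [polar_comm]; exact h6⟩
    · exact ⟨v, a + c', hv0, hv, by rw [polar_add_right, h1, h4, add_zero], h8,
        by rw [polar_comm]; exact hxv,
        by rw [polar_comm, polar_add_right, h3, h6, add_zero]⟩

/-- The `p`-group `{ρ_{v, cy}}`. -/
def PG (F : Type*) {K V : Type*} [Field F] [Field K] [Algebra F K] [AddCommGroup V] [Module F V]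
    [Module K V] [IsScalarTower F K V] (QK : QuadraticForm K V) (v y : V) (hv : QK v = 0)
    (hy : polar QK v y = 0) : Subgroup (V ≃ₗ[F] V) where
  carrier := {g | ∃ c : K, g = rho F QK v (c • y) hv (smul_perp hy c)}
  mul_mem' := by
    rintro _ _ ⟨c, rfl⟩ ⟨d, rfl⟩
    refine ⟨c + d, ?_⟩
    rw [rho_mul hv _ _ (by rw [← add_smul]; exact smul_perp hy _)]
    congr 1
    rw [add_smul]
  one_mem' := by
    refine ⟨0, ?_⟩
    ext x
    rw [rho_apply]
    simp
  inv_mem' := by
    rintro _ ⟨c, rfl⟩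
    refine ⟨-c, ?_⟩
    rw [rho_inv hv _ (by rw [polar_neg_right, smul_perp hy, neg_zero])]
    congr 1
    rw [neg_smul]

theorem PG_pow {v y : V} (hv : QK v = 0) (hy : polar QK v y = 0) (c : K) (n : ℕ) :
    rho F QK v (c • y) hv (smul_perp hy c) ^ n =
      rho F QK v (((n : K) * c) • y) hv (smul_perp hy _) := by
  induction n with
  | zero =>
    rw [pow_zero]
    ext x
    rw [rho_apply]
    simp
  | succ n ih =>
    rw [pow_succ, ih, rho_mul hv _ _ (by rw [← add_smul]; exact smul_perp hy _)]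
    congr 1
    rw [← add_smul]
    congr 1
    push_cast
    ring

theorem isPGroup_PG {p : ℕ} [Fact p.Prime] [CharP K p] {v y : V} (hv : QK v = 0)
    (hy : polar QK v y = 0) : IsPGroup p (PG F QK v y hv hy) := by
  rintro ⟨_, c, rfl⟩
  refine ⟨1, ?_⟩
  apply Subtype.ext
  rw [pow_one, Subgroup.coe_pow, PG_pow hv hy]
  ext x
  rw [rho_apply, CharP.cast_eq_zero]
  simp

/-- **Control of fusion of vectors.** -/
theorem fusion [FiniteDimensional K V] (h : TF Q QK) (hG : Good Q) (hm : 4 ≤ finrank K V)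
    (hX : Over Q K X) (hT : ∀ v, v ≠ 0 → QK v = 0 → Triv QK X v) {g : V ≃ₗ[F] V} (hg : g ∈ X)
    (x : V) : ∃ k ∈ X, k ∈ NK F K V ∧ g x = k x := by
  have hFfin : Finite F := Finite.of_injective _ (algebraMap F K).injective
  have hVfin : Finite V := Module.finite_of_finite F
  have hfin : Finite (V ≃ₗ[F] V) := Finite.of_injective (fun f => (f : V → V)) DFunLike.coe_injective
  obtain ⟨p, hp⟩ := CharP.exists K
  have hpp : p.Prime := (CharP.char_is_prime_or_zero K p).resolve_right (by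
    rintro rfl
    have : CharZero K := CharP.charP_to_charZero K
    exact not_finite K)
  have : Fact p.Prime := ⟨hpp⟩
  obtain ⟨v, y, hv0, hv, hvy, hy, hvx, hyx⟩ := exists_pair h hm x
  obtain ⟨w, z, hw0, hw, hwz, hz, hwx, hzx⟩ := exists_pair h hm (g x)
  have hm3 : 3 ≤ finrank K V := by omega
  let S : Subgroup X := (MulAction.stabilizer (V ≃ₗ[F] V) x).subgroupOf X
  have hS : ∀ s : X, s ∈ S ↔ (s : V ≃ₗ[F] V) x = x := fun s => Iff.rfl
  let P : Subgroup X := (PG F QK v y hv hvy).subgroupOf X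
  let P' : Subgroup X := ((PG F QK w z hw hwz).map (MulAut.conj g⁻¹).toMonoidHom).subgroupOf X
  have hfixx : ∀ {v y x : V} (hv : QK v = 0) (hy : polar QK v y = 0), polar QK v x = 0 →
      polar QK y x = 0 → ∀ c : K, rho F QK v (c • y) hv (smul_perp hy c) x = x := by
    intro v y x hv hy hvx hyx c
    rw [rho_apply, hvx, polar_smul_left, hyx]
    simp
  obtain ⟨s, hs, hs'⟩ := exists_mem_of_fix (p := p) (G := X) (H := (NK F K V).subgroupOf X) (S := S)
    (P := P) (P' := P') (k := ⟨g⁻¹, X.inv_mem hg⟩)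
    ((isPGroup_PG hv hvy).comap_of_injective _ Subtype.val_injective)
    (((isPGroup_PG hw hwz).map _).comap_of_injective _ Subtype.val_injective) (by
      rintro ⟨s, hsX⟩ ⟨c, hc⟩
      rw [hS]
      change s = _ at hc
      change s x = x
      rw [hc]
      exact hfixx hv hvy hvx hyx c) (by
      rintro ⟨s, hsX⟩ ⟨_, ⟨c, rfl⟩, hc⟩
      rw [hS]
      have hc' : g⁻¹ * rho F QK w (c • z) hw (smul_perp hwz c) * g⁻¹⁻¹ = s := hc
      change s x = x
      rw [← hc', inv_inv, LinearEquiv.mul_apply, LinearEquiv.mul_apply, hfixx hw hwz hwx hzx c]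
      exact g.symm_apply_apply x) (by
      rintro ⟨s, hsX⟩ ⟨c, hc⟩
      change s = _ at hc
      change s ∈ NK F K V
      rw [hc]
      exact rho_mem_NK _ _) (by
      rintro ⟨s, hsX⟩ hs
      change s ∈ NK F K V
      have h1 : s⁻¹ ∈ NK F K V := by
        apply unique_fix h hG hm3 hX hT hv0 hv hvy hy (X.inv_mem hsX)
        intro c
        rw [inv_inv]
        exact hs ⟨rho F QK v (c • y) hv (smul_perp hvy c), hX.rho_mem h hG hv _⟩ ⟨c, rfl⟩
      rw [← inv_inv s]
      exact (NK F K V).inv_mem h1) (by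
      rintro ⟨s, hsX⟩ hs
      change (g⁻¹)⁻¹ * s ∈ NK F K V
      rw [inv_inv]
      have h1 : (g * s)⁻¹ ∈ NK F K V := by
        apply unique_fix h hG hm3 hX hT hw0 hw hwz hz (X.inv_mem (X.mul_mem hg hsX))
        intro c
        have h2 := hs ⟨g⁻¹ * rho F QK w (c • z) hw (smul_perp hwz c) * g⁻¹⁻¹,
          X.mul_mem (X.mul_mem (X.inv_mem hg) (hX.rho_mem h hG hw _)) (X.inv_mem (X.inv_mem hg))⟩
          ⟨_, ⟨c, rfl⟩, rfl⟩
        have h3 : s⁻¹ * (g⁻¹ * rho F QK w (c • z) hw (smul_perp hwz c) * g⁻¹⁻¹) * s ∈ NK F K V := h2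
        have e : (g * s)⁻¹ * rho F QK w (c • z) hw (smul_perp hwz c) * (g * s)⁻¹⁻¹ =
            s⁻¹ * (g⁻¹ * rho F QK w (c • z) hw (smul_perp hwz c) * g⁻¹⁻¹) * s := by group
        rw [e]
        exact h3
      rw [← inv_inv (g * s)]
      exact (NK F K V).inv_mem h1)
  refine ⟨g * s, X.mul_mem hg s.2, ?_, ?_⟩
  · have h1 : (g⁻¹)⁻¹ * (s : V ≃ₗ[F] V) ∈ NK F K V := hs'
    rwa [inv_inv] at h1
  · rw [LinearEquiv.mul_apply, (hS s).1 hs]

/-- **Case `B = 1`**: the overgroup is semilinear. -/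
theorem le_NK_of_triv [FiniteDimensional K V] (h : TF Q QK) (hG : Good Q) (hm : 4 ≤ finrank K V)
    (hX : Over Q K X) (hT : ∀ v, v ≠ 0 → QK v = 0 → Triv QK X v) : X ≤ NK F K V := by
  have hXO : X ≤ O Q := fun g hg => E_le_O (hX.le hg)
  intro g hg
  obtain ⟨v, hv0, hv, -⟩ := exists_sing_perp (Q := QK) ![] (by omega : 0 + 3 ≤ finrank K V)
  have hnt : Nontrivial V := ⟨⟨v, 0, hv0⟩⟩
  obtain ⟨v', hH⟩ := exists_hyp h.nondeg hv hv0
  have hsing : ∀ k ∈ X, ∀ x, QK x = 0 → QK (k x) = 0 := by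
    intro k hk x hx
    obtain ⟨l, hl, ⟨σ, hσ⟩, e⟩ := fusion h hG hm hX hT hk x
    rw [e, h.quad_sigma (hXO hl) hσ, hx, map_zero]
  have horth : ∀ k ∈ X, ∀ x y, QK x = 0 → QK y = 0 → polar QK x y = 0 →
      polar QK (k x) (k y) = 0 := by
    intro k hk x y hx hy hxy
    have h1 : QK (x + y) = 0 := by rw [Q_add, hx, hy, hxy]; simp
    have h2 := hsing k hk _ h1
    rw [map_add, Q_add, hsing k hk x hx, hsing k hk y hy] at h2
    simpa using h2
  obtain ⟨l, hl, hlN, e⟩ := fusion h hG hm hX hT hg v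
  have hg1 : l⁻¹ * g ∈ X := X.mul_mem (X.inv_mem hl) hg
  have hg1v : (l⁻¹ * g) v = v := by
    rw [LinearEquiv.mul_apply, e]
    exact l.symm_apply_apply v
  set k := l⁻¹ * g with hk
  have hkN : k ∈ NK F K V := by
    refine (hT v hv0 hv).stab_le h hG (by omega) hX hH hg1 fun c => ?_
    have hcv : QK (c • v) = 0 := by rw [QuadraticMap.map_smul, hv, smul_zero]
    have hz : QK (k (c • v)) = 0 := hsing k hg1 _ hcv
    have hvz : polar QK v (k (c • v)) = 0 := by
      have := horth k hg1 v (c • v) hv hcv (by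
        rw [polar_smul_right, polar_self_of_sing hv, smul_zero])
      rwa [hg1v] at this
    set z := k (c • v) with hzdef
    set w := z - polar QK v' z • v with hw
    have hvw : polar QK v w = 0 := by
      rw [hw, polar_sub_right, polar_smul_right, hvz, hH.polar_left, smul_zero, sub_zero]
    have hv'w : polar QK v' w = 0 := by
      rw [hw, polar_sub_right, polar_smul_right, hH.pair', smul_eq_mul, mul_one, sub_self]
    have hws : QK w = 0 := by
      rw [hw, sub_eq_add_neg, ← neg_smul, Q_add, QuadraticMap.map_smul, hz, hv, polar_smul_right,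
        polar_comm QK z v, hvz]
      simp
    have hw0 : w = 0 := by
      by_contra hw0
      obtain ⟨w', hH', h1, h2⟩ := exists_hyp_perp h.nondeg hH hws hw0 hvw hv'w
      have hki : k⁻¹ v = v := by
        apply k.injective
        rw [hg1v]
        exact k.apply_symm_apply v
      have h3 : polar QK v (k⁻¹ w') = 0 := by
        have := horth k⁻¹ (X.inv_mem hg1) v w' hv hH'.right h1
        rwa [hki] at this
      have h4 : polar QK (c • v) (k⁻¹ w') = 0 := by rw [polar_smul_left, h3, smul_zero]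
      have h5 := horth k hg1 _ _ hcv (hsing _ (X.inv_mem hg1) _ hH'.right) h4
      have h6 : k (k⁻¹ w') = w' := k.apply_symm_apply w'
      rw [h6, ← hzdef] at h5
      have h7 : z = w + polar QK v' z • v := by rw [hw]; abel
      rw [h7, polar_add_left, polar_smul_left, h1, hH'.pair] at h5
      simp at h5
    refine ⟨polar QK v' z, ?_⟩
    rw [← sub_eq_zero]
    exact hw0
  have : g = l * k := by rw [hk]; group
  rw [this]
  exact (NK F K V).mul_mem hlN hkN

end

end Cfsg.Agent.H884.Ext
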