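import Mathlib
import Cfsg.Agent.H884.Ext1

/-!
# Extension fields in orthogonal groups: symmetric spaces of skew maps of `K` (helper884)
-/

set_option autoImplicit false
set_option linter.unusedSectionVars false

namespace Cfsg.Agent.H884.Ext

open Module

section Hua

variable {F K : Type*} [Field F] [Field K] [Algebra F K]

/-- Hua's identity: an additive subgroup containing `1`, closed under inverses, is a subring. -/
theorem hua_mul (h2 : (2 : K) ≠ 0) (A : Submodule F K) (h1 : (1 : K) ∈ A)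
    (hinv : ∀ a ∈ A, a⁻¹ ∈ A) : ∀ a ∈ A, ∀ b ∈ A, a * b ∈ A := by
  have hsq : ∀ a ∈ A, a ^ 2 ∈ A := by
    intro a ha
    by_cases h0 : a = 0
    · rw [h0, zero_pow two_ne_zero]; exact A.zero_mem
    by_cases h1' : a = 1
    · rw [h1', one_pow]; exact h1
    have h3 : (1 - a) ≠ 0 := sub_ne_zero.2 (Ne.symm h1')
    have e : a ^ 2 = a - (a⁻¹ + (1 - a)⁻¹)⁻¹ := by
      have h4 : a⁻¹ + (1 - a)⁻¹ = (a * (1 - a))⁻¹ := by field_simp; ring
      rw [h4, inv_inv]
      ring
    rw [e]
    exact A.sub_mem ha (hinv _ (A.add_mem (hinv _ ha) (hinv _ (A.sub_mem h1 ha))))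
  have hhalf : ∀ c ∈ A, (2 : K)⁻¹ * c ∈ A := by
    intro c hc
    have e : (2 : K)⁻¹ * c = (c⁻¹ + c⁻¹)⁻¹ := by
      rw [← two_mul, mul_inv, inv_inv]
    rw [e]
    exact hinv _ (A.add_mem (hinv _ hc) (hinv _ hc))
  intro a ha b hb
  have e : a * b = (2 : K)⁻¹ * ((a + b) ^ 2 - a ^ 2 - b ^ 2) := by
    field_simp
    ring
  rw [e]
  exact hhalf _ (A.sub_mem (A.sub_mem (hsq _ (A.add_mem ha hb)) (hsq _ ha)) (hsq _ hb))

/-- Over an extension of prime degree such a subspace is `F` or everything. -/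
theorem hua (h2 : (2 : K) ≠ 0) [FiniteDimensional F K] (hr : (finrank F K).Prime)
    (A : Submodule F K) (h1 : (1 : K) ∈ A) (hinv : ∀ a ∈ A, a⁻¹ ∈ A) :
    A = ⊤ ∨ ∀ a ∈ A, ∃ c : F, a = algebraMap F K c := by
  let S : Subalgebra F K :=
    { A with
      mul_mem' := fun {a b} ha hb => hua_mul h2 A h1 hinv a ha b hb
      algebraMap_mem' := fun c => by
        change algebraMap F K c ∈ A
        rw [Algebra.algebraMap_eq_smul_one]
        exact A.smul_mem _ h1 }
  have hS : ∀ a, a ∈ S ↔ a ∈ A := fun a => Iff.rfl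
  have := Subalgebra.isSimpleOrder_of_finrank_prime F K hr
  rcases eq_bot_or_eq_top S with h | h
  · right
    intro a ha
    have h3 : a ∈ (⊥ : Subalgebra F K) := h ▸ (hS a).2 ha
    obtain ⟨c, hc⟩ := Algebra.mem_bot.1 h3
    exact ⟨c, hc.symm⟩
  · left
    rw [eq_top_iff]
    intro a _
    rw [← hS, h]
    trivial

/-- The multiplier ring of a proper nonzero subspace is `F`. -/
theorem multiplier [FiniteDimensional F K] (hr : (finrank F K).Prime) (A : Submodule F K)
    (hA0 : A ≠ ⊥) (hA1 : A ≠ ⊤) {c : K} (hc : ∀ a ∈ A, c * a ∈ A) :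
    ∃ x : F, c = algebraMap F K x := by
  let S : Subalgebra F K :=
    { carrier := {c | ∀ a ∈ A, c * a ∈ A}
      mul_mem' := fun {x y} hx hy a ha => by rw [mul_assoc]; exact hx _ (hy _ ha)
      add_mem' := fun {x y} hx hy a ha => by rw [add_mul]; exact A.add_mem (hx _ ha) (hy _ ha)
      algebraMap_mem' := fun x a ha => by
        rw [← Algebra.smul_def]
        exact A.smul_mem _ ha }
  have hS : c ∈ S := hc
  have := Subalgebra.isSimpleOrder_of_finrank_prime F K hr
  rcases eq_bot_or_eq_top S with h | h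
  · rw [h] at hS
    obtain ⟨x, hx⟩ := Algebra.mem_bot.1 hS
    exact ⟨x, hx.symm⟩
  · exfalso
    obtain ⟨a, ha, ha0⟩ := Submodule.exists_mem_ne_zero_of_ne_bot hA0
    apply hA1
    rw [eq_top_iff]
    intro x _
    have h3 : x * a⁻¹ ∈ S := by rw [h]; trivial
    have h4 : x * a⁻¹ * a ∈ A := h3 a ha
    rwa [mul_assoc, inv_mul_cancel₀ ha0, mul_one] at h4

end Hua

section SymB

variable {F K : Type*} [Field F] [Field K] [Algebra F K]

/-- `c β c`. -/
def cj (F : Type*) {K : Type*} [Field F] [Field K] [Algebra F K] (c : K) (β : K →ₗ[F] K) :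
    K →ₗ[F] K := LinearMap.mulLeft F c ∘ₗ β ∘ₗ LinearMap.mulLeft F c

theorem cj_apply (c : K) (β : K →ₗ[F] K) (a : K) : cj F c β a = c * β (c * a) := rfl

/-- A symmetric space of skew maps. -/
structure Sym (B : Submodule F (K →ₗ[F] K)) : Prop where
  skew : ∀ β ∈ B, ∀ a, Algebra.trace F K (a * β a) = 0
  cj : ∀ β ∈ B, ∀ c : K, cj F c β ∈ B

variable {B : Submodule F (K →ₗ[F] K)}

theorem Sym.skew' (hB : Sym B) {β : K →ₗ[F] K} (hβ : β ∈ B) (a b : K) :
    Algebra.trace F K (a * β b) = - Algebra.trace F K (b * β a) := by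
  have h1 := hB.skew β hβ (a + b)
  rw [map_add, add_mul, mul_add, mul_add, map_add, map_add, map_add, hB.skew β hβ,
    hB.skew β hβ, zero_add, add_zero] at h1
  exact eq_neg_of_add_eq_zero_left h1

/-- The skew map `x ∧ y`. -/
noncomputable def wedge (F : Type*) {K : Type*} [Field F] [Field K] [Algebra F K] (x y : K) : K →ₗ[F] K :=
  (Algebra.traceForm F K x).smulRight y - (Algebra.traceForm F K y).smulRight x

theorem wedge_apply (x y a : K) : wedge F x y a =
    Algebra.trace F K (x * a) • y - Algebra.trace F K (y * a) • x := rfl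

theorem cj_wedge (c x y : K) : cj F c (wedge F x y) = wedge F (c * x) (c * y) := by
  ext a
  rw [cj_apply, wedge_apply, wedge_apply, mul_sub, mul_smul_comm, mul_smul_comm]
  congr 3
  · ring_nf
  · ring_nf

theorem wedge_swap (x y : K) : wedge F y x = - wedge F x y := by
  ext a
  rw [LinearMap.neg_apply, wedge_apply, wedge_apply]
  abel

theorem wedge_add_right (x y z : K) : wedge F x (y + z) = wedge F x y + wedge F x z := by
  ext a
  rw [LinearMap.add_apply, wedge_apply, wedge_apply, wedge_apply, add_mul, map_add]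
  module

theorem wedge_smul_right (x y : K) (c : F) : wedge F x (c • y) = c • wedge F x y := by
  ext a
  rw [LinearMap.smul_apply, wedge_apply, wedge_apply, smul_mul_assoc, map_smul]
  module

theorem wedge_self (x : K) : wedge F x x = 0 := by
  ext a
  rw [wedge_apply, sub_self, LinearMap.zero_apply]

/-- If a symmetric space contains one decomposable map it contains all. -/
theorem Sym.wedge_all (hB : Sym B) (h2 : (2 : K) ≠ 0) [FiniteDimensional F K]
    (hr : (finrank F K).Prime) {x y : K} (hx : x ≠ 0) (hy : ∀ c : F, y ≠ c • x)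
    (hxy : wedge F x y ∈ B) : ∀ x' y', wedge F x' y' ∈ B := by
  let A : Submodule F K :=
    { carrier := {η | wedge F 1 η ∈ B}
      add_mem' := fun {a b} ha hb => by
        change wedge F 1 (a + b) ∈ B
        rw [wedge_add_right]
        exact B.add_mem ha hb
      zero_mem' := by
        have e : wedge F (1 : K) 0 = 0 := by
          have := wedge_smul_right (F := F) (1 : K) 0 0
          rwa [zero_smul, zero_smul] at this
        change wedge F 1 0 ∈ B
        rw [e]
        exact B.zero_mem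
      smul_mem' := fun c a ha => by
        change wedge F 1 (c • a) ∈ B
        rw [wedge_smul_right]
        exact B.smul_mem _ ha }
  have hA : ∀ η, η ∈ A ↔ wedge F 1 η ∈ B := fun η => Iff.rfl
  have h1 : (1 : K) ∈ A := by
    rw [hA, wedge_self]
    exact B.zero_mem
  have hinv : ∀ a ∈ A, a⁻¹ ∈ A := by
    intro a ha
    by_cases h0 : a = 0
    · rw [h0, inv_zero]; exact A.zero_mem
    rw [hA] at ha ⊢
    have h3 := hB.cj _ ha a⁻¹
    rw [cj_wedge, mul_one, inv_mul_cancel₀ h0, wedge_swap] at h3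
    have h4 := B.neg_mem h3
    rwa [neg_neg] at h4
  have hxyA : x⁻¹ * y ∈ A := by
    rw [hA]
    have h3 := hB.cj _ hxy x⁻¹
    rwa [cj_wedge, inv_mul_cancel₀ hx] at h3
  have htop : A = ⊤ := by
    rcases hua h2 hr A h1 hinv with h | h
    · exact h
    · exfalso
      obtain ⟨c, hc⟩ := h _ hxyA
      apply hy c
      rw [Algebra.smul_def, ← hc, mul_comm, ← mul_assoc, mul_inv_cancel₀ hx, one_mul]
  intro x' y'
  by_cases h0 : x' = 0
  · have e : wedge F 0 y' = 0 := by
      rw [← neg_eq_zero, ← wedge_swap]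
      have := wedge_smul_right (F := F) y' 0 0
      rwa [zero_smul, zero_smul] at this
    rw [h0, e]
    exact B.zero_mem
  have h3 : wedge F 1 (x'⁻¹ * y') ∈ B := by
    rw [← hA, htop]
    trivial
  have h4 := hB.cj _ h3 x'
  rwa [cj_wedge, mul_one, ← mul_assoc, mul_inv_cancel₀ h0, one_mul] at h4

variable [Finite K]

/-- (P1) -/
theorem Sym.ann (hB : Sym B) (h2 : (2 : K) ≠ 0) (hr : (finrank F K).Prime) (hne : B ≠ ⊥) {x y : K}
    (hx : x ≠ 0) (h : ∀ β ∈ B, Algebra.trace F K (x * β y) = 0) : ∃ c : F, y = c • x := by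
  have hfd : FiniteDimensional F K := FiniteDimensional.of_finrank_pos hr.pos
  let A : Submodule F K :=
    { carrier := {y | ∀ β ∈ B, Algebra.trace F K (β y) = 0}
      add_mem' := fun {a b} ha hb β hβ => by rw [map_add, map_add, ha β hβ, hb β hβ, add_zero]
      zero_mem' := fun β _ => by rw [map_zero, map_zero]
      smul_mem' := fun c a ha β hβ => by rw [map_smul, map_smul, ha β hβ, smul_zero] }
  have hA : ∀ y, y ∈ A ↔ ∀ β ∈ B, Algebra.trace F K (β y) = 0 := fun y => Iff.rfl
  have h1 : (1 : K) ∈ A := by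
    intro β hβ
    have := hB.skew β hβ 1
    rwa [one_mul] at this
  have hinv : ∀ a ∈ A, a⁻¹ ∈ A := by
    intro a ha
    by_cases h0 : a = 0
    · rw [h0, inv_zero]; exact A.zero_mem
    intro β hβ
    have h3 := ha _ (hB.cj β hβ a⁻¹)
    rw [cj_apply, inv_mul_cancel₀ h0, hB.skew' hβ, one_mul, neg_eq_zero] at h3
    exact h3
  have hxy : x⁻¹ * y ∈ A := by
    intro β hβ
    have h3 := h _ (hB.cj β hβ x⁻¹)
    rwa [cj_apply, ← mul_assoc, mul_inv_cancel₀ hx, one_mul] at h3
  rcases hua h2 hr A h1 hinv with h3 | h3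
  · exfalso
    obtain ⟨β, hβ, hβ0⟩ := Submodule.exists_mem_ne_zero_of_ne_bot hne
    apply hβ0
    ext a
    rw [LinearMap.zero_apply]
    apply trace_ext (F := F)
    intro c
    by_cases h0 : c = 0
    · rw [h0, zero_mul, map_zero]
    have h4 : c⁻¹ * a ∈ A := by rw [h3]; trivial
    have h5 := h4 _ (hB.cj β hβ c)
    rwa [cj_apply, ← mul_assoc, mul_inv_cancel₀ h0, one_mul] at h5
  · obtain ⟨c, hc⟩ := h3 _ hxy
    refine ⟨c, ?_⟩
    rw [Algebra.smul_def, ← hc, mul_comm, ← mul_assoc, mul_inv_cancel₀ hx, one_mul]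

/-- The values at `e` are all elements trace-orthogonal to `e`. -/
theorem Sym.exists_value (hB : Sym B) (h2 : (2 : K) ≠ 0) (hr : (finrank F K).Prime) (hne : B ≠ ⊥)
    {e δ : K} (he : e ≠ 0) (hδ : Algebra.trace F K (e * δ) = 0) : ∃ β ∈ B, β e = δ := by
  have hfd : FiniteDimensional F K := FiniteDimensional.of_finrank_pos hr.pos
  by_contra hcon
  push Not at hcon
  let I : Submodule F K := B.map (LinearMap.applyₗ (R := F) e : (K →ₗ[F] K) →ₗ[F] K)
  have hI : δ ∉ I := by
    rintro ⟨β, hβ, h3⟩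
    exact hcon β hβ h3
  obtain ⟨φ, hφ, hφI⟩ := Submodule.exists_dual_map_eq_bot_of_notMem hI inferInstance
  obtain ⟨y, hy⟩ := exists_trace φ
  have h3 : ∀ β ∈ B, Algebra.trace F K (y * β e) = 0 := by
    intro β hβ
    rw [← hy]
    have h4 : φ (β e) ∈ I.map φ := Submodule.mem_map_of_mem ⟨β, hβ, rfl⟩
    rw [hφI] at h4
    exact (Submodule.mem_bot F).1 h4
  obtain ⟨c, hc⟩ := hB.ann h2 hr hne he (fun β hβ => by rw [hB.skew' hβ, h3 β hβ, neg_zero])
  apply hφ
  rw [hy, hc, smul_mul_assoc, map_smul, hδ, smul_zero]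

/-- A skew map of an odd-dimensional `K` is singular. -/
theorem exists_ker_of_skew (h2 : (2 : K) ≠ 0) (hodd : Odd (finrank F K)) {β : K →ₗ[F] K}
    (hβ : ∀ a, Algebra.trace F K (a * β a) = 0) : ∃ z, z ≠ 0 ∧ β z = 0 := by
  classical
  have hfd : FiniteDimensional F K := FiniteDimensional.of_finrank_pos hodd.pos
  have h2F : (2 : F) ≠ 0 := by
    intro h
    apply h2
    have h3 := congrArg (algebraMap F K) h
    rwa [map_ofNat, map_zero] at h3
  have hskew : ∀ a b, Algebra.trace F K (a * β b) = - Algebra.trace F K (b * β a) := by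
    intro a b
    have h1 := hβ (a + b)
    rw [map_add, add_mul, mul_add, mul_add, map_add, map_add, map_add, hβ, hβ, zero_add,
      add_zero] at h1
    exact eq_neg_of_add_eq_zero_left h1
  let bs := finBasis F K
  let M : Matrix (Fin (finrank F K)) (Fin (finrank F K)) F :=
    Matrix.of fun i j => Algebra.trace F K (bs i * β (bs j))
  have hM : M.transpose = -M := by
    ext i j
    rw [Matrix.transpose_apply, Matrix.neg_apply]
    exact hskew _ _
  have hdet : M.det = 0 := by
    have h3 := Matrix.det_transpose M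
    rw [hM, Matrix.det_neg, Fintype.card_fin, hodd.neg_one_pow, neg_one_mul] at h3
    have h4 : (2 : F) * M.det = 0 := by linear_combination -h3
    exact (mul_eq_zero.1 h4).resolve_left h2F
  obtain ⟨w, hw, hMw⟩ := Matrix.exists_mulVec_eq_zero_iff.2 hdet
  refine ⟨∑ j, w j • bs j, ?_, ?_⟩
  · intro h0
    apply hw
    funext j
    exact Fintype.linearIndependent_iff.1 bs.linearIndependent w h0 j
  · apply trace_ext (F := F)
    intro c
    have h3 : ∀ i, Algebra.trace F K (bs i * β (∑ j, w j • bs j)) = 0 := by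
      intro i
      have h4 : ∑ j, M i j * w j = 0 := congrFun hMw i
      rw [map_sum, Finset.mul_sum, map_sum]
      rw [← h4]
      apply Finset.sum_congr rfl
      intro j _
      rw [map_smul, mul_smul_comm, map_smul, smul_eq_mul, mul_comm]
      rfl
    rw [← bs.sum_repr c, Finset.sum_mul, map_sum]
    apply Finset.sum_eq_zero
    intro i _
    rw [smul_mul_assoc, map_smul, h3, smul_zero]

/-- (P2) -/
theorem Sym.exists_kill (hB : Sym B) (h2 : (2 : K) ≠ 0) (hr : (finrank F K).Prime)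
    (hodd : Odd (finrank F K)) (hne : B ≠ ⊥) {e e' : K} (he : e ≠ 0) (he' : ∀ c : F, e' ≠ c • e) :
    ∃ β ∈ B, β e = 0 ∧ β e' ≠ 0 := by
  have hfd : FiniteDimensional F K := FiniteDimensional.of_finrank_pos hr.pos
  have hFfin : Finite F := Finite.of_injective _ (algebraMap F K).injective
  have hEfin : Finite (K →ₗ[F] K) := Finite.of_injective (fun f => (f : K → K)) DFunLike.coe_injective
  let A : Submodule F K :=
    { carrier := {y | ∀ β ∈ B, β 1 = 0 → β y = 0}
      add_mem' := fun {a b} ha hb β hβ h1 => by rw [map_add, ha β hβ h1, hb β hβ h1, add_zero]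
      zero_mem' := fun β _ _ => by rw [map_zero]
      smul_mem' := fun c a ha β hβ h1 => by rw [map_smul, ha β hβ h1, smul_zero] }
  have h1 : (1 : K) ∈ A := fun β hβ h1 => h1
  have hinv : ∀ a ∈ A, a⁻¹ ∈ A := by
    intro a ha
    by_cases h0 : a = 0
    · rw [h0, inv_zero]; exact A.zero_mem
    -- `B_1 = B_a`
    have hsub : {β | β ∈ B ∧ β 1 = 0} ⊆ {β | β ∈ B ∧ β a = 0} :=
      fun β hβ => ⟨hβ.1, ha β hβ.1 hβ.2⟩
    have hcard : Nat.card {β : K →ₗ[F] K | β ∈ B ∧ β a = 0} ≤
        Nat.card {β : K →ₗ[F] K | β ∈ B ∧ β 1 = 0} := by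
      refine Nat.card_le_card_of_injective
        (fun β => ⟨Ext.cj F a β.1, hB.cj _ β.2.1 a, by
          rw [cj_apply, mul_one, β.2.2, mul_zero]⟩) ?_
      rintro ⟨β, hβ⟩ ⟨γ, hγ⟩ hβγ
      apply Subtype.ext
      have h3 : Ext.cj F a β = Ext.cj F a γ := congrArg Subtype.val hβγ
      change β = γ
      ext x
      have h4 := LinearMap.congr_fun h3 (a⁻¹ * x)
      rw [cj_apply, cj_apply, ← mul_assoc, mul_inv_cancel₀ h0, one_mul] at h4
      exact mul_left_cancel₀ h0 h4
    have heq : {β : K →ₗ[F] K | β ∈ B ∧ β 1 = 0} = {β | β ∈ B ∧ β a = 0} := by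
      refine Set.eq_of_subset_of_ncard_le hsub ?_ (Set.toFinite _)
      rw [← Nat.card_coe_set_eq, ← Nat.card_coe_set_eq]
      exact hcard
    intro β hβ hβ1
    have h3 : Ext.cj F a⁻¹ β ∈ {β : K →ₗ[F] K | β ∈ B ∧ β a = 0} := by
      refine ⟨hB.cj _ hβ _, ?_⟩
      rw [cj_apply, inv_mul_cancel₀ h0, hβ1, mul_zero]
    rw [← heq] at h3
    have h4 := h3.2
    rw [cj_apply, mul_one] at h4
    exact (mul_eq_zero.1 h4).resolve_left (inv_ne_zero h0)
  rcases hua h2 hr A h1 hinv with h3 | h3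
  · exfalso
    obtain ⟨β, hβ, hβ0⟩ := Submodule.exists_mem_ne_zero_of_ne_bot hne
    obtain ⟨z, hz, hβz⟩ := exists_ker_of_skew h2 hodd (hB.skew β hβ)
    apply hβ0
    have h4 : ∀ x, Ext.cj F z β x = 0 := by
      intro x
      have hx : x ∈ A := by rw [h3]; trivial
      exact hx _ (hB.cj _ hβ z) (by rw [cj_apply, mul_one, hβz, mul_zero])
    ext x
    have h5 := h4 (z⁻¹ * x)
    rw [cj_apply, ← mul_assoc, mul_inv_cancel₀ hz, one_mul] at h5
    exact (mul_eq_zero.1 h5).resolve_left hz
  · by_contra hcon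
    push Not at hcon
    have h4 : e⁻¹ * e' ∈ A := by
      intro β hβ hβ1
      have h5 := hcon _ (hB.cj β hβ e⁻¹) (by
        rw [cj_apply, inv_mul_cancel₀ he, hβ1, mul_zero])
      rw [cj_apply] at h5
      exact (mul_eq_zero.1 h5).resolve_left (inv_ne_zero he)
    obtain ⟨c, hc⟩ := h3 _ h4
    apply he' c
    rw [Algebra.smul_def, ← hc, mul_comm, ← mul_assoc, mul_inv_cancel₀ he, one_mul]

/-- (F) A symmetric space stable under a transvection contains a decomposable map. -/
theorem Sym.wedge_of_transvection (hB : Sym B) (h2 : (2 : K) ≠ 0) (hr : (finrank F K).Prime)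
    (h3r : 3 ≤ finrank F K) (hne : B ≠ ⊥) {d e : K} (hd : d ≠ 0) (he : e ≠ 0)
    (hst : ∀ β ∈ B, ∃ β' ∈ B, ∀ a, β' a =
      β (a + Algebra.trace F K (d * a) • e) +
        Algebra.trace F K (e * β (a + Algebra.trace F K (d * a) • e)) • d) :
    ∀ x' y', wedge F x' y' ∈ B := by
  have hfd : FiniteDimensional F K := FiniteDimensional.of_finrank_pos hr.pos
  have key : ∀ β ∈ B, wedge F d (β e) ∈ B := by
    intro β hβ
    obtain ⟨β', hβ', h⟩ := hst β hβ
    have e1 : wedge F d (β e) = β' - β := by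
      ext a
      rw [LinearMap.sub_apply, h, wedge_apply, map_add, map_smul, mul_add, map_add, mul_smul_comm,
        map_smul, hB.skew β hβ, smul_zero, add_zero, hB.skew' hβ, mul_comm a (β e)]
      rw [neg_smul]
      abel
    rw [e1]
    exact B.sub_mem hβ' hβ
  -- choose `β` with `β e ∉ F d`
  obtain ⟨y, hy1, hy2⟩ : ∃ y, Algebra.trace F K (y * d) = 0 ∧ ∀ c : F, y ≠ c • e := by
    by_contra hcon
    push Not at hcon
    let T : K →ₗ[F] F := (Algebra.traceForm F K).flip d
    have hT : ∀ y, T y = Algebra.trace F K (y * d) := fun y => rfl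
    have h4 : LinearMap.ker T ≤ Submodule.span F {e} := by
      intro y hy
      obtain ⟨c, hc⟩ := hcon y (by rw [← hT]; exact hy)
      rw [hc]
      exact Submodule.smul_mem _ _ (Submodule.mem_span_singleton_self e)
    have h5 := Submodule.finrank_mono h4
    have h6 : finrank F (Submodule.span F {e}) ≤ 1 :=
      (finrank_span_le_card (R := F) ({e} : Set K)).trans (by simp)
    have h7 := LinearMap.finrank_range_add_finrank_ker T
    have h8 : finrank F (LinearMap.range T) ≤ 1 := by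
      refine (Submodule.finrank_le _).trans ?_
      rw [finrank_self]
    omega
  obtain ⟨β, hβ, hβy⟩ : ∃ β ∈ B, Algebra.trace F K (y * β e) ≠ 0 := by
    by_contra hcon
    push Not at hcon
    obtain ⟨c, hc⟩ := hB.ann h2 hr hne he (y := y) (fun β hβ => by
      rw [hB.skew' hβ, hcon β hβ, neg_zero])
    exact hy2 c hc
  refine hB.wedge_all h2 hr hd (fun c hc => hβy ?_) (key β hβ)
  rw [hc, mul_smul_comm, map_smul, hy1, smul_zero]

end SymB

end Cfsg.Agent.H884.Ext
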