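import Mathlib
import Cfsg.Agent.H884.Ext4
import Cfsg.Agent.H884.ExtB1

/-!
# Extension fields in orthogonal groups: the space `B` attached to a singular point (helper884)
-/

set_option autoImplicit false
set_option linter.unusedSectionVars false

namespace Cfsg.Agent.H884.Ext

open QuadraticMap Cfsg.Agent.LieClassical.OrthCore Cfsg.Agent.LieClassical.OrthTrans
  Cfsg.Agent.LieClassical.OrthSimple Cfsg.Agent.LieClassical.OrthFinite Cfsg.Agent.H883.Root
  Cfsg.Agent.H883.Sub Module

section Fourth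

variable {K : Type*} [Field K] [Finite K]

/-- Sums of fourth powers. -/
theorem closure_fourth (hK : 9 < Nat.card K) :
    AddSubgroup.closure (Set.range fun s : K => s ^ 4) = ⊤ := by
  classical
  set A := AddSubgroup.closure (Set.range fun s : K => s ^ 4) with hA
  have hgen : ∀ s : K, s ^ 4 ∈ A := fun s => AddSubgroup.subset_closure ⟨s, rfl⟩
  have hmul1 : ∀ s : K, ∀ b ∈ A, s ^ 4 * b ∈ A := by
    intro s b hb
    induction hb using AddSubgroup.closure_induction with
    | mem x hx =>
      obtain ⟨t, rfl⟩ := hx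
      change s ^ 4 * t ^ 4 ∈ A
      rw [← mul_pow]
      exact hgen _
    | zero => rw [mul_zero]; exact A.zero_mem
    | add x y _ _ hx hy => rw [mul_add]; exact A.add_mem hx hy
    | neg x _ hx => rw [mul_neg]; exact A.neg_mem hx
  have hmul : ∀ a ∈ A, ∀ b ∈ A, a * b ∈ A := by
    intro a ha b hb
    induction ha using AddSubgroup.closure_induction with
    | mem x hx =>
      obtain ⟨t, rfl⟩ := hx
      exact hmul1 t b hb
    | zero => rw [zero_mul]; exact A.zero_mem
    | add x y _ _ hx hy => rw [add_mul]; exact A.add_mem hx hy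
    | neg x _ hx => rw [neg_mul]; exact A.neg_mem hx
  let R : Subring K :=
    { A with
      mul_mem' := fun {a b} ha hb => hmul a ha b hb
      one_mem' := by
        have := hgen 1
        rwa [one_pow] at this }
  have hR : ∀ a, a ∈ R ↔ a ∈ A := fun a => Iff.rfl
  have := Fintype.ofFinite K
  have := Fintype.ofFinite R
  let _ : Field R := Fintype.fieldOfDomain R
  have hcard : Fintype.card K = Fintype.card R ^ finrank R K := Module.card_eq_pow_finrank
  have hpos : 0 < finrank R K := finrank_pos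
  by_cases h1 : finrank R K = 1
  · have h2 : Fintype.card K = Fintype.card R := by rw [hcard, h1, pow_one]
    have h3 : Function.Surjective (Subtype.val : R → K) :=
      (Fintype.bijective_iff_injective_and_card _).2 ⟨Subtype.val_injective, h2.symm⟩ |>.2
    rw [eq_top_iff]
    intro x _
    obtain ⟨y, rfl⟩ := h3 x
    exact y.2
  · exfalso
    have h2 : Nat.card R ^ 2 ≤ Nat.card K := by
      rw [Nat.card_eq_fintype_card, Nat.card_eq_fintype_card, hcard]
      exact Nat.pow_le_pow_right Fintype.card_pos (by omega)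
    -- the number of fourth powers
    have h3 : Nat.card (powMonoidHom 4 : Kˣ →* Kˣ).ker ≤ 4 := by
      have e : (powMonoidHom 4 : Kˣ →* Kˣ).ker = rootsOfUnity 4 K := by
        ext u
        rw [MonoidHom.mem_ker, mem_rootsOfUnity]
        rfl
      rw [e]
      exact card_rootsOfUnity K 4
    have h4 := Subgroup.card_mul_index (powMonoidHom 4 : Kˣ →* Kˣ).ker
    rw [Subgroup.index_ker, Nat.card_units] at h4
    have h5 : Nat.card (powMonoidHom 4 : Kˣ →* Kˣ).range + 1 ≤ Nat.card R := by
      have h6 : Nat.card (Option (powMonoidHom 4 : Kˣ →* Kˣ).range) ≤ Nat.card R := by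
        let f : Option (powMonoidHom 4 : Kˣ →* Kˣ).range → R := fun o =>
          match o with
          | none => 0
          | some u => ⟨((u : Kˣ) : K), by
              obtain ⟨s, hs⟩ := u.2
              have h7 : ((u : Kˣ) : K) = (s : K) ^ 4 := by
                rw [← hs]; rfl
              rw [h7]
              exact hgen _⟩
        refine Nat.card_le_card_of_injective f ?_
        rintro (_ | u) (_ | v) h
        · rfl
        · exfalso
          have h5 : (0 : K) = ((v : Kˣ) : K) := congrArg Subtype.val h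
          exact (v : Kˣ).ne_zero h5.symm
        · exfalso
          have h5 : ((u : Kˣ) : K) = 0 := congrArg Subtype.val h
          exact (u : Kˣ).ne_zero h5
        · have h5 : ((u : Kˣ) : K) = ((v : Kˣ) : K) := congrArg Subtype.val h
          congr 1
          exact Subtype.ext (Units.ext h5)
      rwa [Finite.card_option] at h6
    generalize Nat.card (powMonoidHom 4 : Kˣ →* Kˣ).range = m at h4 h5
    generalize Nat.card (powMonoidHom 4 : Kˣ →* Kˣ).ker = k at h3 h4
    have h8 : 1 < Nat.card K := by omega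
    have h9 : Nat.card K ≤ 4 * m + 1 := by
      have : k * m ≤ 4 * m := Nat.mul_le_mul_right _ h3
      omega
    generalize Nat.card R = ρ at h2 h5
    generalize Nat.card K = κ at *
    have h10 : m + 1 ≤ ρ := h5
    have h11 : 3 ≤ m := by omega
    nlinarith

end Fourth

variable {F K V : Type*} [Field F] [Field K] [Algebra F K] [AddCommGroup V] [Module F V] [Module K V]
  [IsScalarTower F K V] {Q : QuadraticForm F V} {QK : QuadraticForm K V}

/-- `X` contains the transformation attached to `β`. -/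
def HasB (QK : QuadraticForm K V) (X : Subgroup (V ≃ₗ[F] V)) (v : V) (β : K →ₗ[F] K) : Prop :=
  ∃ g ∈ X, ∀ x, g x = x + β (polar QK v x) • v

variable {X : Subgroup (V ≃ₗ[F] V)} {v v' : V} {β γ : K →ₗ[F] K}

theorem HasB.zero : HasB QK X v (0 : K →ₗ[F] K) := ⟨1, X.one_mem, fun x => by simp⟩

theorem HasB.add (hv : QK v = 0) (h1 : HasB QK X v β) (h2 : HasB QK X v γ) :
    HasB QK X v (β + γ) := by
  obtain ⟨g, hg, hgx⟩ := h1
  obtain ⟨k, hk, hkx⟩ := h2
  refine ⟨g * k, X.mul_mem hg hk, fun x => ?_⟩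
  rw [LinearEquiv.mul_apply, hkx, hgx, polar_add_right, polar_smul_right, polar_self_of_sing hv,
    smul_zero, add_zero, LinearMap.add_apply, add_smul]
  abel

theorem HasB.neg (hv : QK v = 0) (h1 : HasB QK X v β) : HasB QK X v (-β) := by
  obtain ⟨g, hg, hgx⟩ := h1
  refine ⟨g⁻¹, X.inv_mem hg, fun x => ?_⟩
  have h2 : g (x + (-β) (polar QK v x) • v) = x := by
    rw [hgx, polar_add_right, polar_smul_right, polar_self_of_sing hv, smul_zero, add_zero,
      LinearMap.neg_apply, neg_smul, neg_add_cancel_right]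
  apply g.injective
  rw [h2]
  exact g.apply_symm_apply x

theorem HasB.sub (hv : QK v = 0) (h1 : HasB QK X v β) (h2 : HasB QK X v γ) :
    HasB QK X v (β - γ) := by
  rw [sub_eq_add_neg]
  exact h1.add hv (h2.neg hv)

theorem HasB.nsmul (hv : QK v = 0) (h1 : HasB QK X v β) (n : ℕ) : HasB QK X v (n • β) := by
  induction n with
  | zero => rw [zero_smul]; exact HasB.zero
  | succ n ih => rw [succ_nsmul]; exact ih.add hv h1

theorem HasB.half [Finite K] (h2 : (2 : K) ≠ 0) (hv : QK v = 0) (h1 : HasB QK X v (β + β)) :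
    HasB QK X v β := by
  obtain ⟨p, hp⟩ := CharP.exists K
  have hpp : p.Prime := (CharP.char_is_prime_or_zero K p).resolve_right (by
    rintro rfl
    have : CharZero K := CharP.charP_to_charZero K
    exact not_finite K)
  have hp2 : p ≠ 2 := by
    rintro rfl
    exact h2 (CharTwo.two_eq_zero)
  obtain ⟨k, hk⟩ := hpp.odd_of_ne_two hp2
  have h3 := h1.nsmul hv (k + 1)
  have e : (k + 1) • (β + β) = β := by
    rw [← two_nsmul, smul_smul, show (k + 1) * 2 = p + 1 by omega, succ_nsmul]
    have : p • β = 0 := by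
      ext a
      rw [LinearMap.smul_apply, LinearMap.zero_apply, nsmul_eq_mul, CharP.cast_eq_zero, zero_mul]
    rw [this, zero_add]
  rwa [e] at h3

theorem HasB.skew (h : TF Q QK) (hXO : X ≤ O Q) (hH : Hyp QK v v') (h1 : HasB QK X v β) (a : K) :
    Algebra.trace F K (a * β a) = 0 := by
  obtain ⟨g, hg, hgx⟩ := h1
  have h2 := hXO hg (a • v')
  rw [hgx, h.tr, h.tr, polar_smul_right, hH.pair, smul_eq_mul, mul_one, Q_add,
    QuadraticMap.map_smul, QuadraticMap.map_smul, hH.left, hH.right, polar_smul_left,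
    polar_smul_right, hH.pair'] at h2
  simpa using h2

theorem HasB.conj [Finite K] [Nontrivial V] (h : TF Q QK) (hXO : X ≤ O Q) {k : V ≃ₗ[F] V}
    (hk : k ∈ X) (hlin : ∀ (c : K) (x : V), k (c • x) = c • k x) (h1 : HasB QK X v β) :
    HasB QK X (k v) β := by
  obtain ⟨g, hg, hgx⟩ := h1
  refine ⟨k * g * k⁻¹, X.mul_mem (X.mul_mem hk hg) (X.inv_mem hk), fun x => ?_⟩
  have h2 : k (k⁻¹ x) = x := k.apply_symm_apply x
  have h3 : polar QK (k v) x = polar QK v (k⁻¹ x) := by
    have := h.polar_sigma (hXO hk) (σ := RingEquiv.refl K) hlin v (k⁻¹ x)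
    rw [h2] at this
    exact this
  rw [LinearEquiv.mul_apply, LinearEquiv.mul_apply, hgx, map_add, hlin, h2, h3]

theorem HasB.smul {c : K} (h1 : HasB QK X (c • v) β) : HasB QK X v (cj F c β) := by
  obtain ⟨g, hg, hgx⟩ := h1
  refine ⟨g, hg, fun x => ?_⟩
  rw [hgx, cj_apply, polar_smul_left, smul_smul, smul_eq_mul, mul_comm c (β _)]

/-- The torus. -/
def torLin (QK : QuadraticForm K V) (v v' : V) (e : K) : V →ₗ[K] V :=
  LinearMap.id + (e - 1) • (polarBilin QK v').smulRight v + (e⁻¹ - 1) • (polarBilin QK v).smulRight v'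

theorem torLin_apply (e : K) (x : V) : torLin QK v v' e x =
    x + (e - 1) • polar QK v' x • v + (e⁻¹ - 1) • polar QK v x • v' := rfl

theorem torLin_comp (hH : Hyp QK v v') {e : K} (he : e ≠ 0) (x : V) :
    torLin QK v v' e (torLin QK v v' e⁻¹ x) = x := by
  rw [torLin_apply, torLin_apply]
  simp only [polar_add_right, polar_smul_right, hH.polar_left, hH.polar_right, hH.pair, hH.pair',
    smul_eq_mul, mul_zero, mul_one, add_zero, inv_inv, smul_smul]
  have h1 : e * e⁻¹ = 1 := mul_inv_cancel₀ he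
  have e1 : ∀ (a b : K), x + (e⁻¹ - 1) • a • v + (e - 1) • b • v' +
      ((e - 1) * (a + (e⁻¹ - 1) * a)) • v + ((e⁻¹ - 1) * (b + (e - 1) * b)) • v' =
      x + ((e * e⁻¹ - 1) * a) • v + ((e * e⁻¹ - 1) * b) • v' := by
    intro a b
    module
  have e2 := e1 (polar QK v' x) (polar QK v x)
  rw [h1, sub_self, zero_mul, zero_mul, zero_smul, zero_smul, add_zero, add_zero] at e2
  simp only [smul_smul] at e2
  exact e2

/-- The torus element. -/
def tor (QK : QuadraticForm K V) (v v' : V) (hH : Hyp QK v v') (e : K) (he : e ≠ 0) :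
    V ≃ₗ[K] V :=
  LinearEquiv.ofLinearMap (torLin QK v v' e) (torLin QK v v' e⁻¹)
    (by
      ext x
      exact torLin_comp hH he x)
    (by
      ext x
      have := torLin_comp hH (inv_ne_zero he) x
      rw [inv_inv] at this
      exact this)

theorem tor_apply (hH : Hyp QK v v') {e : K} (he : e ≠ 0) (x : V) : tor QK v v' hH e he x =
    x + (e - 1) • polar QK v' x • v + (e⁻¹ - 1) • polar QK v x • v' := rfl

theorem tor_mem_O (hH : Hyp QK v v') {e : K} (he : e ≠ 0) : tor QK v v' hH e he ∈ O QK := by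
  intro x
  rw [tor_apply, Q_add, Q_add]
  simp only [QuadraticMap.map_smul, polar_add_left, polar_smul_right, polar_smul_left,
    hH.left, hH.right, hH.pair, smul_eq_mul, mul_zero, add_zero, mul_one]
  rw [polar_comm QK x v, polar_comm QK x v']
  have h1 : e * e⁻¹ = 1 := mul_inv_cancel₀ he
  linear_combination (polar QK v x * polar QK v' x) * h1

theorem tor_left (hH : Hyp QK v v') {e : K} (he : e ≠ 0) : tor QK v v' hH e he v = e • v := by
  rw [tor_apply, hH.pair', hH.polar_left]
  module

section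

variable [Finite K] [FiniteDimensional F V]

theorem Over.tor_mem (hX : Over Q K X) (h : TF Q QK) (hG : Good Q) (hH : Hyp QK v v') {e : K}
    (he : e ≠ 0) : ∃ k ∈ X, (∀ (c : K) (x : V), k (c • x) = c • k x) ∧ k v = (e ^ 2) • v := by
  set t := (tor QK v v' hH e he).restrictScalars F with ht
  have htlin : ∀ (c : K) (x : V), t (c • x) = c • t x := fun c x =>
    (tor QK v v' hH e he).map_smul c x
  have htv : t v = e • v := tor_left hH he
  have htt : ∀ x, (t * t) x = t (t x) := fun x => rfl
  have hlin : ∀ (c : K) (x : V), (t * t) (c • x) = c • (t * t) x := by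
    intro c x
    rw [htt, htt, htlin, htlin]
  refine ⟨t * t, hX.ge _ (sq_mem_E hG (h.restrict_mem_O (tor_mem_O hH he)))
    (mem_NK_of_linear hlin), hlin, ?_⟩
  rw [htt, htv, htlin, htv, smul_smul, pow_two]

/-- Stability of `B` under the torus. -/
theorem HasB.tor (h : TF Q QK) (hG : Good Q) (hX : Over Q K X) (hH : Hyp QK v v')
    (h1 : HasB QK X v β) (e : K) : HasB QK X v (cj F (e ^ 2) β) := by
  have hXO : X ≤ O Q := fun g hg => E_le_O (hX.le hg)
  have hnt : Nontrivial V := ⟨⟨v, 0, hH.left_ne⟩⟩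
  by_cases he : e = 0
  · have : cj F (e ^ 2) β = 0 := by
      ext a
      rw [he, cj_apply]
      simp
    rw [this]
    exact HasB.zero
  · obtain ⟨k, hk, hlin, hkv⟩ := hX.tor_mem h hG hH he
    have h2 := h1.conj h hXO hk hlin
    rw [hkv] at h2
    exact h2.smul

/-- `c β + β c`. -/
def dv (F : Type*) {K : Type*} [Field F] [Field K] [Algebra F K] (c : K) (β : K →ₗ[F] K) :
    K →ₗ[F] K := LinearMap.mulLeft F c ∘ₗ β + β ∘ₗ LinearMap.mulLeft F c

theorem dv_apply (c : K) (β : K →ₗ[F] K) (a : K) : dv F c β a = c * β a + β (c * a) := rfl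

theorem HasB.dv_fourth (h : TF Q QK) (hG : Good Q) (hX : Over Q K X) (hH : Hyp QK v v')
    (h1 : HasB QK X v β) (s : K) : HasB QK X v (dv F (s ^ 4) β) := by
  have hv := hH.left
  have a1 := h1.tor h hG hX hH (s ^ 2 + 1)
  have a2 := h1.tor h hG hX hH (s ^ 2 - 1)
  have a3 := h1.tor h hG hX hH (s ^ 2)
  have a4 := h1.tor h hG hX hH s
  have a5 := (((a1.add hv a2).sub hv (a3.add hv a3)).sub hv (h1.add hv h1)).sub hv (a4.nsmul hv 8)
  apply HasB.half h.two hv
  convert a5 using 1
  ext a
  have e1 : β ((s ^ 2 + 1) ^ 2 * a) = β (s ^ 4 * a) + 2 * β (s ^ 2 * a) + β a := by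
    have : (s ^ 2 + 1) ^ 2 * a = s ^ 4 * a + (s ^ 2 * a + s ^ 2 * a) + a := by ring
    rw [this, map_add, map_add, map_add]
    ring
  have e2 : β ((s ^ 2 - 1) ^ 2 * a) = β (s ^ 4 * a) - 2 * β (s ^ 2 * a) + β a := by
    have : (s ^ 2 - 1) ^ 2 * a = s ^ 4 * a - (s ^ 2 * a + s ^ 2 * a) + a := by ring
    rw [this, map_add, map_sub, map_add]
    ring
  have e3 : (s ^ 2) ^ 2 * a = s ^ 4 * a := by ring
  have e4 : (8 • Ext.cj F (s ^ 2) β) a = 8 * (s ^ 2 * β (s ^ 2 * a)) := by
    rw [LinearMap.smul_apply, cj_apply, nsmul_eq_mul]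
    norm_num
  simp only [LinearMap.add_apply, LinearMap.sub_apply, dv_apply, cj_apply, e1, e2, e3, e4]
  ring

theorem HasB.dv (h : TF Q QK) (hG : Good Q) (hX : Over Q K X) (hH : Hyp QK v v')
    (hK : 9 < Nat.card K) (h1 : HasB QK X v β) (c : K) : HasB QK X v (dv F c β) := by
  have hv := hH.left
  have hc : c ∈ AddSubgroup.closure (Set.range fun s : K => s ^ 4) := by
    rw [closure_fourth hK]; trivial
  induction hc using AddSubgroup.closure_induction with
  | mem x hx =>
    obtain ⟨s, rfl⟩ := hx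
    exact h1.dv_fourth h hG hX hH s
  | zero =>
    have : Ext.dv F (0 : K) β = 0 := by
      ext a
      rw [dv_apply]
      simp
    rw [this]
    exact HasB.zero
  | add x y _ _ hx hy =>
    have : Ext.dv F (x + y) β = Ext.dv F x β + Ext.dv F y β := by
      ext a
      rw [LinearMap.add_apply, dv_apply, dv_apply, dv_apply, add_mul, add_mul, map_add]
      ring
    rw [this]
    exact hx.add hv hy
  | neg x _ hx =>
    have : Ext.dv F (-x) β = - Ext.dv F x β := by
      ext a
      rw [LinearMap.neg_apply, dv_apply, dv_apply, neg_mul, neg_mul, map_neg]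
      ring
    rw [this]
    exact hx.neg hv

theorem HasB.smulF (h : TF Q QK) (hG : Good Q) (hX : Over Q K X) (hH : Hyp QK v v')
    (hK : 9 < Nat.card K) (h1 : HasB QK X v β) (c : F) : HasB QK X v (c • β) := by
  apply HasB.half h.two hH.left
  convert h1.dv h hG hX hH hK (algebraMap F K c) using 1
  ext a
  rw [LinearMap.add_apply, LinearMap.smul_apply, dv_apply, ← Algebra.smul_def,
    ← Algebra.smul_def, map_smul]

theorem HasB.cj (h : TF Q QK) (hG : Good Q) (hX : Over Q K X) (hH : Hyp QK v v')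
    (hK : 9 < Nat.card K) (h1 : HasB QK X v β) (c : K) : HasB QK X v (cj F c β) := by
  have hv := hH.left
  apply HasB.half h.two hv
  have h2 := (h1.dv h hG hX hH hK c).dv h hG hX hH hK c
  have h3 := h1.dv h hG hX hH hK (c ^ 2)
  convert h2.sub hv h3 using 1
  ext a
  have e1 : c * (c * a) = c ^ 2 * a := by ring
  simp only [LinearMap.add_apply, LinearMap.sub_apply, dv_apply, cj_apply, e1]
  ring

/-- The space `B`. -/
def BB (h : TF Q QK) (hG : Good Q) (hX : Over Q K X) (hH : Hyp QK v v') (hK : 9 < Nat.card K) :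
    Submodule F (K →ₗ[F] K) where
  carrier := {β | HasB QK X v β}
  add_mem' h1 h2 := h1.add hH.left h2
  zero_mem' := HasB.zero
  smul_mem' c _ h1 := h1.smulF h hG hX hH hK c

theorem mem_BB (h : TF Q QK) (hG : Good Q) (hX : Over Q K X) (hH : Hyp QK v v')
    (hK : 9 < Nat.card K) : β ∈ BB h hG hX hH hK ↔ HasB QK X v β := Iff.rfl

theorem sym_BB (h : TF Q QK) (hG : Good Q) (hX : Over Q K X) (hH : Hyp QK v v')
    (hK : 9 < Nat.card K) : Sym (BB h hG hX hH hK) where
  skew _ hβ a := HasB.skew h (fun _ hg => E_le_O (hX.le hg)) hH hβ a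
  cj _ hβ c := HasB.cj h hG hX hH hK hβ c

end

end Cfsg.Agent.H884.Ext
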