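import Mathlib
import Cfsg.Agent.H884.ExtB2

/-!
# Extension fields in orthogonal groups: maximal intersections (helper884)
-/

set_option autoImplicit false
set_option linter.unusedSectionVars false

namespace Cfsg.Agent.H884.Ext

open QuadraticMap Cfsg.Agent.LieClassical.OrthCore Cfsg.Agent.LieClassical.OrthTrans
  Cfsg.Agent.LieClassical.OrthSimple Cfsg.Agent.LieClassical.OrthFinite Cfsg.Agent.H883.Root
  Cfsg.Agent.H883.Sub Module

variable {F K V : Type*} [Field F] [Field K] [Algebra F K] [AddCommGroup V] [Module F V] [Module K V]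
  [IsScalarTower F K V] {Q : QuadraticForm F V} {QK : QuadraticForm K V}

variable {X : Subgroup (V ≃ₗ[F] V)} {v v' : V} {β γ : K →ₗ[F] K}

section

variable [Finite K]

/-- A map of rank one. -/
theorem exists_rank_one {N : K →ₗ[F] K} {d : K} (hd : d ≠ 0) (hN0 : N ≠ 0)
    (hN : ∀ c, ∃ x : F, N c = x • d) :
    ∃ e : K, e ≠ 0 ∧ ∀ c, N c = Algebra.trace F K (e * c) • d := by
  obtain ⟨a, ha⟩ : ∃ a : K, Algebra.trace F K (a * d) = 1 := by
    by_contra hcon
    push Not at hcon
    apply hd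
    apply trace_ext (F := F)
    intro c
    by_contra h0
    apply hcon ((Algebra.trace F K (c * d))⁻¹ • c)
    rw [smul_mul_assoc, map_smul, smul_eq_mul, inv_mul_cancel₀ h0]
  obtain ⟨e, he⟩ := exists_trace ((Algebra.traceForm F K a) ∘ₗ N)
  have h1 : ∀ c, N c = Algebra.trace F K (e * c) • d := by
    intro c
    obtain ⟨x, hx⟩ := hN c
    rw [← he]
    change N c = Algebra.trace F K (a * N c) • d
    rw [hx, mul_smul_comm, map_smul, ha, smul_eq_mul, mul_one]
  refine ⟨e, ?_, h1⟩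
  rintro rfl
  apply hN0
  ext c
  rw [h1, zero_mul, map_zero, zero_smul, LinearMap.zero_apply]

variable [FiniteDimensional F V]

/-- Conjugation by an element stabilising the point. -/
theorem HasB.stab (h : TF Q QK) (hXO : X ≤ O Q) {g : V ≃ₗ[F] V} (hg : g ∈ X) {T Tt : K →ₗ[F] K}
    (hT : ∀ c, g (c • v) = T c • v)
    (hTt : ∀ c a, Algebra.trace F K (c * Tt a) = Algebra.trace F K (T c * a))
    (h1 : HasB QK X v β) : HasB QK X v (T ∘ₗ β ∘ₗ Tt) := by
  obtain ⟨k, hk, hkx⟩ := h1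
  refine ⟨g * k * g⁻¹, X.mul_mem (X.mul_mem hg hk) (X.inv_mem hg), fun x => ?_⟩
  have h2 : g (g⁻¹ x) = x := g.apply_symm_apply x
  have h3 : polar QK v (g⁻¹ x) = Tt (polar QK v x) := by
    apply trace_ext' (F := F)
    intro c
    rw [hTt, ← h.smul_left, ← h.smul_left, ← hT, ← polar_map (hXO hg) (c • v), h2]
  rw [LinearEquiv.mul_apply, LinearEquiv.mul_apply, hkx, map_add, hT, h2, h3]
  rfl

/-- The adjoint of a map of `K`. -/
theorem exists_adj (T : K →ₗ[F] K) : ∃ Tt : K →ₗ[F] K,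
    ∀ c a, Algebra.trace F K (c * Tt a) = Algebra.trace F K (T c * a) := by
  choose f hf using fun a : K => exists_trace (F := F) ((Algebra.traceForm F K a) ∘ₗ T)
  have hf' : ∀ c a, Algebra.trace F K (c * f a) = Algebra.trace F K (T c * a) := by
    intro c a
    rw [mul_comm c, ← hf, mul_comm]
    rfl
  refine ⟨{ toFun := f, map_add' := fun a b => ?_, map_smul' := fun x a => ?_ }, hf'⟩
  · apply trace_ext' (F := F)
    intro c
    rw [hf', mul_add, map_add, mul_add, map_add, hf', hf']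
  · apply trace_ext' (F := F)
    intro c
    rw [hf', RingHom.id_apply, mul_smul_comm, map_smul, mul_smul_comm, map_smul, hf']

/-- (F') -/
theorem wedge_of_transvection (h : TF Q QK) (hG : Good Q) (hX : Over Q K X) (hH : Hyp QK v v')
    (hK : 9 < Nat.card K) (hr : (finrank F K).Prime) (h3r : 3 ≤ finrank F K)
    (hne : BB h hG hX hH hK ≠ ⊥) {g : V ≃ₗ[F] V} (hg : g ∈ X) {d e : K} (hd : d ≠ 0) (he : e ≠ 0)
    (hT : ∀ c : K, g (c • v) = (c + Algebra.trace F K (e * c) • d) • v) :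
    ∀ x y, HasB QK X v (wedge F x y) := by
  have hXO : X ≤ O Q := fun g hg => E_le_O (hX.le hg)
  refine (sym_BB h hG hX hH hK).wedge_of_transvection h.two hr h3r hne hd he ?_
  intro β hβ
  let T : K →ₗ[F] K := LinearMap.id + (Algebra.traceForm F K e).smulRight d
  let Tt : K →ₗ[F] K := LinearMap.id + (Algebra.traceForm F K d).smulRight e
  have hTa : ∀ c, T c = c + Algebra.trace F K (e * c) • d := fun c => rfl
  have hTta : ∀ c, Tt c = c + Algebra.trace F K (d * c) • e := fun c => rfl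
  refine ⟨T ∘ₗ β ∘ₗ Tt, HasB.stab h hXO hg (T := T) (Tt := Tt) hT ?_ hβ, fun a => rfl⟩
  intro c a
  rw [hTta, hTa, mul_add, add_mul, map_add, map_add, mul_smul_comm, map_smul, smul_mul_assoc,
    map_smul, smul_eq_mul, smul_eq_mul, mul_comm c e]
  ring

/-- (G') -/
theorem rank_one_of_ker (h : TF Q QK) (hG : Good Q) (hX : Over Q K X) (hH : Hyp QK v v')
    (hK : 9 < Nat.card K) (hr : (finrank F K).Prime) (hne : BB h hG hX hH hK ≠ ⊥)
    {n : ℕ} (hmin : ∀ γ : K →ₗ[F] K, HasB QK X v γ → γ ≠ 0 → finrank F (LinearMap.ker γ) ≤ n)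
    {g : V ≃ₗ[F] V} (hg : g ∈ X) {N : K →ₗ[F] K} (hN : ∀ c : K, g (c • v) = (c + N c) • v)
    (hNN : ∀ c, N (N c) = 0) (hN0 : N ≠ 0) (hker : n < finrank F (LinearMap.ker N)) :
    ∃ d e : K, d ≠ 0 ∧ e ≠ 0 ∧ ∀ c, N c = Algebra.trace F K (e * c) • d := by
  have hfd : FiniteDimensional F K := FiniteDimensional.of_finrank_pos hr.pos
  have hXO : X ≤ O Q := fun g hg => E_le_O (hX.le hg)
  have hv := hH.left
  obtain ⟨Nt, hNt⟩ := exists_adj N
  have hNtNt : ∀ a, Nt (Nt a) = 0 := by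
    intro a
    apply trace_ext (F := F)
    intro c
    rw [hNt, hNt, hNN, zero_mul, map_zero]
  let T : K →ₗ[F] K := LinearMap.id + N
  let Tt : K →ₗ[F] K := LinearMap.id + Nt
  have hTa : ∀ c, T c = c + N c := fun c => rfl
  have hTta : ∀ c, Tt c = c + Nt c := fun c => rfl
  have hadj : ∀ c a, Algebra.trace F K (c * Tt a) = Algebra.trace F K (T c * a) := by
    intro c a
    rw [hTta, hTa, mul_add, add_mul, map_add, map_add, hNt]
  have hzero : ∀ β, HasB QK X v β → ∀ a, N (β (Nt a)) = 0 := by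
    intro β hβ
    have h1 := HasB.stab h hXO hg (T := T) (Tt := Tt) hN hadj hβ
    have h2 := HasB.stab h hXO hg (T := T) (Tt := Tt) hN hadj h1
    have h3 : HasB QK X v (N ∘ₗ β ∘ₗ Nt) := by
      apply HasB.half h.two hv
      convert ((h2.sub hv (h1.add hv h1)).add hv hβ) using 1
      ext a
      simp only [LinearMap.add_apply, LinearMap.sub_apply, LinearMap.comp_apply, hTa, hTta,
        map_add, hNN, hNtNt, map_zero, add_zero]
      ring
    by_contra hcon
    push Not at hcon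
    obtain ⟨a, ha⟩ := hcon
    have h4 : N ∘ₗ β ∘ₗ Nt ≠ 0 := by
      intro h0
      exact ha (LinearMap.congr_fun h0 a)
    have h5 := hmin _ h3 h4
    have h6 : finrank F (LinearMap.range (N ∘ₗ β ∘ₗ Nt)) ≤ finrank F (LinearMap.range N) :=
      Submodule.finrank_mono (LinearMap.range_comp_le_range _ _)
    have h7 := LinearMap.finrank_range_add_finrank_ker (N ∘ₗ β ∘ₗ Nt)
    have h8 := LinearMap.finrank_range_add_finrank_ker N
    omega
  -- `Nt` has rank one
  obtain ⟨x0, hx0⟩ : ∃ x0, Nt x0 ≠ 0 := by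
    by_contra hcon
    push Not at hcon
    apply hN0
    ext c
    rw [LinearMap.zero_apply]
    apply trace_ext (F := F)
    intro a
    rw [mul_comm, ← hNt, hcon, mul_zero, map_zero]
  have hspan : ∀ y, ∃ x : F, Nt y = x • Nt x0 := by
    intro y
    refine (sym_BB h hG hX hH hK).ann h.two hr hne hx0 fun β hβ => ?_
    rw [mul_comm, hNt' hNt, hzero β hβ, zero_mul, map_zero]
  set e := Nt x0 with he
  obtain ⟨a0, ha0⟩ : ∃ a0 : K, Algebra.trace F K (e * a0) = 1 := by
    by_contra hcon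
    push Not at hcon
    apply hx0
    apply trace_ext (F := F)
    intro c
    by_contra h0
    apply hcon ((Algebra.trace F K (c * e))⁻¹ • c)
    rw [mul_smul_comm, map_smul, smul_eq_mul, mul_comm e c, inv_mul_cancel₀ h0]
  have hN1 : ∀ a, Algebra.trace F K (e * a) = 0 → N a = 0 := by
    intro a ha
    apply trace_ext (F := F)
    intro c
    obtain ⟨x, hx⟩ := hspan c
    rw [mul_comm, ← hNt, hx, mul_smul_comm, map_smul, mul_comm a e, ha, smul_zero]
  have hN2 : ∀ c, N c = Algebra.trace F K (e * c) • N a0 := by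
    intro c
    have h1 := hN1 (c - Algebra.trace F K (e * c) • a0) (by
      rw [mul_sub, map_sub, mul_smul_comm, map_smul, ha0, smul_eq_mul, mul_one, sub_self])
    rwa [map_sub, map_smul, sub_eq_zero] at h1
  refine ⟨N a0, e, ?_, hx0, hN2⟩
  intro h0
  apply hN0
  ext c
  rw [hN2, h0, smul_zero, LinearMap.zero_apply]
where
  hNt' {N Nt : K →ₗ[F] K} (hNt : ∀ c a, Algebra.trace F K (c * Nt a) = Algebra.trace F K (N c * a))
      {c a : K} : Algebra.trace F K (c * Nt a) = Algebra.trace F K (N c * a) := hNt c a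

end

/-- The `K`-line as a subspace over `F`. -/
def ln (F K : Type*) {V : Type*} [Field F] [Field K] [Algebra F K] [AddCommGroup V] [Module F V]
    [Module K V] [IsScalarTower F K V] (v : V) : Submodule F V := (K ∙ v).restrictScalars F

theorem mem_ln {x : V} : x ∈ ln F K v ↔ ∃ c : K, c • v = x := Submodule.mem_span_singleton

theorem smul_mem_ln (c : K) : c • v ∈ ln F K v := mem_ln.2 ⟨c, rfl⟩

theorem finrank_ln (hv0 : v ≠ 0) : finrank F (ln F K v) = finrank F K := by
  have h1 : ln F K v = LinearMap.range ((LinearMap.toSpanSingleton K V v).restrictScalars F) := by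
    ext x
    rw [mem_ln]
    rfl
  rw [h1]
  apply LinearMap.finrank_range_of_inj
  exact smul_left_injective K hv0

/-- The `X`-orbit of a line. -/
def Orb (K : Type*) {F V : Type*} [Field F] [Field K] [Algebra F K] [AddCommGroup V] [Module F V]
    [Module K V] [IsScalarTower F K V] (X : Subgroup (V ≃ₗ[F] V)) (v : V) :
    Set (Submodule F V) := {U | ∃ g ∈ X, U = (ln F K v).map (g : V →ₗ[F] V)}

theorem map_mem_Orb {U : Submodule F V} (hU : U ∈ Orb K X v) {g : V ≃ₗ[F] V} (hg : g ∈ X) :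
    U.map (g : V →ₗ[F] V) ∈ Orb K X v := by
  obtain ⟨k, hk, rfl⟩ := hU
  refine ⟨g * k, X.mul_mem hg hk, ?_⟩
  rw [← Submodule.map_comp]
  rfl

theorem self_mem_Orb : ln F K v ∈ Orb K X v := ⟨1, X.one_mem, by
  change _ = Submodule.map LinearMap.id _
  rw [Submodule.map_id]⟩

theorem finrank_Orb (hv0 : v ≠ 0) {U : Submodule F V} (hU : U ∈ Orb K X v) :
    finrank F U = finrank F K := by
  obtain ⟨k, hk, rfl⟩ := hU
  rw [LinearEquiv.finrank_map_eq k]
  exact finrank_ln hv0

section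

variable [Finite K] [FiniteDimensional F V]

/-- The dichotomy for maximal intersections. -/
theorem dichotomy_max {U : Submodule F V} (hU : U ∈ Orb K X v) {d : ℕ}
    (hmax : ∀ U1 ∈ Orb K X v, ∀ U2 ∈ Orb K X v, U1 ≠ U2 → finrank F ↥(U1 ⊓ U2) ≤ d)
    (hd : finrank F ↥(U ⊓ ln F K v) = d) {k : V ≃ₗ[F] V} (hk : k ∈ X) {ν : V →ₗ[F] K}
    (hkν : ∀ u ∈ U, k u = u + ν u • v) (hν : ∀ c : K, ν (c • v) = 0) :
    (∀ u ∈ U, ν u • v ∈ U) ∨ ∀ u ∈ U, ν u • v ∈ U → u ∈ ln F K v := by
  by_cases hkU : U.map (k : V →ₗ[F] V) = U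
  · left
    intro u hu
    have h1 : k u ∈ U := by
      rw [← hkU]
      exact Submodule.mem_map_of_mem hu
    have h2 : ν u • v = k u - u := by rw [hkν u hu]; abel
    rw [h2]
    exact U.sub_mem h1 hu
  · right
    let P : V →ₗ[F] V := ((LinearMap.toSpanSingleton K V v).restrictScalars F) ∘ₗ ν
    have hP : ∀ x, P x = ν x • v := fun x => rfl
    let W : Submodule F V := U ⊓ U.comap P
    have hW : ∀ x, x ∈ W ↔ x ∈ U ∧ ν x • v ∈ U := fun x => Iff.rfl
    have h1 : W.map (k : V →ₗ[F] V) ≤ U ⊓ U.map (k : V →ₗ[F] V) := by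
      rintro _ ⟨x, hx, rfl⟩
      have hx' := (hW x).1 hx
      refine ⟨?_, Submodule.mem_map_of_mem hx'.1⟩
      change k x ∈ U
      rw [hkν x hx'.1]
      exact U.add_mem hx'.1 hx'.2
    have h2 : finrank F W ≤ d := by
      rw [← LinearEquiv.finrank_map_eq k W]
      exact (Submodule.finrank_mono h1).trans (hmax U hU _ (map_mem_Orb hU hk) (Ne.symm hkU))
    have h3 : U ⊓ ln F K v ≤ W := by
      intro x hx
      rw [hW]
      refine ⟨hx.1, ?_⟩
      obtain ⟨c, rfl⟩ := mem_ln.1 hx.2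
      rw [hν, zero_smul]
      exact U.zero_mem
    have h4 : U ⊓ ln F K v = W := Submodule.eq_of_le_of_finrank_le h3 (by rw [hd]; exact h2)
    intro u hu hu'
    have h5 : u ∈ W := (hW u).2 ⟨hu, hu'⟩
    rw [← h4] at h5
    exact h5.2

/-- The data produced by the maximal intersection argument. -/
def Special (K : Type*) {F V : Type*} [Field F] [Field K] [Algebra F K] [AddCommGroup V]
    [Module F V] [Module K V] [IsScalarTower F K V] (X : Subgroup (V ≃ₗ[F] V)) (U : Submodule F V)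
    (v : V) : Prop :=
  ∃ k ∈ X, ∃ ν : V →ₗ[F] K, (∀ u ∈ U, k u = u + ν u • v) ∧ (∀ u ∈ U, ν u • v ∈ U) ∧
    (∀ c : K, ν (c • v) = 0) ∧ (∃ u ∈ U, ν u ≠ 0) ∧
    ((∃ u ∈ U, u ∉ ln F K v ∧ ν u = 0) ∨ ∃ δ : K, ∀ u ∈ U, ∃ c : F, ν u = c • δ)

theorem exists_special [FiniteDimensional K V] (h : TF Q QK) (hG : Good Q) (hX : Over Q K X)
    (hH : Hyp QK v v') (hK : 9 < Nat.card K) (hr : (finrank F K).Prime) (hodd : Odd (finrank F K))
    (hne : BB h hG hX hH hK ≠ ⊥) {U : Submodule F V} (hU : U ∈ Orb K X v) {d : ℕ}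
    (hmax : ∀ U1 ∈ Orb K X v, ∀ U2 ∈ Orb K X v, U1 ≠ U2 → finrank F ↥(U1 ⊓ U2) ≤ d)
    (hd : finrank F ↥(U ⊓ ln F K v) = d) (hd1 : 1 ≤ d) (hne' : U ≠ ln F K v) :
    Special K X U v := by
  have hfd : FiniteDimensional F K := FiniteDimensional.of_finrank_pos hr.pos
  have hXO : X ≤ O Q := fun g hg => E_le_O (hX.le hg)
  have hv := hH.left
  have hv0 := hH.left_ne
  have hfr : finrank F U = finrank F K := finrank_Orb hv0 hU
  have hsym := sym_BB h hG hX hH hK
  -- `U` is totally singular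
  have hUs : ∀ u ∈ U, ∀ w ∈ U, polar Q u w = 0 := by
    obtain ⟨g, hg, rfl⟩ := hU
    rintro _ ⟨u, hu, rfl⟩ _ ⟨w, hw, rfl⟩
    obtain ⟨a, rfl⟩ := mem_ln.1 hu
    obtain ⟨b, rfl⟩ := mem_ln.1 hw
    change polar Q (g (a • v)) (g (b • v)) = 0
    rw [polar_map (hXO hg), h.smul_left, polar_smul_right, polar_self_of_sing hv]
    simp
  -- the set `Δ`
  let Δ : Submodule F K := U.comap ((LinearMap.toSpanSingleton K V v).restrictScalars F)
  have hΔ : ∀ δ, δ ∈ Δ ↔ δ • v ∈ U := fun δ => Iff.rfl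
  obtain ⟨δ, hδ, hδ0⟩ : ∃ δ, δ ∈ Δ ∧ δ ≠ 0 := by
    have h1 : U ⊓ ln F K v ≠ ⊥ := by
      intro h0
      rw [h0, finrank_bot] at hd
      omega
    obtain ⟨x, hx, hx0⟩ := Submodule.exists_mem_ne_zero_of_ne_bot h1
    obtain ⟨δ, rfl⟩ := mem_ln.1 hx.2
    exact ⟨δ, hx.1, fun h0 => hx0 (by rw [h0, zero_smul])⟩
  have hnotall : ¬ ∀ κ : K, κ • v ∈ U := by
    intro hall
    apply hne'
    symm
    apply Submodule.eq_of_le_of_finrank_eq
    · intro x hx
      obtain ⟨c, rfl⟩ := mem_ln.1 hx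
      exact hall c
    · rw [hfr, finrank_ln hv0]
  by_cases hE : ∃ u1 ∈ U, polar QK v u1 ≠ 0
  · obtain ⟨u1, hu1, ha1⟩ := hE
    have hu1' : u1 ∉ ln F K v := by
      intro hc
      obtain ⟨c, rfl⟩ := mem_ln.1 hc
      apply ha1
      rw [polar_smul_right, polar_self_of_sing hv, smul_zero]
    have hlin : ∀ (β : K →ₗ[F] K), ∃ ν : V →ₗ[F] K, ∀ x, ν x = β (polar QK v x) :=
      fun β => ⟨β ∘ₗ ((polarBilin QK v).restrictScalars F), fun x => rfl⟩
    by_cases hcase : ∃ u2 ∈ U, ∀ c : F, polar QK v u2 ≠ c • polar QK v u1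
    · obtain ⟨u2, hu2, h2⟩ := hcase
      obtain ⟨β, hβ, hβ1, hβ2⟩ := hsym.exists_kill h.two hr hodd hne ha1 h2
      obtain ⟨k, hk, hkx⟩ := hβ
      obtain ⟨ν, hν⟩ := hlin β
      have hν0 : ∀ c : K, ν (c • v) = 0 := by
        intro c
        rw [hν, polar_smul_right, polar_self_of_sing hv, smul_zero, map_zero]
      have hkν : ∀ u ∈ U, k u = u + ν u • v := fun u _ => by rw [hkx, hν]
      have hν1 : ν u1 = 0 := by rw [hν, hβ1]
      refine ⟨k, hk, ν, hkν, ?_, hν0, ⟨u2, hu2, by rw [hν]; exact hβ2⟩, Or.inl ⟨u1, hu1, hu1', hν1⟩⟩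
      rcases dichotomy_max hU hmax hd hk hkν hν0 with h3 | h3
      · exact h3
      · exfalso
        exact hu1' (h3 u1 hu1 (by rw [hν1, zero_smul]; exact U.zero_mem))
    · push Not at hcase
      have htr : Algebra.trace F K (polar QK v u1 * δ) = 0 := by
        have h3 := hUs _ ((hΔ δ).1 hδ) u1 hu1
        rw [h.smul_left] at h3
        rw [mul_comm]
        exact h3
      obtain ⟨β, hβ, hβ1⟩ := hsym.exists_value h.two hr hne ha1 htr
      obtain ⟨k, hk, hkx⟩ := hβ
      obtain ⟨ν, hν⟩ := hlin β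
      have hcδ : ∀ u ∈ U, ∃ c : F, ν u = c • δ := by
        intro u hu
        obtain ⟨c, hc⟩ := hcase u hu
        exact ⟨c, by rw [hν, hc, map_smul, hβ1]⟩
      refine ⟨k, hk, ν, fun u _ => by rw [hkx, hν], ?_, ?_, ⟨u1, hu1, by rw [hν, hβ1]; exact hδ0⟩,
        Or.inr ⟨δ, hcδ⟩⟩
      · intro u hu
        obtain ⟨c, hc⟩ := hcδ u hu
        rw [hc, smul_assoc]
        exact U.smul_mem c hδ
      · intro c
        rw [hν, polar_smul_right, polar_self_of_sing hv, smul_zero, map_zero]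
  · push Not at hE
    obtain ⟨u1, hu1, hu1'⟩ : ∃ u1 ∈ U, u1 ∉ ln F K v := by
      by_contra hcon
      push Not at hcon
      exact hne' (Submodule.eq_of_le_of_finrank_eq hcon (by rw [hfr, finrank_ln hv0]))
    have hu1v : ∀ c : K, u1 ≠ c • v := fun c hc => hu1' (hc ▸ smul_mem_ln c)
    have hlin : ∀ y : V, ∃ ν : V →ₗ[F] K, ∀ x, ν x = - polar QK y x :=
      fun y => ⟨-((polarBilin QK y).restrictScalars F), fun x => rfl⟩
    have key : ∀ y, polar QK v y = 0 → polar QK y u1 ∈ Δ →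
        ∀ u ∈ U, polar QK y u ∈ Δ := by
      intro y hy hyu1 u hu
      obtain ⟨ν, hν⟩ := hlin y
      have hν0 : ∀ c : K, ν (c • v) = 0 := by
        intro c
        rw [hν, polar_smul_right, polar_comm QK y v, hy, smul_zero, neg_zero]
      have hkν : ∀ u ∈ U, rho F QK v y hv hy u = u + ν u • v := by
        intro u hu
        rw [rho_perp hv hy (hE u hu), hν, neg_smul, sub_eq_add_neg]
      rcases dichotomy_max hU hmax hd (hX.rho_mem h hG hv hy) hkν hν0 with h3 | h3
      · have h4 := h3 u hu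
        rw [hν, neg_smul] at h4
        have h5 := U.neg_mem h4
        rw [neg_neg] at h5
        exact h5
      · exfalso
        apply hu1'
        apply h3 u1 hu1
        rw [hν, neg_smul]
        exact U.neg_mem hyu1
    -- `U ≤ K u1 + K v`
    have hclaim1 : ∀ u ∈ U, ∃ c e : K, u = c • u1 + e • v := by
      intro u hu
      by_contra hcon
      push Not at hcon
      have h1 : u ∉ Submodule.span K {u1, v} := by
        intro h2
        obtain ⟨c, e, hce⟩ := Submodule.mem_span_pair.1 h2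
        exact hcon c e hce.symm
      rw [← perp_perp h.nondeg (Submodule.span K {u1, v}), mem_perp] at h1
      push Not at h1
      obtain ⟨y, hy, hyu⟩ := h1
      rw [mem_perp] at hy
      have hyu1 : polar QK u1 y = 0 := hy u1 (Submodule.subset_span (by simp))
      have hyv : polar QK v y = 0 := hy v (Submodule.subset_span (by simp))
      apply hnotall
      intro κ
      have h3 := key ((κ * (polar QK y u)⁻¹) • y) (by rw [polar_smul_right, hyv, smul_zero]) (by
        rw [polar_smul_left, polar_comm QK y u1, hyu1, smul_zero]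
        exact Δ.zero_mem) u hu
      rw [polar_smul_left, smul_eq_mul, mul_assoc, inv_mul_cancel₀ hyu, mul_one] at h3
      exact h3
    -- a vector `y` with given value at `u1`
    have hex : ∀ a : K, ∃ y, polar QK v y = 0 ∧ polar QK y u1 = a := by
      intro a
      obtain ⟨y, hy1, hy2⟩ := exists_sep h.nondeg hu1v
      exact ⟨a • y, by rw [polar_smul_right, hy1, smul_zero],
        by rw [polar_smul_left, polar_comm QK y u1, hy2, smul_eq_mul, mul_one]⟩
    have hclaim2 : ∀ u ∈ U, ∃ c : F, ∃ e : K, u = c • u1 + e • v := by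
      intro u hu
      obtain ⟨c, e, hce⟩ := hclaim1 u hu
      obtain ⟨x, hx⟩ := multiplier hr Δ (fun h0 => hδ0 (by
        have h1 := hδ
        rw [h0] at h1
        exact (Submodule.mem_bot F).1 h1)) (fun h0 => hnotall fun κ => by
          have h1 : κ ∈ Δ := by rw [h0]; trivial
          exact h1) (c := c) (by
        intro a ha
        obtain ⟨y, hy1, hy2⟩ := hex a
        have h3 := key y hy1 (by rw [hy2]; exact ha) u hu
        rw [hce, polar_add_right, polar_smul_right, polar_smul_right, hy2, polar_comm QK y v, hy1,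
          smul_zero, add_zero, smul_eq_mul] at h3
        exact h3)
      exact ⟨x, e, by rw [hce, hx, algebraMap_smul]⟩
    obtain ⟨y, hy1, hy2⟩ := hex δ
    obtain ⟨ν, hν⟩ := hlin y
    refine ⟨rho F QK v y hv hy1, hX.rho_mem h hG hv hy1, ν, ?_, ?_, ?_, ⟨u1, hu1, ?_⟩,
      Or.inr ⟨δ, ?_⟩⟩
    · intro u hu
      rw [rho_perp hv hy1 (hE u hu), hν, neg_smul, sub_eq_add_neg]
    · intro u hu
      rw [hν, neg_smul]
      exact U.neg_mem (key y hy1 (by rw [hy2]; exact hδ) u hu)
    · intro c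
      rw [hν, polar_smul_right, polar_comm QK y v, hy1, smul_zero, neg_zero]
    · rw [hν, hy2, neg_ne_zero]
      exact hδ0
    · intro u hu
      obtain ⟨c, e, hce⟩ := hclaim2 u hu
      refine ⟨-c, ?_⟩
      rw [hν, hce, polar_add_right, polar_smul_right, polar_comm QK y v, hy1, smul_zero, add_zero,
        ← algebraMap_smul K c u1, polar_smul_right, hy2, algebraMap_smul, neg_smul]

end

end Cfsg.Agent.H884.Ext
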