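import Mathlib
import Cfsg.Agent.H884.ExtB3

/-!
# Extension fields in orthogonal groups: odd degree (helper884)
-/

set_option autoImplicit false
set_option linter.unusedSectionVars false

namespace Cfsg.Agent.H884.Ext

open QuadraticMap Cfsg.Agent.LieClassical.OrthCore Cfsg.Agent.LieClassical.OrthTrans
  Cfsg.Agent.LieClassical.OrthSimple Cfsg.Agent.LieClassical.OrthFinite Cfsg.Agent.H883.Root
  Cfsg.Agent.H883.Sub Module

variable {F K V : Type*} [Field F] [Field K] [Algebra F K] [AddCommGroup V] [Module F V] [Module K V]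
  [IsScalarTower F K V] {Q : QuadraticForm F V} {QK : QuadraticForm K V}

variable {X : Subgroup (V ≃ₗ[F] V)} {v v' : V} {β γ : K →ₗ[F] K}

/-- From a special element to a unipotent map of `K` realised on `K v`. -/
theorem Special.exists_nil (hH : Hyp QK v v') {g : V ≃ₗ[F] V} (hg : g ∈ X)
    (hsp : Special K X ((ln F K v).map (g : V →ₗ[F] V)) v) :
    ∃ k ∈ X, ∃ (N : K →ₗ[F] K) (ν : V →ₗ[F] K),
      (∀ c : K, k (c • v) = (c + N c) • v) ∧ (∀ c, N (N c) = 0) ∧ N ≠ 0 ∧
      (∀ c : K, g (N c • v) = ν (g (c • v)) • v) ∧ (∀ c : K, ν (c • v) = 0) ∧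
      ((∃ u ∈ (ln F K v).map (g : V →ₗ[F] V), u ∉ ln F K v ∧ ν u = 0) ∨
        ∃ δ : K, ∀ u ∈ (ln F K v).map (g : V →ₗ[F] V), ∃ c : F, ν u = c • δ) := by
  obtain ⟨k, hk, ν, h1, h2, h3, ⟨u0, hu0, hν0⟩, h4⟩ := hsp
  have hv0 := hH.left_ne
  let T : K →ₗ[F] V := (LinearMap.toSpanSingleton K V v).restrictScalars F
  let P : V →ₗ[F] K := (polarBilin QK v').restrictScalars F
  let N : K →ₗ[F] K := P ∘ₗ (g⁻¹ : V ≃ₗ[F] V).toLinearMap ∘ₗ T ∘ₗ ν ∘ₗ g.toLinearMap ∘ₗ T
  have hN : ∀ c : K, N c = polar QK v' (g⁻¹ (ν (g (c • v)) • v)) := fun c => rfl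
  have hmem : ∀ c : K, g (c • v) ∈ (ln F K v).map (g : V →ₗ[F] V) := fun c =>
    Submodule.mem_map_of_mem (smul_mem_ln c)
  have hNv : ∀ c : K, N c • v = g⁻¹ (ν (g (c • v)) • v) := by
    intro c
    obtain ⟨x, hx, hxe⟩ := h2 _ (hmem c)
    obtain ⟨a, rfl⟩ := mem_ln.1 hx
    have e : g⁻¹ (ν (g (c • v)) • v) = a • v := by
      rw [← hxe]
      exact g.symm_apply_apply _
    rw [hN, e, polar_smul_right, hH.pair', smul_eq_mul, mul_one]
  have hgN : ∀ c : K, g (N c • v) = ν (g (c • v)) • v := by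
    intro c
    rw [hNv]
    exact g.apply_symm_apply _
  have hNN : ∀ c, N (N c) = 0 := by
    intro c
    have e := hNv (N c)
    rw [hgN, h3, zero_smul, map_zero] at e
    exact (smul_eq_zero.1 e).resolve_right hv0
  refine ⟨g⁻¹ * k * g, X.mul_mem (X.mul_mem (X.inv_mem hg) hk) hg, N, ν, ?_, hNN, ?_, hgN, h3, h4⟩
  · intro c
    rw [LinearEquiv.mul_apply, LinearEquiv.mul_apply, h1 _ (hmem c), map_add, ← hNv, add_smul]
    congr 1
    exact g.symm_apply_apply _
  · intro h0
    obtain ⟨x, hx, rfl⟩ := hu0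
    obtain ⟨a, rfl⟩ := mem_ln.1 hx
    have e := hgN a
    rw [h0, LinearMap.zero_apply, zero_smul, map_zero] at e
    exact hν0 ((smul_eq_zero.1 e.symm).resolve_right hv0)

section

variable [Finite K] [FiniteDimensional F V]

/-- Small kernels. -/
theorem ker_le (h : TF Q QK) (hG : Good Q) (hX : Over Q K X) (hm : 3 ≤ finrank K V)
    (hH : Hyp QK v v') {n : ℕ}
    (hmax : ∀ U1 ∈ Orb K X v, ∀ U2 ∈ Orb K X v, U1 ≠ U2 → finrank F ↥(U1 ⊓ U2) ≤ n)
    {γ : K →ₗ[F] K} (hγ : HasB QK X v γ) (hγ0 : γ ≠ 0) :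
    finrank F (LinearMap.ker γ) ≤ n := by
  have hv := hH.left
  have hv0 := hH.left_ne
  obtain ⟨g, hg, hlin, a, ha, hga⟩ := hX.exists_trans h hG hm hH.left hH.right hH.left_ne hH.right_ne
  have hU : (ln F K v').map ((1 : V ≃ₗ[F] V) : V →ₗ[F] V) ∈ Orb K X v := by
    apply map_mem_Orb _ X.one_mem
    refine ⟨g, hg, ?_⟩
    ext x
    rw [mem_ln]
    constructor
    · rintro ⟨c, rfl⟩
      refine ⟨(c * a⁻¹) • v, smul_mem_ln _, ?_⟩
      change g ((c * a⁻¹) • v) = _
      rw [hlin, hga, smul_smul, mul_assoc, inv_mul_cancel₀ ha, mul_one]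
    · rintro ⟨y, hy, rfl⟩
      obtain ⟨c, rfl⟩ := mem_ln.1 hy
      refine ⟨c * a, ?_⟩
      change _ = g (c • v)
      rw [hlin, hga, smul_smul]
  have hU1 : ln F K v' ∈ Orb K X v := by
    have e : (ln F K v').map ((1 : V ≃ₗ[F] V) : V →ₗ[F] V) = ln F K v' := by
      change Submodule.map LinearMap.id _ = _
      rw [Submodule.map_id]
    rwa [e] at hU
  obtain ⟨k, hk, hkx⟩ := hγ
  have hkv : ∀ a : K, k (a • v') = a • v' + γ a • v := by
    intro a
    rw [hkx, polar_smul_right, hH.pair, smul_eq_mul, mul_one]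
  have hU2 := map_mem_Orb hU1 hk
  have hne : ln F K v' ≠ (ln F K v').map (k : V →ₗ[F] V) := by
    intro he
    apply hγ0
    ext a
    have h1 : k (a • v') ∈ ln F K v' := by
      rw [he]
      exact Submodule.mem_map_of_mem (smul_mem_ln a)
    rw [hkv] at h1
    obtain ⟨c, hc⟩ := mem_ln.1 h1
    have h2 := congrArg (polar QK v') hc
    rw [polar_add_right, polar_smul_right, polar_smul_right, polar_smul_right, hH.polar_right,
      hH.pair', smul_zero, smul_zero, zero_add, smul_eq_mul, mul_one] at h2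
    rw [← h2, LinearMap.zero_apply]
  refine le_trans ?_ (hmax _ hU1 _ hU2 hne)
  let T : K →ₗ[F] V := (LinearMap.toSpanSingleton K V v').restrictScalars F
  have hT : Function.Injective T := smul_left_injective K hH.right_ne
  have h3 : (LinearMap.ker γ).map T ≤ ln F K v' ⊓ (ln F K v').map (k : V →ₗ[F] V) := by
    rintro _ ⟨a, ha, rfl⟩
    refine ⟨smul_mem_ln a, a • v', smul_mem_ln a, ?_⟩
    change k (a • v') = a • v'
    have ha' : γ a = 0 := ha
    rw [hkv, ha', zero_smul, add_zero]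
  refine le_trans (le_of_eq ?_) (Submodule.finrank_mono h3)
  exact (LinearEquiv.finrank_eq (Submodule.equivMapOfInjective T hT _))

/-- **Odd degree, `B ≠ 1`**: a transvection on `K v`. -/
theorem exists_transvection [FiniteDimensional K V] (h : TF Q QK) (hG : Good Q)
    (hX : Over Q K X) (hm : 3 ≤ finrank K V) (hH : Hyp QK v v') (hK : 9 < Nat.card K)
    (hr : (finrank F K).Prime) (hodd : Odd (finrank F K)) (hne : BB h hG hX hH hK ≠ ⊥) :
    ∃ g ∈ X, ∃ d e : K, d ≠ 0 ∧ e ≠ 0 ∧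
      ∀ c : K, g (c • v) = (c + Algebra.trace F K (e * c) • d) • v := by
  classical
  have hfd : FiniteDimensional F K := FiniteDimensional.of_finrank_pos hr.pos
  have hXO : X ≤ O Q := fun g hg => E_le_O (hX.le hg)
  have hv := hH.left
  have hv0 := hH.left_ne
  let P : ℕ → Prop := fun n => ∃ U1 ∈ Orb K X v, ∃ U2 ∈ Orb K X v, U1 ≠ U2 ∧
    finrank F ↥(U1 ⊓ U2) = n
  have hPle : ∀ n, P n → n ≤ finrank F K := by
    rintro n ⟨U1, h1, U2, h2, -, rfl⟩
    rw [← finrank_Orb hv0 h1]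
    exact Submodule.finrank_mono inf_le_left
  obtain ⟨β, hβ, hβ0⟩ := Submodule.exists_mem_ne_zero_of_ne_bot hne
  obtain ⟨z, hz0, hz⟩ := exists_ker_of_skew h.two hodd (HasB.skew h hXO hH hβ)
  have hker : 1 ≤ finrank F (LinearMap.ker β) := by
    rw [Nat.succ_le_iff, Module.finrank_pos_iff_exists_ne_zero]
    exact ⟨⟨z, hz⟩, fun h0 => hz0 (congrArg Subtype.val h0)⟩
  obtain ⟨n0, hn0, hPn0⟩ : ∃ n, 1 ≤ n ∧ P n := by
    by_contra hcon
    push Not at hcon
    have h1 : ∀ U1 ∈ Orb K X v, ∀ U2 ∈ Orb K X v, U1 ≠ U2 → finrank F ↥(U1 ⊓ U2) ≤ 0 := by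
      intro U1 h1 U2 h2 h12
      by_contra h3
      exact hcon _ (by omega) ⟨U1, h1, U2, h2, h12, rfl⟩
    have h2 := ker_le h hG hX hm hH h1 hβ hβ0
    omega
  set d := Nat.findGreatest P (finrank F K) with hd
  have hPd : P d := Nat.findGreatest_spec (hPle _ hPn0) hPn0
  have hd1 : 1 ≤ d := hn0.trans (Nat.le_findGreatest (hPle _ hPn0) hPn0)
  have hmax : ∀ U1 ∈ Orb K X v, ∀ U2 ∈ Orb K X v, U1 ≠ U2 → finrank F ↥(U1 ⊓ U2) ≤ d := by
    intro U1 h1 U2 h2 h12
    have hP : P (finrank F ↥(U1 ⊓ U2)) := ⟨U1, h1, U2, h2, h12, rfl⟩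
    exact Nat.le_findGreatest (hPle _ hP) hP
  obtain ⟨U1, hU1, U2, hU2, h12, hfr⟩ := hPd
  obtain ⟨g1, hg1, rfl⟩ := hU1
  obtain ⟨g2, hg2, rfl⟩ := hU2
  -- move `U1` to the line
  set g := g1⁻¹ * g2 with hgdef
  have hg : g ∈ X := X.mul_mem (X.inv_mem hg1) hg2
  have hmap : ((ln F K v).map (g : V →ₗ[F] V)).map (g1 : V →ₗ[F] V) =
      (ln F K v).map (g2 : V →ₗ[F] V) := by
    rw [← Submodule.map_comp]
    congr 1
    ext x
    change g1 (g x) = g2 x
    rw [hgdef]
    exact g1.apply_symm_apply _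
  have hUd : finrank F ↥((ln F K v).map (g : V →ₗ[F] V) ⊓ ln F K v) = d := by
    rw [← hfr, ← LinearEquiv.finrank_map_eq g1 ((ln F K v).map (g : V →ₗ[F] V) ⊓ ln F K v),
      Submodule.map_inf _ g1.injective, hmap, inf_comm]
  have hUne : (ln F K v).map (g : V →ₗ[F] V) ≠ ln F K v := by
    intro he
    apply h12
    rw [← hmap, he]
  have hUorb : (ln F K v).map (g : V →ₗ[F] V) ∈ Orb K X v := ⟨g, hg, rfl⟩
  have hsp := exists_special h hG hX hH hK hr hodd hne hUorb hmax hUd hd1 hUne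
  obtain ⟨k, hk, N, ν, hkN, hNN, hN0, hgN, hν, hcase⟩ := hsp.exists_nil hH hg
  rcases hcase with ⟨u, hu, hul, hνu⟩ | ⟨δ, hδ⟩
  · -- big kernel
    have hmin : ∀ γ : K →ₗ[F] K, HasB QK X v γ → γ ≠ 0 → finrank F (LinearMap.ker γ) ≤ d :=
      fun γ hγ hγ0 => ker_le h hG hX hm hH hmax hγ hγ0
    have hkerN : d < finrank F (LinearMap.ker N) := by
      let T : K →ₗ[F] V := g.toLinearMap ∘ₗ (LinearMap.toSpanSingleton K V v).restrictScalars F
      have hT : ∀ c, T c = g (c • v) := fun c => rfl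
      let W : Submodule F V := (ln F K v).map (g : V →ₗ[F] V) ⊓ LinearMap.ker ν
      have h1 : (ln F K v).map (g : V →ₗ[F] V) ⊓ ln F K v < W := by
        rw [lt_iff_le_and_ne]
        constructor
        · rintro x ⟨hx1, hx2⟩
          refine ⟨hx1, ?_⟩
          obtain ⟨c, rfl⟩ := mem_ln.1 hx2
          exact hν c
        · intro he
          have : u ∈ (ln F K v).map (g : V →ₗ[F] V) ⊓ ln F K v := by
            rw [he]
            exact ⟨hu, hνu⟩
          exact hul this.2
      have h2 := Submodule.finrank_lt_finrank_of_lt h1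
      rw [hUd] at h2
      have h3 : W ≤ (LinearMap.ker N).map T := by
        rintro x ⟨⟨y, hy, rfl⟩, hx2⟩
        obtain ⟨c, rfl⟩ := mem_ln.1 hy
        refine ⟨c, ?_, rfl⟩
        have e := hgN c
        have hx2' : ν (g (c • v)) = 0 := hx2
        rw [hx2', zero_smul] at e
        have e2 := g.map_eq_zero_iff.1 e
        exact (smul_eq_zero.1 e2).resolve_right hv0
      exact h2.trans_le ((Submodule.finrank_mono h3).trans (Submodule.finrank_map_le _ _))
    obtain ⟨d', e', hd', he', hN⟩ := rank_one_of_ker h hG hX hH hK hr hne hmin hk hkN hNN hN0 hkerN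
    exact ⟨k, hk, d', e', hd', he', fun c => by rw [hkN, hN]⟩
  · -- rank one
    obtain ⟨c0, hc0⟩ : ∃ c0, N c0 ≠ 0 := by
      by_contra hcon
      push Not at hcon
      exact hN0 (LinearMap.ext hcon)
    have hmem : ∀ c : K, g (c • v) ∈ (ln F K v).map (g : V →ₗ[F] V) := fun c =>
      Submodule.mem_map_of_mem (smul_mem_ln c)
    obtain ⟨x0, hx0⟩ := hδ _ (hmem c0)
    have hx00 : x0 ≠ 0 := by
      rintro rfl
      have e := hgN c0
      rw [hx0, zero_smul, zero_smul] at e
      have e2 := g.map_eq_zero_iff.1 e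
      exact hc0 ((smul_eq_zero.1 e2).resolve_right hv0)
    have hN1 : ∀ c, ∃ x : F, N c = x • N c0 := by
      intro c
      obtain ⟨x, hx⟩ := hδ _ (hmem c)
      refine ⟨x * x0⁻¹, ?_⟩
      have e : N c • v = ((x * x0⁻¹) • N c0) • v := by
        apply g.injective
        have e1 : ((x * x0⁻¹) • N c0) • v = (x * x0⁻¹) • (N c0 • v) := smul_assoc _ _ _
        rw [e1, LinearEquiv.map_smul g (x * x0⁻¹) _, hgN, hgN, hx, hx0, smul_assoc, smul_assoc,
          smul_smul, mul_assoc, inv_mul_cancel₀ hx00, mul_one]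
      exact smul_left_injective K hv0 e
    obtain ⟨e', he', hN⟩ := exists_rank_one hc0 hN0 hN1
    exact ⟨k, hk, N c0, e', hc0, he', fun c => by rw [hkN, hN]⟩

/-! ### From decomposable maps to Siegel transformations -/

/-- A decomposable map is a Siegel transformation over `F`. -/
theorem has_of_wedge (h : TF Q QK) (hv : QK v = 0) {x y : K} (hxy : HasB QK X v (wedge F x y)) :
    Has Q X (x • v) (y • v) := by
  have hQ : ∀ c : K, Q (c • v) = 0 := fun c => h.sing (by rw [QuadraticMap.map_smul, hv, smul_zero])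
  have hp : polar Q (x • v) (y • v) = 0 := by
    apply h.perp_of
    rw [polar_smul_left, polar_smul_right, polar_self_of_sing hv, smul_zero, smul_zero]
  refine ⟨hQ x, hp, ?_⟩
  obtain ⟨g, hg, hgx⟩ := hxy
  have e : siegel Q (x • v) (y • v) (hQ x) hp = g := by
    ext z
    rw [siegel_apply, hgx, wedge_apply, h.smul_left, h.smul_left, hQ, zero_mul, zero_smul, sub_zero,
      sub_smul, smul_assoc, smul_assoc]
    abel
  rw [e]
  exact hg

/-- Transport between singular points. -/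
theorem wedge_transport [FiniteDimensional K V] (h : TF Q QK) (hG : Good Q)
    (hX : Over Q K X) (hm : 3 ≤ finrank K V) (hv : QK v = 0) (hv0 : v ≠ 0)
    (hw : ∀ x y, HasB QK X v (wedge F x y)) {w : V} (hQw : QK w = 0) (hw0 : w ≠ 0) (x y : K) :
    HasB QK X w (wedge F x y) := by
  have hXO : X ≤ O Q := fun g hg => E_le_O (hX.le hg)
  have hnt : Nontrivial V := ⟨⟨v, 0, hv0⟩⟩
  obtain ⟨g, hg, hlin, a, ha, hga⟩ := hX.exists_trans h hG hm hv hQw hv0 hw0
  have h1 := (hw (a⁻¹ * x) (a⁻¹ * y)).conj h hXO hg hlin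
  rw [hga] at h1
  have h2 := h1.smul
  rwa [cj_wedge, ← mul_assoc, mul_inv_cancel₀ ha, one_mul, ← mul_assoc, mul_inv_cancel₀ ha,
    one_mul] at h2

theorem hasB_transport [FiniteDimensional K V] (h : TF Q QK) (hG : Good Q)
    (hX : Over Q K X) (hm : 3 ≤ finrank K V) (hv : QK v = 0) (hv0 : v ≠ 0)
    (hβ : HasB QK X v β) (hβ0 : β ≠ 0) {w : V} (hQw : QK w = 0) (hw0 : w ≠ 0) :
    ∃ γ : K →ₗ[F] K, HasB QK X w γ ∧ γ ≠ 0 := by
  have hXO : X ≤ O Q := fun g hg => E_le_O (hX.le hg)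
  have hnt : Nontrivial V := ⟨⟨v, 0, hv0⟩⟩
  obtain ⟨g, hg, hlin, a, ha, hga⟩ := hX.exists_trans h hG hm hv hQw hv0 hw0
  have h1 := hβ.conj h hXO hg hlin
  rw [hga] at h1
  refine ⟨_, h1.smul, fun h0 => hβ0 ?_⟩
  ext x
  have h2 := LinearMap.congr_fun h0 (a⁻¹ * x)
  rw [cj_apply, ← mul_assoc, mul_inv_cancel₀ ha, one_mul, LinearMap.zero_apply] at h2
  rw [LinearMap.zero_apply]
  exact (mul_eq_zero.1 h2).resolve_left ha

/-- Choice of functionals. -/
theorem exists_trace_zero_one {a b : K} (ha : a ≠ 0) (hb : ∀ c : F, b ≠ c • a) :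
    ∃ x : K, Algebra.trace F K (x * a) = 0 ∧ Algebra.trace F K (x * b) = 1 := by
  have hfin : Finite F := Finite.of_injective _ (algebraMap F K).injective
  have hfd : FiniteDimensional F K := inferInstance
  have hb' : b ∉ Submodule.span F {a} := by
    intro h
    obtain ⟨c, hc⟩ := Submodule.mem_span_singleton.1 h
    exact hb c hc.symm
  obtain ⟨φ, hφ, hφI⟩ := Submodule.exists_dual_map_eq_bot_of_notMem hb' inferInstance
  obtain ⟨y, hy⟩ := exists_trace φ
  have h1 : Algebra.trace F K (y * a) = 0 := by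
    rw [← hy]
    have h4 : φ a ∈ (Submodule.span F {a}).map φ :=
      Submodule.mem_map_of_mem (Submodule.mem_span_singleton_self a)
    rw [hφI] at h4
    exact (Submodule.mem_bot F).1 h4
  have h2 : Algebra.trace F K (y * b) ≠ 0 := by
    rw [← hy]
    exact hφ
  refine ⟨(Algebra.trace F K (y * b))⁻¹ • y, ?_, ?_⟩
  · rw [smul_mul_assoc, map_smul, h1, smul_zero]
  · rw [smul_mul_assoc, map_smul, smul_eq_mul, inv_mul_cancel₀ h2]

theorem exists_trace_notin (h3r : 3 ≤ finrank F K) (a b : K) :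
    ∃ y : K, Algebra.trace F K (y * a) = 0 ∧ ∀ c : F, y ≠ c • b := by
  have hfin : Finite F := Finite.of_injective _ (algebraMap F K).injective
  have hfd : FiniteDimensional F K := inferInstance
  by_contra hcon
  push Not at hcon
  let T : K →ₗ[F] F := (Algebra.traceForm F K).flip a
  have hT : ∀ y, T y = Algebra.trace F K (y * a) := fun y => rfl
  have h4 : LinearMap.ker T ≤ Submodule.span F {b} := by
    intro y hy
    obtain ⟨c, hc⟩ := hcon y (by rw [← hT]; exact hy)
    rw [hc]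
    exact Submodule.smul_mem _ _ (Submodule.mem_span_singleton_self b)
  have h5 := Submodule.finrank_mono h4
  have h6 : finrank F (Submodule.span F {b}) ≤ 1 :=
    (finrank_span_le_card (R := F) ({b} : Set K)).trans (by simp)
  have h7 := LinearMap.finrank_range_add_finrank_ker T
  have h8 : finrank F (LinearMap.range T) ≤ 1 := by
    refine (Submodule.finrank_le _).trans ?_
    rw [finrank_self]
  omega

/-- Opposite points. -/
theorem has_opp (h : TF Q QK) (h3r : 3 ≤ finrank F K) (hH : Hyp QK v v')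
    (hw : ∀ x y, HasB QK X v (wedge F x y)) (hw' : ∀ x y, HasB QK X v' (wedge F x y)) {a a' : K}
    (ha : Algebra.trace F K (a * a') = 0) : Has Q X (a' • v') (a • v) := by
  have hQ : ∀ c : K, Q (c • v) = 0 := fun c =>
    h.sing (by rw [QuadraticMap.map_smul, hH.left, smul_zero])
  by_cases ha0 : a' = 0
  · rw [ha0, zero_smul]
    exact has_zero_left _
  obtain ⟨b, hb1, hb2⟩ := exists_trace_notin (F := F) h3r a a'
  obtain ⟨x, hx1, hx2⟩ := exists_trace_zero_one ha0 hb2
  have hp : ∀ c d : K, polar Q (c • v) (d • v') = Algebra.trace F K (c * d) := by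
    intro c d
    rw [h.smul_left, polar_smul_right, hH.pair, smul_eq_mul, mul_one]
  have h1 := Has.comm' (has_of_wedge h hH.left (hw x a)) (has_of_wedge h hH.right (hw' a' b))
    (by rw [hp, hx1]) (by rw [hp, ha]) (hQ a) (by rw [hp, mul_comm, hb1])
  rwa [hp, hx2, one_smul] at h1

/-- All Siegel transformations at a `K`-singular vector. -/
theorem full_of_wedge [FiniteDimensional K V] (h : TF Q QK) (hG : Good Q)
    (hX : Over Q K X) (hm : 3 ≤ finrank K V) (h3r : 3 ≤ finrank F K) (hv : QK v = 0) (hv0 : v ≠ 0)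
    (hw : ∀ x y, HasB QK X v (wedge F x y)) {u : V} (hu : QK u = 0) (hu0 : u ≠ 0) :
    Full Q X u := by
  have hall : ∀ w, QK w = 0 → w ≠ 0 → ∀ x y, HasB QK X w (wedge F x y) :=
    fun w hw1 hw0 => wedge_transport h hG hX hm hv hv0 hw hw1 hw0
  obtain ⟨u', hH⟩ := exists_hyp h.nondeg hu hu0
  refine ⟨h.sing hu, fun w hw1 => ?_⟩
  have hself : ∀ b : K, Has Q X u (b • u) := by
    intro b
    have := has_of_wedge h hu (hall u hu hu0 1 b)
    rwa [one_smul] at this
  -- opposite
  have hopp : ∀ u'', Hyp QK u u'' → ∀ a : K, Algebra.trace F K a = 0 → Has Q X u (a • u'') := by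
    intro u'' hH' a ha
    have := has_opp h h3r hH'.symm (hall u'' hH'.right hH'.right_ne) (hall u hu hu0) (a := a)
      (a' := 1) (by rw [mul_one]; exact ha)
    rwa [one_smul] at this
  obtain ⟨a0, ha0, ha00⟩ : ∃ a0 : K, Algebra.trace F K a0 = 0 ∧ a0 ≠ 0 := by
    obtain ⟨y, hy1, hy2⟩ := exists_trace_notin (F := F) (K := K) h3r 1 0
    refine ⟨y, by rwa [mul_one] at hy1, fun h0 => hy2 0 (by rw [h0, zero_smul])⟩
  have hperp : ∀ z, polar QK u z = 0 → polar QK u' z = 0 → Has Q X u z := by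
    intro z hz1 hz2
    have key : ∀ y, polar QK u y = 0 → polar QK u' y = 0 → Has Q X u (a0 • y) := by
      intro y hy1 hy2
      have hH' : Hyp QK u (u' + y - QK y • u) := by
        refine ⟨hu, ?_, ?_⟩
        · rw [sub_eq_add_neg, Q_add, Q_add, QuadraticMap.map_neg, QuadraticMap.map_smul, hu,
            hH.right, polar_neg_right, polar_smul_right, polar_add_left, hH.pair', hy2,
            polar_comm QK y u, hy1]
          simp
        · rw [polar_sub_right, polar_add_right, polar_smul_right, hH.pair, hy1, hH.polar_left]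
          simp
      have h1 := hopp _ hH' a0 ha0
      have h2 := hopp _ hH a0 ha0
      have h3 := (h1.sub h2).add (hself (a0 * QK y))
      convert h3 using 1
      rw [smul_sub, smul_add, smul_smul]
      abel
    have := key (a0⁻¹ • z) (by rw [polar_smul_right, hz1, smul_zero])
      (by rw [polar_smul_right, hz2, smul_zero])
    rwa [smul_smul, mul_inv_cancel₀ ha00, one_smul] at this
  have hdec : w = polar QK u w • u' + (w - polar QK u w • u' - polar QK u' w • u) +
      polar QK u' w • u := by abel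
  rw [hdec]
  refine ((hopp u' hH _ ?_).add (hperp _ ?_ ?_)).add (hself _)
  · rw [← h.polar_eq]
    exact hw1
  · rw [polar_sub_right, polar_sub_right, polar_smul_right, polar_smul_right, hH.pair,
      hH.polar_left]
    simp
  · rw [polar_sub_right, polar_sub_right, polar_smul_right, polar_smul_right, hH.polar_right,
      hH.pair']
    simp

theorem E_le_of_full [FiniteDimensional K V] (h : TF Q QK) (hG : Good Q) (hH : Hyp QK v v')
    (hf : ∀ u, QK u = 0 → u ≠ 0 → Full Q X u) : E Q ≤ X := by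
  obtain ⟨a, ha⟩ : ∃ a : K, Algebra.trace F K a ≠ 0 := by
    by_contra hcon
    push Not at hcon
    exact one_ne_zero (trace_ext (F := F) (a := (1 : K)) fun c => by rw [mul_one]; exact hcon c)
  have ha0 : a ≠ 0 := by
    rintro rfl
    exact ha (map_zero _)
  refine E_le_of_full_pair hG (hf v hH.left hH.left_ne)
    (hf (a • v') (by rw [QuadraticMap.map_smul, hH.right, smul_zero]) ?_) (u' := a • v') ?_
  · exact smul_ne_zero ha0 hH.right_ne
  · rw [h.polar_eq, polar_smul_right, hH.pair, smul_eq_mul, mul_one]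
    exact ha

/-- **Odd degree, `B ≠ 1`.** -/
theorem E_le_of_odd [FiniteDimensional K V] (h : TF Q QK) (hG : Good Q)
    (hX : Over Q K X) (hm : 3 ≤ finrank K V) (hr : (finrank F K).Prime) (h3r : 3 ≤ finrank F K)
    (hK : 9 < Nat.card K) (hv : QK v = 0) (hv0 : v ≠ 0) (hT : ¬ Triv QK X v) : E Q ≤ X := by
  have hodd : Odd (finrank F K) := hr.odd_of_ne_two (by omega)
  obtain ⟨v', hH⟩ := exists_hyp h.nondeg hv hv0
  have hne : BB h hG hX hH hK ≠ ⊥ := by
    intro h0
    apply hT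
    intro β hβ
    have h1 : β ∈ BB h hG hX hH hK := hβ
    rw [h0] at h1
    exact (Submodule.mem_bot F).1 h1
  obtain ⟨g, hg, d, e, hd, he, hge⟩ := exists_transvection h hG hX hm hH hK hr hodd hne
  have hw := wedge_of_transvection h hG hX hH hK hr h3r hne hg hd he hge
  exact E_le_of_full h hG hH fun u hu hu0 => full_of_wedge h hG hX hm h3r hv hv0 hw hu hu0

end

end Cfsg.Agent.H884.Ext
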