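import Mathlib
import Cfsg.Agent.H884.ExtB4

/-!
# Extension fields in orthogonal groups: degree two, and the maximality theorem (helper884)
-/

set_option autoImplicit false
set_option linter.unusedSectionVars false

namespace Cfsg.Agent.H884.Ext

open QuadraticMap Cfsg.Agent.LieClassical.OrthCore Cfsg.Agent.LieClassical.OrthTrans
  Cfsg.Agent.LieClassical.OrthSimple Cfsg.Agent.LieClassical.OrthFinite Cfsg.Agent.H883.Root
  Cfsg.Agent.H883.Sub Module

variable {F K V : Type*} [Field F] [Field K] [Algebra F K] [AddCommGroup V] [Module F V] [Module K V]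
  [IsScalarTower F K V] {Q : QuadraticForm F V} {QK : QuadraticForm K V}

variable {X : Subgroup (V ≃ₗ[F] V)} {v v' : V} {β γ : K →ₗ[F] K}

/-! ### Quadratic extensions -/

theorem exists_j (hr : finrank F K = 2) : ∃ j : K, j ≠ 0 ∧ Algebra.trace F K j = 0 := by
  have hfd : FiniteDimensional F K := FiniteDimensional.of_finrank_pos (by omega)
  have h7 := LinearMap.finrank_range_add_finrank_ker (Algebra.trace F K)
  have h8 : finrank F (LinearMap.range (Algebra.trace F K)) ≤ 1 := by
    refine (Submodule.finrank_le _).trans ?_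
    rw [finrank_self]
  have h9 : 0 < finrank F (LinearMap.ker (Algebra.trace F K)) := by omega
  obtain ⟨⟨j, hj⟩, hj0⟩ := Module.finrank_pos_iff_exists_ne_zero.1 h9
  exact ⟨j, fun h0 => hj0 (Subtype.ext h0), hj⟩

theorem decomp_j (h2 : (2 : F) ≠ 0) (hr : finrank F K = 2) {j : K} (hj0 : j ≠ 0)
    (hj : Algebra.trace F K j = 0) :
    (∀ p : K, ∃ a b : F, p = algebraMap F K a + b • j) ∧
      ∃ D : F, j * j = algebraMap F K D := by
  have hfd : FiniteDimensional F K := FiniteDimensional.of_finrank_pos (by omega)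
  have hli : LinearIndependent F ![(1 : K), j] := by
    rw [LinearIndependent.pair_iff]
    intro s t hst
    have h1 := congrArg (Algebra.trace F K) hst
    rw [map_add, map_smul, map_smul, hj, map_zero, smul_zero, add_zero,
      ← map_one (algebraMap F K), Algebra.trace_algebraMap, hr, smul_eq_mul, nsmul_eq_mul, mul_one,
      Nat.cast_ofNat] at h1
    have hs : s = 0 := (mul_eq_zero.1 h1).resolve_right h2
    refine ⟨hs, ?_⟩
    rw [hs, zero_smul, zero_add] at hst
    exact (smul_eq_zero.1 hst).resolve_right hj0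
  let b : Basis (Fin 2) F K := basisOfLinearIndependentOfCardEqFinrank hli (by rw [hr]; rfl)
  have hb0 : b 0 = 1 := by simp [b]
  have hb1 : b 1 = j := by simp [b]
  have hdec : ∀ p : K, p = algebraMap F K (b.repr p 0) + (b.repr p 1) • j := by
    intro p
    conv_lhs => rw [← b.sum_repr p]
    rw [Fin.sum_univ_two, hb0, hb1, Algebra.algebraMap_eq_smul_one]
  refine ⟨fun p => ⟨_, _, hdec p⟩, b.repr (j * j) 0, ?_⟩
  have h3 := Algebra.trace_eq_matrix_trace b j
  rw [hj, Matrix.trace_fin_two, Algebra.leftMulMatrix_eq_repr_mul,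
    Algebra.leftMulMatrix_eq_repr_mul, hb0, hb1, mul_one] at h3
  have h4 : b.repr j 0 = 0 := by
    rw [← hb1, b.repr_self]
    simp
  rw [h4, zero_add] at h3
  have h5 := hdec (j * j)
  rwa [← h3, zero_smul, add_zero] at h5

theorem two_j (h2 : (2 : F) ≠ 0) (hr : finrank F K = 2) {j : K} (hj0 : j ≠ 0)
    (hj : Algebra.trace F K j = 0) (p : K) :
    Algebra.trace F K p • j + algebraMap F K (Algebra.trace F K (j * p)) = 2 * j * p := by
  obtain ⟨h3, D, hD⟩ := decomp_j h2 hr hj0 hj
  obtain ⟨a, b, rfl⟩ := h3 p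
  have e1 : Algebra.trace F K (algebraMap F K a + b • j) = 2 * a := by
    rw [map_add, map_smul, hj, smul_zero, add_zero, Algebra.trace_algebraMap, hr, nsmul_eq_mul,
      Nat.cast_ofNat]
  have e2 : j * (algebraMap F K a + b • j) = a • j + algebraMap F K (b * D) := by
    rw [mul_add, mul_smul_comm, hD, Algebra.smul_def, Algebra.smul_def, map_mul]
    ring
  have e3 : Algebra.trace F K (j * (algebraMap F K a + b • j)) = 2 * (b * D) := by
    rw [e2, map_add, map_smul, hj, smul_zero, zero_add, Algebra.trace_algebraMap, hr, nsmul_eq_mul,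
      Nat.cast_ofNat]
  rw [e1, e3, mul_assoc, e2]
  simp only [Algebra.smul_def, map_mul, map_ofNat]
  ring

section

variable [Finite K]

/-- Skew maps of a quadratic extension. -/
theorem skew_unique (h2 : (2 : F) ≠ 0) (hr : finrank F K = 2) (hβ0 : β ≠ 0)
    (hβ : ∀ a, Algebra.trace F K (a * β a) = 0) (hγ : ∀ a, Algebra.trace F K (a * γ a) = 0) :
    ∃ c : F, γ = c • β := by
  obtain ⟨j, hj0, hj⟩ := exists_j (F := F) hr
  obtain ⟨hdec, -⟩ := decomp_j h2 hr hj0 hj
  have key : ∀ δ : K →ₗ[F] K, (∀ a, Algebra.trace F K (a * δ a) = 0) →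
      Algebra.trace F K (j * δ 1) = 0 → δ = 0 := by
    intro δ hδ h1
    have h3 : Algebra.trace F K (1 * δ 1) = 0 := hδ 1
    have h4 : Algebra.trace F K (j * δ j) = 0 := hδ j
    have h5 : Algebra.trace F K (1 * δ j) = 0 := by
      have h6 := hδ (1 + j)
      rw [map_add, add_mul, mul_add, mul_add, map_add, map_add, map_add, h3, h4, h1, zero_add,
        add_zero, add_zero] at h6
      exact h6
    have h6 : ∀ y : K, Algebra.trace F K (1 * y) = 0 → Algebra.trace F K (j * y) = 0 → y = 0 := by
      intro y hy1 hy2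
      apply trace_ext (F := F)
      intro c
      obtain ⟨a, b, rfl⟩ := hdec c
      rw [add_mul, map_add, smul_mul_assoc, map_smul, hy2, smul_zero, add_zero,
        ← Algebra.smul_def, map_smul]
      rw [one_mul] at hy1
      rw [hy1, smul_zero]
    have h7 := h6 _ h3 h1
    have h8 := h6 _ h5 h4
    ext p
    obtain ⟨a, b, rfl⟩ := hdec p
    rw [map_add, map_smul, h8, smul_zero, add_zero, Algebra.algebraMap_eq_smul_one, map_smul, h7,
      smul_zero, LinearMap.zero_apply]
  have hβj : Algebra.trace F K (j * β 1) ≠ 0 := fun h0 => hβ0 (key β hβ h0)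
  refine ⟨Algebra.trace F K (j * γ 1) * (Algebra.trace F K (j * β 1))⁻¹, ?_⟩
  rw [← sub_eq_zero]
  apply key
  · intro a
    rw [LinearMap.sub_apply, LinearMap.smul_apply, mul_sub, mul_smul_comm, map_sub, map_smul, hβ,
      hγ, smul_zero, sub_zero]
  · rw [LinearMap.sub_apply, LinearMap.smul_apply, mul_sub, mul_smul_comm, map_sub, map_smul,
      smul_eq_mul, mul_assoc, inv_mul_cancel₀ hβj, mul_one, sub_self]

theorem wedge_skew (x y a : K) : Algebra.trace F K (a * wedge F x y a) = 0 := by
  rw [wedge_apply, mul_sub, mul_smul_comm, mul_smul_comm, map_sub, map_smul, map_smul, smul_eq_mul,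
    smul_eq_mul, mul_comm a y, mul_comm a x]
  ring

/-- Small fields. -/
theorem eq_of_card_le [Finite F] (h2 : (2 : F) ≠ 0) (hF : Nat.card F ≤ 3) (c : F) :
    c = 0 ∨ c = 1 ∨ c = -1 := by
  classical
  have := Fintype.ofFinite F
  by_contra hcon
  push Not at hcon
  have h3 : ({0, 1, -1, c} : Finset F).card = 4 := by
    have e1 : (1 : F) ≠ -1 := by
      intro h
      apply h2
      linear_combination h
    rw [Finset.card_insert_of_notMem, Finset.card_insert_of_notMem, Finset.card_insert_of_notMem,
      Finset.card_singleton]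
    · simp only [Finset.mem_singleton]
      exact fun h => hcon.2.2 h.symm
    · simp only [Finset.mem_insert, Finset.mem_singleton]
      rintro (h | h)
      · exact e1 h
      · exact hcon.2.1 h.symm
    · simp only [Finset.mem_insert, Finset.mem_singleton]
      rintro (h | h | h)
      · exact zero_ne_one h
      · exact one_ne_zero (neg_eq_zero.1 h.symm)
      · exact hcon.1 h.symm
  have h4 := Finset.card_le_univ ({0, 1, -1, c} : Finset F)
  rw [h3, ← Nat.card_eq_fintype_card] at h4
  omega

variable [FiniteDimensional F V]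

/-- Quadratic extensions: all decomposable maps. -/
theorem wedge_of_two (h : TF Q QK) (hG : Good Q) (hX : Over Q K X) (hr : finrank F K = 2)
    (hv : QK v = 0) (hv0 : v ≠ 0) (hT : ¬ Triv QK X v) (x y : K) :
    HasB QK X v (wedge F x y) := by
  have hXO : X ≤ O Q := fun g hg => E_le_O (hX.le hg)
  have hFfin : Finite F := Finite.of_injective _ (algebraMap F K).injective
  have hfd : FiniteDimensional F K := FiniteDimensional.of_finrank_pos (by omega)
  obtain ⟨v', hH⟩ := exists_hyp h.nondeg hv hv0
  unfold Triv at hT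
  push Not at hT
  obtain ⟨β, hβ, hβ0⟩ := hT
  have hβ' : HasB QK X v β := hβ
  obtain ⟨c, hc⟩ := skew_unique (γ := wedge F x y) h.twoF hr hβ0 (hβ'.skew h hXO hH) (wedge_skew x y)
  rw [hc]
  by_cases hK : 9 < Nat.card K
  · exact hβ'.smulF h hG hX hH hK c
  · have h3 : Nat.card F ≤ 3 := by
      have h4 : Nat.card K = Nat.card F ^ finrank F K := Module.natCard_eq_pow_finrank
      rw [hr] at h4
      nlinarith
    rcases eq_of_card_le h.twoF h3 c with h4 | h4 | h4
    · rw [h4, zero_smul]
      exact HasB.zero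
    · rw [h4, one_smul]
      exact hβ'
    · have e : (-1 : F) • β = -β := by
        ext a
        rw [LinearMap.smul_apply, LinearMap.neg_apply, neg_smul, one_smul]
      rw [h4, e]
      exact hβ'.neg hv

/-- Two orthogonal singular points. -/
theorem has_of_two (h : TF Q QK) (hG : Good Q) (hX : Over Q K X) (hr : finrank F K = 2)
    (hall : ∀ w, QK w = 0 → ∀ x y, HasB QK X w (wedge F x y)) {w : V} (hv : QK v = 0)
    (hw : QK w = 0) (hvw : polar QK v w = 0) : Has Q X v w := by
  obtain ⟨j, hj0, hj⟩ := exists_j (F := F) hr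
  have htwo := two_j h.twoF hr hj0 hj
  have h2 := h.two
  -- `w = (2 j c) w0`
  set c : K := (2 * j)⁻¹ with hc
  have hjc : 2 * j * c = 1 := mul_inv_cancel₀ (mul_ne_zero h2 hj0)
  have hvcw : QK (v + c • w) = 0 := by
    rw [Q_add, QuadraticMap.map_smul, hv, hw, polar_smul_right, hvw]
    simp
  have hcw : QK (c • w) = 0 := by rw [QuadraticMap.map_smul, hw, smul_zero]
  obtain ⟨g1, hg1, hg1x⟩ := hall _ hvcw 1 j
  obtain ⟨g2, hg2, hg2x⟩ := (hall _ hv 1 j).neg hv
  obtain ⟨g3, hg3, hg3x⟩ := (hall _ hcw 1 j).neg hcw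
  have hg4 := hX.rho_mem h hG hv hvw
  have hww : polar QK w w = 0 := polar_self_of_sing hw
  have hvv : polar QK v v = 0 := polar_self_of_sing hv
  have hwv : polar QK w v = 0 := by rw [polar_comm, hvw]
  have hQw : Q w = 0 := h.sing hw
  have hpF : polar Q v w = 0 := h.perp_of hvw
  refine ⟨h.sing hv, hpF, ?_⟩
  have e : siegel Q v w (h.sing hv) hpF = g1 * (g2 * (g3 * rho F QK v w hv hvw)) := by
    ext x
    rw [LinearEquiv.mul_apply, LinearEquiv.mul_apply, LinearEquiv.mul_apply, siegel_apply,
      rho_apply, hg3x, hg2x, hg1x, hQw, hw, h.polar_eq, h.polar_eq]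
    simp only [polar_add_left, polar_add_right, polar_sub_right, polar_smul_left,
      polar_smul_right, hvv, hww, hvw, hwv, smul_eq_mul, mul_zero, add_zero, sub_zero, zero_mul,
      zero_smul]
    simp only [LinearMap.neg_apply, wedge_apply, one_mul, map_add, add_smul]
    set p := polar QK v x
    set s := polar QK w x
    have e1 := htwo p
    have e2 := htwo (c * s)
    have e3 : 2 * j * (c * s) = s := by rw [← mul_assoc, hjc, one_mul]
    rw [e3] at e2
    have e4 : Algebra.trace F K s = 2 * Algebra.trace F K (j * (c * s)) := by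
      have := congrArg (Algebra.trace F K) e3
      rw [← this, mul_assoc, ← map_ofNat (algebraMap F K) 2, ← Algebra.smul_def, map_smul,
        smul_eq_mul]
    rw [← algebraMap_smul K (Algebra.trace F K p) w, ← algebraMap_smul K (Algebra.trace F K s) v, e4]
    simp only [Algebra.smul_def, map_mul, map_ofNat, mul_one] at e1 e2 ⊢
    have h5 : algebraMap F K (Algebra.trace F K p) = p + c * (algebraMap F K (Algebra.trace F K p) * j -
        algebraMap F K (Algebra.trace F K (j * p))) := by
      linear_combination (algebraMap F K (Algebra.trace F K p)) * (-hjc) + p * hjc + c * e1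
    have h6 : 2 * algebraMap F K (Algebra.trace F K (j * (c * s))) =
        s - (algebraMap F K (Algebra.trace F K (c * s)) * j -
          algebraMap F K (Algebra.trace F K (j * (c * s)))) := by
      linear_combination e2
    linear_combination (norm := module) h5 • w - h6 • v
  rw [e]
  exact X.mul_mem hg1 (X.mul_mem hg2 (X.mul_mem hg3 hg4))

/-- Witt index at least two. -/
def Wi (QK : QuadraticForm K V) : Prop :=
  ∀ x y : V, Hyp QK x y → ∃ w : V, w ≠ 0 ∧ QK w = 0 ∧ polar QK x w = 0 ∧ polar QK y w = 0

theorem wi_of_finrank [FiniteDimensional K V] (hm : 5 ≤ finrank K V) : Wi QK := by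
  intro x y _
  obtain ⟨w, hw0, hw, h⟩ := exists_sing_perp (Q := QK) ![x, y] (by omega)
  exact ⟨w, hw0, hw, h 0, h 1⟩

/-- **Degree two, `B ≠ 1`**: all Siegel transformations. -/
theorem full_of_two (h : TF Q QK) (hG : Good Q) (hX : Over Q K X) (hr : finrank F K = 2)
    (hW : Wi QK) (hall : ∀ w, QK w = 0 → ∀ x y, HasB QK X w (wedge F x y)) {u : V}
    (hu : QK u = 0) (hu0 : u ≠ 0) : Full Q X u := by
  obtain ⟨u', hH⟩ := exists_hyp h.nondeg hu hu0
  refine ⟨h.sing hu, fun w hw => ?_⟩
  have hself : ∀ b : K, Has Q X u (b • u) := by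
    intro b
    have := has_of_wedge h hu (hall u hu 1 b)
    rwa [one_smul] at this
  -- a second hyperbolic pair
  obtain ⟨z, hz0, hz, huz, hu'z⟩ := hW u u' hH
  obtain ⟨z', hHz, huz', hu'z'⟩ := exists_hyp_perp h.nondeg hH hz hz0 huz hu'z
  have hperp : ∀ y, polar QK u y = 0 → polar QK u' y = 0 → Has Q X u y := by
    intro y hy1 hy2
    exact sing_induction_perp hHz huz huz' hu'z hu'z' (P := fun y => Has Q X u y)
      (fun a c _ _ _ _ ha hc => ha.add hc)
      (fun a ha h1 _ => has_of_two h hG hX hr hall hu ha h1) y hy1 hy2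
  -- opposite
  obtain ⟨b, hb⟩ : ∃ b : K, Algebra.trace F K b = 1 := by
    have h1 : ∃ c : K, Algebra.trace F K c ≠ 0 := by
      by_contra hcon
      push Not at hcon
      exact one_ne_zero (trace_ext (F := F) (a := (1 : K)) fun c => by rw [mul_one]; exact hcon c)
    obtain ⟨c, hc⟩ := h1
    exact ⟨(Algebra.trace F K c)⁻¹ • c, by rw [map_smul, smul_eq_mul, inv_mul_cancel₀ hc]⟩
  have hopp : ∀ a : K, Algebra.trace F K a = 0 → Has Q X u (a • u') := by
    intro a ha
    have hau : QK (a • u') = 0 := by rw [QuadraticMap.map_smul, hH.right, smul_zero]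
    have h1 : Has Q X z (a • u') := has_of_two h hG hX hr hall hz hau (by
      rw [polar_smul_right, polar_comm QK z u', hu'z, smul_zero])
    have h2 : Has Q X u (b • z') := hperp _ (by rw [polar_smul_right, huz', smul_zero])
      (by rw [polar_smul_right, hu'z', smul_zero])
    have h3 := Has.comm' h1 h2 (h.perp_of (by rw [polar_comm, huz]))
      (by rw [h.smul_left, hH.pair', mul_one, ha]) (h.sing hau)
      (by rw [h.smul_left, polar_smul_right, hu'z', smul_zero, mul_zero, map_zero])
    rwa [h.smul_right, hHz.pair, mul_one, hb, one_smul] at h3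
  have hdec : w = polar QK u w • u' + (w - polar QK u w • u' - polar QK u' w • u) +
      polar QK u' w • u := by abel
  rw [hdec]
  refine ((hopp _ ?_).add (hperp _ ?_ ?_)).add (hself _)
  · rw [← h.polar_eq]
    exact hw
  · rw [polar_sub_right, polar_sub_right, polar_smul_right, polar_smul_right, hH.pair,
      hH.polar_left]
    simp
  · rw [polar_sub_right, polar_sub_right, polar_smul_right, polar_smul_right, hH.polar_right,
      hH.pair']
    simp

theorem E_le_of_two [FiniteDimensional K V] (h : TF Q QK) (hG : Good Q) (hX : Over Q K X)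
    (hm : 3 ≤ finrank K V) (hr : finrank F K = 2) (hW : Wi QK) (hv : QK v = 0) (hv0 : v ≠ 0)
    (hT : ¬ Triv QK X v) : E Q ≤ X := by
  obtain ⟨v', hH⟩ := exists_hyp h.nondeg hv hv0
  have hw := wedge_of_two h hG hX hr hv hv0 hT
  have hall : ∀ w, QK w = 0 → ∀ x y, HasB QK X w (wedge F x y) := by
    intro w hw1 x y
    by_cases hw0 : w = 0
    · rw [hw0]
      exact ⟨1, X.one_mem, fun x => by simp⟩
    · exact wedge_transport h hG hX hm hv hv0 hw hw1 hw0 x y
  exact E_le_of_full h hG hH fun u hu hu0 => full_of_two h hG hX hr hW hall hu hu0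

/-- **The overgroups of the semilinear group in the orthogonal group.** -/
theorem overgroup [FiniteDimensional K V] (h : TF Q QK) (hG : Good Q) (hX : Over Q K X)
    (hm : 4 ≤ finrank K V) (hr : (finrank F K).Prime) (h2 : finrank F K = 2 → Wi QK) :
    X ≤ NK F K V ∨ E Q ≤ X := by
  by_cases hT : ∀ v, v ≠ 0 → QK v = 0 → Triv QK X v
  · exact Or.inl (le_NK_of_triv h hG hm hX hT)
  · right
    push Not at hT
    obtain ⟨v, hv0, hv, hT⟩ := hT
    by_cases hr2 : finrank F K = 2
    · exact E_le_of_two h hG hX (by omega) hr2 (h2 hr2) hv hv0 hT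
    · have h3r : 3 ≤ finrank F K := by
        have := hr.two_le
        omega
      have hFfin : Finite F := Finite.of_injective _ (algebraMap F K).injective
      have hfd : FiniteDimensional F K := FiniteDimensional.of_finrank_pos hr.pos
      have hK : 9 < Nat.card K := by
        have h4 : Nat.card K = Nat.card F ^ finrank F K := Module.natCard_eq_pow_finrank
        have h5 : 3 ≤ Nat.card F := by
          have h6 : 1 < Nat.card F := Finite.one_lt_card
          by_contra h7
          have h8 : Nat.card F = 2 := by omega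
          apply h.twoF
          have h9 : ((Nat.card F : ℕ) : F) = 0 := by
            have := Fintype.ofFinite F
            rw [Nat.card_eq_fintype_card]
            exact Nat.cast_card_eq_zero F
          rwa [h8] at h9
        rw [h4]
        calc 9 < 3 ^ 3 := by norm_num
          _ ≤ Nat.card F ^ 3 := Nat.pow_le_pow_left h5 3
          _ ≤ Nat.card F ^ finrank F K := Nat.pow_le_pow_right (by omega) h3r
      exact E_le_of_odd h hG hX (by omega) hr h3r hK hv hv0 hT

end

end Cfsg.Agent.H884.Ext
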