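import Cfsg.Agent.H365.Zsig
import Cfsg.Agent.H436.Ppd

/-!
# Full parts of primitive primes: a finite check (helper884, for S3561 and S3679)

`Hit A n p` : for all primes `r` with `ord_r(p) = n` the full `r`-part of `p ^ n - 1` divides `A`.

`hits_complete` : if the boolean check `hitsB fac s L` is true (`fac` the factorization of `A`, primes at most 73) then
`Hit A n p`, `n ≥ 3`, `p` prime, `p ≠ s` implies `(n, p) ∈ L`: there are only finitely many `(n, p)`.
-/

set_option autoImplicit false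

namespace Cfsg.Agent.H884.Ig

open Polynomial Cfsg.Agent.H436 Cfsg.Agent.H365.Zsig Cfsg.Agent.Lib.Zsigmondy

/-- the full parts of the primes `r` with `ord_r(p) = n` divide `A` -/
def Hit (A n p : ℕ) : Prop := ∀ r k : ℕ, Prim p n r → r ^ k ∣ p ^ n - 1 → r ^ k ∣ A

theorem prim_of_orderOf {q n r : ℕ} (hq : 1 ≤ q) (hn : 1 ≤ n) (hr : r.Prime) (h : orderOf (q : ZMod r) = n) :
    Prim q n r := by
  refine ⟨hr, fun m => ?_, fun hd => ?_⟩
  · rw [dvd_pow_sub_one_iff hq, h]
  · have := Fact.mk hr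
    have h0 : (q : ZMod r) = 0 := (ZMod.natCast_eq_zero_iff q r).2 hd
    have h1 : (q : ZMod r) ^ n = 1 := by rw [← h]; exact pow_orderOf_eq_one _
    rw [h0, zero_pow (by omega)] at h1
    exact zero_ne_one h1

/-- `Φ_n(q)` divides `A P`, `P` the largest prime divisor of `n` -/
theorem Ph_dvd_of_hit {A q n P : ℕ} (hq : 2 ≤ q) (hn : 3 ≤ n) (hA : A ≠ 0) (h : Hit A n q)
    (hP : P.Prime) (hPn : P ∣ n) (hmax : ∀ s : ℕ, s.Prime → s ∣ n → s ≤ P) : Ph n q ∣ A * P := by
  have hN1 := Ph_gt_one (n := n) (q := q) (by omega) hq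
  have hAP : A * P ≠ 0 := Nat.mul_ne_zero hA hP.ne_zero
  rw [← Nat.factorization_le_iff_dvd (by omega) hAP]
  intro s
  by_cases hs : s.Prime
  swap
  · rw [Nat.factorization_eq_zero_of_not_prime _ hs]; exact Nat.zero_le _
  by_cases hsN : s ∣ Ph n q
  swap
  · rw [Nat.factorization_eq_zero_of_not_dvd hsN]; exact Nat.zero_le _
  rcases prime_dvd_Ph (by omega) hq hs hsN with h1 | ⟨k, m, h1, h2, h3, h4, h5⟩
  · have h6 := prim_of_orderOf (by omega) (by omega) hs h1
    rw [← hs.pow_dvd_iff_le_factorization hAP]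
    refine (h s _ h6 ((Nat.ordProj_dvd _ _).trans (Ph_dvd (by omega) (by omega)))).mul_right _
  · have h6 : (Ph n q).factorization s ≤ 1 := by
      by_contra hlt
      push Not at hlt
      exact sq_not_dvd hn hq hs h1 h2 h3 h4 h5 ((hs.pow_dvd_iff_le_factorization (by omega)).2 hlt)
    refine h6.trans ?_
    rw [← hs.dvd_iff_one_le_factorization hAP]
    rw [eq_max hs h1 h4 h5 hP hPn hmax]
    exact Dvd.intro_left _ rfl

theorem Ph_lower {n q : ℕ} (hn : 3 ≤ n) (hq : 2 ≤ q) : (q - 1) ^ n.totient < Ph n q := by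
  have h1 : (1 : ℝ) < (q : ℝ) := by exact_mod_cast (show 1 < q by omega)
  have h2 := Polynomial.sub_one_pow_totient_lt_cyclotomic_eval (n := n) (by omega) h1
  rw [Ph_real (by omega)] at h2
  have h3 : ((q : ℝ) - 1) = ((q - 1 : ℕ) : ℝ) := by rw [Nat.cast_sub (by omega)]; simp
  rw [h3] at h2
  exact_mod_cast h2

theorem Ph_upper {n q : ℕ} (hn : 3 ≤ n) (hq : 2 ≤ q) : Ph n q < (q + 1) ^ n.totient := by
  have h1 : (1 : ℝ) < (q : ℝ) := by exact_mod_cast (show 1 < q by omega)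
  have h2 := Polynomial.cyclotomic_eval_lt_add_one_pow_totient (n := n) (by omega) h1
  rw [Ph_real (by omega)] at h2
  exact_mod_cast h2

/-! ### tables -/

/-- the primes up to 73 -/
def ps : List ℕ := [2, 3, 5, 7, 11, 13, 17, 19, 23, 29, 31, 37, 41, 43, 47, 53, 59, 61, 67, 71, 73]

theorem prime_of_mem_ps {r : ℕ} (h : r ∈ ps) : r.Prime := by
  have key : ∀ r ∈ ps, r.Prime := by decide +kernel
  exact key r h

theorem le_of_mem_ps {r : ℕ} (h : r ∈ ps) : r ≤ 73 := by
  have key : ∀ r ∈ ps, r ≤ 73 := by decide +kernel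
  exact key r h

/-- the largest prime divisor of `n ≤ 72` -/
def gpt : List ℕ := [0, 0, 2, 3, 2, 5, 3, 7, 2, 3, 5, 11, 3, 13, 7, 5, 2, 17, 3, 19, 5, 7, 11, 23, 3, 5, 13, 3, 7, 29,
  5, 31, 2, 11, 17, 7, 3, 37, 19, 13, 5, 41, 7, 43, 11, 5, 23, 47, 3, 7, 5, 17, 13, 53, 3, 11, 7, 19, 29, 59, 5, 61,
  31, 7, 2, 13, 11, 67, 17, 23, 7, 71, 3]

/-- `φ(n)` for `n ≤ 72` -/
def pht : List ℕ := [0, 1, 1, 2, 2, 4, 2, 6, 4, 6, 4, 10, 4, 12, 6, 8, 8, 16, 6, 18, 8, 12, 10, 22, 8, 20, 12, 18, 12,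
  28, 8, 30, 16, 20, 16, 24, 12, 36, 18, 24, 16, 40, 12, 42, 20, 24, 22, 46, 16, 42, 20, 32, 24, 52, 18, 40, 24, 36,
  28, 58, 16, 60, 30, 36, 32, 48, 20, 66, 32, 44, 24, 70, 24]

set_option maxRecDepth 100000 in
theorem pht_ok : ((List.range 73).all fun n => Nat.beq (pht.getD n 0) (Nat.totient n)) = true := by decide +kernel

set_option maxRecDepth 100000 in
theorem gpt_ok : ((List.range 73).all fun n => Nat.blt n 2 || (decide (gpt.getD n 0 ∈ ps) &&
    Nat.beq (n % gpt.getD n 0) 0 && (List.range 73).all fun s => !(decide (s ∈ ps)) || !(Nat.beq (n % s) 0) ||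
      Nat.ble s (gpt.getD n 0))) = true := by decide +kernel

set_option maxRecDepth 100000 in
theorem ps_ok : ∀ s < 73, s.Prime → s ∈ ps := by decide +kernel

theorem mem_ps {s : ℕ} (hs : s.Prime) (h : s ≤ 73) : s ∈ ps := by
  rcases Nat.lt_or_ge s 73 with h1 | h1
  · exact ps_ok s h1 hs
  · have : s = 73 := by omega
    subst this
    decide

theorem pht_eq {n : ℕ} (hn : n ≤ 72) : pht.getD n 0 = n.totient := by
  have h := pht_ok
  rw [List.all_eq_true] at h
  exact Nat.eq_of_beq_eq_true (h n (List.mem_range.2 (by omega)))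

theorem gpt_spec {n : ℕ} (h2 : 2 ≤ n) (hn : n ≤ 72) : (gpt.getD n 0).Prime ∧ gpt.getD n 0 ∣ n ∧
    ∀ s : ℕ, s.Prime → s ∣ n → s ≤ gpt.getD n 0 := by
  have h := gpt_ok
  rw [List.all_eq_true] at h
  have h3 := h n (List.mem_range.2 (by omega))
  rw [Bool.or_eq_true, Nat.blt_eq, Bool.and_eq_true, Bool.and_eq_true] at h3
  rcases h3 with h3 | ⟨⟨h3, h4⟩, h5⟩
  · omega
  refine ⟨prime_of_mem_ps (of_decide_eq_true h3), Nat.dvd_of_mod_eq_zero (Nat.eq_of_beq_eq_true h4),
    fun s hs hd => ?_⟩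
  have hsn := Nat.le_of_dvd (by omega) hd
  rw [List.all_eq_true] at h5
  have h6 := h5 s (List.mem_range.2 (by omega))
  rw [Bool.or_eq_true, Bool.or_eq_true, Bool.not_eq_true', Bool.not_eq_true'] at h6
  rcases h6 with (h6 | h6) | h6
  · exact absurd (mem_ps hs (by omega)) (of_decide_eq_false h6)
  · have : Nat.beq (n % s) 0 = true := by
      rw [Nat.mod_eq_zero_of_dvd hd]
      rfl
    rw [this] at h6
    exact absurd h6 (by decide)
  · exact Nat.le_of_ble_eq_true h6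

/-! ### factorizations -/

/-- the value of a factorization -/
def val (fac : List (ℕ × ℕ)) : ℕ := (fac.map fun x => x.1 ^ x.2).prod

theorem val_nil : val [] = 1 := rfl

theorem val_cons (r k : ℕ) (t : List (ℕ × ℕ)) : val ((r, k) :: t) = r ^ k * val t := by
  unfold val
  rw [List.map_cons, List.prod_cons]

theorem val_ne_zero {fac : List (ℕ × ℕ)} (h : ∀ x ∈ fac, x.1.Prime) : val fac ≠ 0 := by
  induction fac with
  | nil => exact one_ne_zero
  | cons x t ih =>
    obtain ⟨r, k⟩ := x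
    rw [val_cons]
    refine Nat.mul_ne_zero (pow_ne_zero _ (h (r, k) (List.mem_cons_self)).ne_zero) (ih fun y hy =>
      h y (List.mem_cons_of_mem _ hy))

/-- the divisors of a factored number -/
def divsL : List (ℕ × ℕ) → List ℕ
  | [] => [1]
  | x :: t => (divsL t).flatMap fun y => (List.range (x.2 + 1)).map fun j => x.1 ^ j * y

theorem mem_divsL {fac : List (ℕ × ℕ)} (h : ∀ x ∈ fac, x.1.Prime) {D : ℕ} (hD : D ∣ val fac) : D ∈ divsL fac := by
  induction fac generalizing D with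
  | nil =>
    rw [val_nil, Nat.dvd_one] at hD
    rw [hD]
    exact List.mem_singleton.2 rfl
  | cons x t ih =>
    obtain ⟨r, k⟩ := x
    rw [val_cons] at hD
    obtain ⟨d₁, d₂, h1, h2, rfl⟩ := (Nat.dvd_mul).1 hD
    obtain ⟨j, hj, rfl⟩ := (Nat.dvd_prime_pow (h (r, k) List.mem_cons_self)).1 h1
    rw [divsL, List.mem_flatMap]
    refine ⟨d₂, ih (fun y hy => h y (List.mem_cons_of_mem _ hy)) h2, ?_⟩
    rw [List.mem_map]
    exact ⟨j, List.mem_range.2 (by change j < k + 1; omega), rfl⟩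

theorem pow_dvd_mul_congr {s m X Y : ℕ} (hs : s.Prime) (hm : m ≠ 0) (hX : X ≠ 0) (hY : Y ≠ 0)
    (h : ∀ k, s ^ k ∣ X → s ^ k ∣ Y) {k : ℕ} (hk : s ^ k ∣ m * X) : s ^ k ∣ m * Y := by
  rw [hs.pow_dvd_iff_le_factorization (Nat.mul_ne_zero hm hX), Nat.factorization_mul hm hX] at hk
  rw [hs.pow_dvd_iff_le_factorization (Nat.mul_ne_zero hm hY), Nat.factorization_mul hm hY]
  have h1 := h (X.factorization s) (Nat.ordProj_dvd _ _)
  rw [hs.pow_dvd_iff_le_factorization hY] at h1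
  rw [Finsupp.add_apply] at hk ⊢
  omega

/-- the part of the primes `≡ 1 mod n` -/
theorem dvd_filter {fac : List (ℕ × ℕ)} (h : ∀ x ∈ fac, x.1.Prime) {n s : ℕ} (hs : s.Prime) (hsn : s % n = 1)
    {k : ℕ} (hk : s ^ k ∣ val fac) : s ^ k ∣ val (fac.filter fun x => Nat.beq (x.1 % n) 1) := by
  induction fac generalizing k with
  | nil => exact hk
  | cons x t ih =>
    obtain ⟨r, j⟩ := x
    have hr := h (r, j) List.mem_cons_self
    have ht := fun y hy => h y (List.mem_cons_of_mem (r, j) hy)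
    have h0 := val_ne_zero ht
    have h0' : val (t.filter fun x => Nat.beq (x.1 % n) 1) ≠ 0 :=
      val_ne_zero fun y hy => ht y (List.mem_of_mem_filter hy)
    rw [val_cons] at hk
    have h1 := pow_dvd_mul_congr hs (pow_ne_zero j hr.ne_zero) h0 h0' (fun k hk => ih ht hk) hk
    by_cases hrn : r % n = 1
    · rw [List.filter_cons_of_pos (by rw [Nat.beq_eq]; exact hrn), val_cons]
      exact h1
    · rw [List.filter_cons_of_neg (by
        rw [Nat.beq_eq]
        exact hrn)]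
      have hco : Nat.Coprime (s ^ k) (r ^ j) := by
        refine Nat.Coprime.pow _ _ ((Nat.coprime_primes hs hr).2 ?_)
        rintro rfl
        exact hrn hsn
      exact hco.dvd_of_dvd_mul_left h1

/-! ### the primitive part -/

/-- remove the common factors with `b` -/
def rem : ℕ → ℕ → ℕ → ℕ
  | 0, x, _ => x
  | f + 1, x, b => bif Nat.beq (Nat.gcd x b) 1 then x else rem f (x / Nat.gcd x b) b

theorem rem_dvd (f x b : ℕ) : rem f x b ∣ x := by
  induction f generalizing x with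
  | zero => exact dvd_rfl
  | succ f ih =>
    rw [rem]
    cases Nat.beq (x.gcd b) 1
    · exact (ih _).trans (Nat.div_dvd_of_dvd (Nat.gcd_dvd_left _ _))
    · exact dvd_rfl

/-- the product of `p ^ (n / l) - 1`, `l` prime, `l ∣ n` -/
def bb (n p : ℕ) : ℕ := (ps.map fun l => bif Nat.beq (n % l) 0 then p ^ (n / l) - 1 else 1).prod

theorem dvd_bb {n p l : ℕ} (hl : l ∈ ps) (hln : l ∣ n) : p ^ (n / l) - 1 ∣ bb n p := by
  unfold bb
  have h1 : (bif Nat.beq (n % l) 0 then p ^ (n / l) - 1 else 1) = p ^ (n / l) - 1 := by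
    rw [Nat.mod_eq_zero_of_dvd hln]
    rfl
  rw [← h1]
  exact List.dvd_prod (List.mem_map_of_mem hl)

/-- a prime divisor of `q ^ n - 1` prime to `bb n q` is primitive -/
theorem prim_of_bb {n q s : ℕ} (hq : 2 ≤ q) (hn : 1 ≤ n) (hn72 : n ≤ 72) (hs : s.Prime) (h1 : s ∣ q ^ n - 1)
    (h2 : ¬ s ∣ bb n q) : Prim q n s := by
  have h3 : orderOf (q : ZMod s) ∣ n := by rwa [← dvd_pow_sub_one_iff (by omega)]
  refine prim_of_orderOf (by omega) hn hs ?_
  by_contra hne
  obtain ⟨t, ht⟩ := h3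
  have ht1 : t ≠ 1 := by
    rintro rfl
    exact hne (by rw [ht, mul_one])
  obtain ⟨l, hl, hlt⟩ := Nat.exists_prime_and_dvd ht1
  have hln : l ∣ n := ht ▸ hlt.mul_left _
  have hl72 := Nat.le_of_dvd (by omega) hln
  apply h2
  refine dvd_trans ?_ (dvd_bb (mem_ps hl (by omega)) hln)
  rw [dvd_pow_sub_one_iff (by omega)]
  obtain ⟨u, rfl⟩ := hlt
  refine ⟨u, ?_⟩
  rw [ht, show orderOf (q : ZMod s) * (l * u) = orderOf (q : ZMod s) * u * l by ring]
  exact Nat.mul_div_cancel _ hl.pos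

/-- `killB A n q a = true`: some primitive prime `s ∤ a` with full part not dividing `A` -/
def killB (A n q a : ℕ) : Bool :=
  let b := bb n q * a
  let y := rem 40 (q ^ n - 1) b
  Nat.beq (Nat.gcd y b) 1 && !(Nat.beq (A % y) 0)

theorem kill {A n q a : ℕ} (hq : 2 ≤ q) (hn : 1 ≤ n) (hn72 : n ≤ 72) (h : killB A n q a = true)
    (hh : ∀ r k : ℕ, Prim q n r → ¬ r ∣ a → r ^ k ∣ q ^ n - 1 → r ^ k ∣ A) : False := by
  unfold killB at h
  simp only [Bool.and_eq_true, Bool.not_eq_true'] at h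
  obtain ⟨h1, h2⟩ := h
  have h1 := Nat.eq_of_beq_eq_true h1
  have h3 := rem_dvd 40 (q ^ n - 1) (bb n q * a)
  generalize rem 40 (q ^ n - 1) (bb n q * a) = y at h1 h2 h3
  have h4 : y ∣ A := by
    rw [Nat.dvd_iff_prime_pow_dvd_dvd]
    intro s k hs hk
    rcases Nat.eq_zero_or_pos k with rfl | hk0
    · rw [pow_zero]; exact one_dvd _
    have h5 : s ∣ y := (dvd_pow_self s hk0.ne').trans hk
    have h6 : ¬ s ∣ bb n q * a := by
      intro h7
      have := Nat.dvd_gcd h5 h7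
      rw [h1] at this
      exact hs.one_lt.ne' (Nat.dvd_one.1 this)
    refine hh s k (prim_of_bb hq hn hn72 hs (h5.trans h3) fun h7 => h6 (h7.mul_right _))
      (fun h7 => h6 (h7.mul_left _)) (hk.trans h3)
  rw [Nat.mod_eq_zero_of_dvd h4] at h2
  exact absurd h2 (by decide)

/-! ### the check -/

/-- integer root by bisection (not verified) -/
def rtAux (k D : ℕ) : ℕ → ℕ → ℕ → ℕ
  | 0, lo, _ => lo
  | f + 1, lo, hi => bif Nat.ble hi (lo + 1) then lo else
      bif Nat.ble (((lo + hi) / 2) ^ k) D then rtAux k D f ((lo + hi) / 2) hi else rtAux k D f lo ((lo + hi) / 2)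

def rt (k D : ℕ) : ℕ := rtAux k D 80 0 (2 ^ (Nat.log2 D / k + 1))

/-- the check for one `p` -/
def chkP (A n s D : ℕ) (L : List (ℕ × ℕ)) (p : ℕ) : Bool :=
  Nat.blt p 2 || (!(Nat.beq ((p ^ n - 1) % D) 0) || (Nat.beq p s || (killB A n p 1 || decide ((n, p) ∈ L) ||
    (ps.any fun l => Nat.blt l p && Nat.beq (p % l) 0))))

/-- the check for one divisor -/
def goodD (A n k s : ℕ) (L : List (ℕ × ℕ)) (D : ℕ) : Bool :=
  let x := rt k D
  Nat.ble (x ^ k) D && (Nat.blt D ((x + 1) ^ k) && (chkP A n s D L (x - 1) && (chkP A n s D L x &&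
    chkP A n s D L (x + 1))))

theorem chkP_sound {A n s p : ℕ} {L : List (ℕ × ℕ)} (hn : 1 ≤ n) (hn72 : n ≤ 72) (hp : p.Prime) (hps : p ≠ s)
    (h : Hit A n p) (hc : chkP A n s (Ph n p) L p = true) : (n, p) ∈ L := by
  unfold chkP at hc
  simp only [Bool.or_eq_true, Bool.not_eq_true', Nat.blt_eq, Nat.beq_eq] at hc
  rcases hc with hc | hc | hc | (hc | hc) | hc
  · exact absurd hp.two_le (by omega)
  · rw [Nat.mod_eq_zero_of_dvd (Ph_dvd (by omega) hp.one_le)] at hc
    exact absurd hc (by decide)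
  · exact absurd hc hps
  · exact (kill hp.two_le hn hn72 hc fun r k h1 _ h3 => h r k h1 h3).elim
  · exact of_decide_eq_true hc
  · rw [List.any_eq_true] at hc
    obtain ⟨l, hl, hl2⟩ := hc
    rw [Bool.and_eq_true, Nat.blt_eq, Nat.beq_eq] at hl2
    exfalso
    have h1 := (Nat.prime_dvd_prime_iff_eq (prime_of_mem_ps hl) hp).1 (Nat.dvd_of_mod_eq_zero hl2.2)
    omega

theorem goodD_sound {A n s p : ℕ} {L : List (ℕ × ℕ)} (hn : 3 ≤ n) (hn72 : n ≤ 72) (hp : p.Prime) (hps : p ≠ s)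
    (h : Hit A n p) (hc : goodD A n n.totient s L (Ph n p) = true) : (n, p) ∈ L := by
  unfold goodD at hc
  simp only [Bool.and_eq_true] at hc
  generalize rt n.totient (Ph n p) = x at hc
  obtain ⟨h1, h2, h3, h4, h5⟩ := hc
  have h1 := Nat.le_of_ble_eq_true h1
  have h2 : Ph n p < (x + 1) ^ n.totient := by rwa [Nat.blt_eq] at h2
  have hk : n.totient ≠ 0 := (Nat.totient_pos.2 (by omega)).ne'
  have h6 : p - 1 < x + 1 := lt_of_pow_lt_pow_left₀ _ (Nat.zero_le _) ((Ph_lower hn hp.two_le).trans h2)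
  have h7 : x < p + 1 := lt_of_pow_lt_pow_left₀ _ (Nat.zero_le _) (h1.trans_lt (Ph_upper hn hp.two_le))
  have h8 := hp.two_le
  rcases (by omega : p = x - 1 ∨ p = x ∨ p = x + 1) with h9 | h9 | h9
  · rw [← h9] at h3
    exact chkP_sound (by omega) hn72 hp hps h h3
  · rw [← h9] at h4
    exact chkP_sound (by omega) hn72 hp hps h h4
  · rw [← h9] at h5
    exact chkP_sound (by omega) hn72 hp hps h h5

/-- the check for one `n` -/
def chkN (fac : List (ℕ × ℕ)) (s : ℕ) (L : List (ℕ × ℕ)) (n : ℕ) : Bool :=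
  Nat.blt n 3 || ((!(Nat.beq n 6) && (fac.all fun x => !(Nat.beq (x.1 % n) 1))) ||
    (divsL ((gpt.getD n 0, 1) :: fac.filter fun x => Nat.beq (x.1 % n) 1)).all
      (goodD (val fac) n (pht.getD n 0) s L))

/-- **The check.** -/
def hitsB (fac : List (ℕ × ℕ)) (s : ℕ) (L : List (ℕ × ℕ)) : Bool :=
  (fac.all fun x => decide (x.1 ∈ ps)) && (List.range 73).all (chkN fac s L)

theorem prime_dvd_val {fac : List (ℕ × ℕ)} (h : ∀ x ∈ fac, x.1.Prime) {r : ℕ} (hr : r.Prime) (hd : r ∣ val fac) :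
    ∃ x ∈ fac, x.1 = r := by
  induction fac with
  | nil =>
    rw [val_nil] at hd
    exact absurd (Nat.dvd_one.1 hd) hr.one_lt.ne'
  | cons x t ih =>
    obtain ⟨u, k⟩ := x
    rw [val_cons] at hd
    rcases hr.dvd_mul.1 hd with h1 | h1
    · exact ⟨(u, k), List.mem_cons_self, ((Nat.prime_dvd_prime_iff_eq hr (h _ List.mem_cons_self)).1
        (hr.dvd_of_dvd_pow h1)).symm⟩
    · obtain ⟨y, hy, h2⟩ := ih (fun y hy => h y (List.mem_cons_of_mem _ hy)) h1
      exact ⟨y, List.mem_cons_of_mem _ hy, h2⟩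

theorem prim_mod {q e r : ℕ} (h : Prim q e r) (he : 2 ≤ e) : r % e = 1 ∧ e < r := by
  have hc : Nat.Coprime q r := ((Nat.Prime.coprime_iff_not_dvd h.prime).2 h.not_dvd).symm
  have h2 := Nat.ModEq.pow_totient hc
  rw [Nat.totient_prime h.prime] at h2
  have hq : 1 ≤ q := by
    rcases Nat.eq_zero_or_pos q with rfl | h
    · exact absurd (dvd_zero r) h.not_dvd
    · exact h
  obtain ⟨t, ht⟩ := (h.dvd_iff _).1 ((Nat.modEq_iff_dvd' (Nat.one_le_pow _ _ hq)).1 h2.symm)
  have h3 := h.prime.two_le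
  have h4 : r = e * t + 1 := by omega
  have h5 : 1 ≤ t := by
    rcases Nat.eq_zero_or_pos t with rfl | h
    · omega
    · exact h
  constructor
  · rw [h4, Nat.mul_add_mod, Nat.mod_eq_of_lt (by omega)]
  · have := Nat.mul_le_mul_left e h5
    omega

/-- **Completeness of the list of hits.** -/
theorem hits_complete {fac : List (ℕ × ℕ)} {s : ℕ} {L : List (ℕ × ℕ)} (hc : hitsB fac s L = true) {n p : ℕ}
    (hn : 3 ≤ n) (hp : p.Prime) (hps : p ≠ s) (h : Hit (val fac) n p) : (n, p) ∈ L := by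
  unfold hitsB at hc
  rw [Bool.and_eq_true, List.all_eq_true, List.all_eq_true] at hc
  obtain ⟨h1, h2⟩ := hc
  have hfp : ∀ x ∈ fac, x.1.Prime := fun x hx => prime_of_mem_ps (of_decide_eq_true (h1 x hx))
  have hf73 : ∀ x ∈ fac, x.1 ≤ 73 := fun x hx => le_of_mem_ps (of_decide_eq_true (h1 x hx))
  have hA := val_ne_zero hfp
  -- `n ≤ 72`
  have hex : ¬ (p = 2 ∧ n = 6) → ∃ x ∈ fac, Prim p n x.1 := by
    intro h6
    obtain ⟨r, hr⟩ := exists_prim hp.two_le hn h6
    have h3 := h r 1 hr (by rw [pow_one]; exact hr.dvd dvd_rfl)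
    rw [pow_one] at h3
    obtain ⟨x, hx, rfl⟩ := prime_dvd_val hfp hr.prime h3
    exact ⟨x, hx, hr⟩
  have hn72 : n ≤ 72 := by
    by_contra hcon
    push Not at hcon
    obtain ⟨x, hx, hr⟩ := hex (by omega)
    have := (prim_mod hr (by omega)).2
    have := hf73 x hx
    omega
  have h3 := h2 n (List.mem_range.2 (by omega))
  unfold chkN at h3
  rw [Bool.or_eq_true, Bool.or_eq_true, Bool.and_eq_true, Nat.blt_eq] at h3
  rcases h3 with h3 | ⟨h3, h4⟩ | h3
  · omega
  · exfalso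
    obtain ⟨x, hx, hr⟩ := hex (by
      rintro ⟨-, rfl⟩
      exact absurd h3 (by decide))
    rw [List.all_eq_true] at h4
    have h5 := h4 x hx
    rw [(prim_mod hr (by omega)).1] at h5
    exact absurd h5 (by decide)
  · rw [List.all_eq_true, pht_eq hn72] at h3
    obtain ⟨hP, hPn, hmax⟩ := gpt_spec (n := n) (by omega) hn72
    refine goodD_sound hn hn72 hp hps h (h3 _ (mem_divsL ?_ ?_))
    · intro x hx
      rcases List.mem_cons.1 hx with rfl | hx
      · exact hP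
      · exact hfp x (List.mem_of_mem_filter hx)
    · rw [val_cons, pow_one, mul_comm]
      refine Ph_dvd_of_hit hp.two_le hn (val_ne_zero fun x hx => hfp x (List.mem_of_mem_filter hx)) ?_ hP hPn hmax
      intro r k hr hk
      exact dvd_filter hfp hr.prime (prim_mod hr (by omega)).1 (h r k hr hk)

end Cfsg.Agent.H884.Ig
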