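import Cfsg.Agent.H884.CgFin
import Cfsg.Agent.H884.IgNum
import Cfsg.Agent.H884.CxNum
import Cfsg.Agent.H918.UBase
import Cfsg.Agent.S0246
import Cfsg.Agent.S0279
import Cfsg.Agent.H899.Cyc.CycOut
import Cfsg.Agent.H278.ElAltNum

/-!
# Cyclic primes of the named classical groups (helper884, for S3561 and S3679)

* `InE g e` : the exponents `e` such that the primes `r` with `ord_r(q) = e` have cyclic Sylow subgroups (all of them
  for `PSL`, only `e = 2 f`, `f` odd, for `PSU`, only even `e` for `PSp`);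
* `cycW_named` : these primes satisfy `CycW`;
* `cyc_named`  : and `Cyc` if they do not divide the field exponent;
* `pow_dvd_named` : their full part in `q ^ e - 1` divides `|T|`.
-/

set_option autoImplicit false

namespace Cfsg.Agent.H884.Ig

open Cfsg Cfsg.Geo Cfsg.Agent.OrdDiv Cfsg.Agent.H436 Cfsg.Agent.H915.GN Cfsg.Agent.H264.FKS Module
open Cfsg.Agent.H899.CG Cfsg.Agent.H884.El Cfsg.Agent.H884.Cg Cfsg.Agent.LieClassical Cfsg.Agent.H955
open Cfsg.Agent.LieClassical.OmegaReindex Cfsg.Agent.H278.El.Num QuadraticMap Cfsg.Agent.LieClassical.OrthCore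
open Cfsg.Agent.H278.El.SporNum (IsCl)
open Cfsg.Agent.H951 (fx cm Inv)
open scoped MatrixGroups

universe u

/-- the exponents with cyclic Sylow subgroups -/
def InE : Grp → ℕ → Prop
  | .psl n _, e => 3 ≤ e ∧ e ≤ n ∧ n < 2 * e
  | .psp m _, e => e % 2 = 0 ∧ 4 ≤ e ∧ e ≤ 2 * m ∧ m < e
  | .psu n _, e => e % 4 = 2 ∧ 6 ≤ e ∧ e ≤ 2 * n ∧ n < e
  | .oodd m _, e => (e % 2 = 0 ∧ 4 ≤ e ∧ e ≤ 2 * m ∧ 2 * m + 1 < 2 * e) ∨
      (e % 2 = 1 ∧ 3 ≤ e ∧ e ≤ m ∧ 2 * m + 1 < 4 * e)
  | .oplus m _, e => (e % 2 = 0 ∧ 4 ≤ e ∧ e ≤ 2 * m - 2 ∧ m < e) ∨ (e % 2 = 1 ∧ 3 ≤ e ∧ e ≤ m ∧ m < 2 * e)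
  | .ominus m _, e => (e % 2 = 0 ∧ 4 ≤ e ∧ e ≤ 2 * m ∧ m < e) ∨ (e % 2 = 1 ∧ 3 ≤ e ∧ e < m ∧ m < 2 * e)
  | _, _ => False

theorem InE.three {g : Grp} {e : ℕ} (h : InE g e) : 3 ≤ e := by
  cases g <;> simp only [InE] at h <;> omega

/-! ### the full part divides the order -/

theorem pow_dvd_c {u k X d c : ℕ} (hu : u.Prime) (hd : ¬ u ∣ d) (h : d * c = X) (hX : u ^ k ∣ X) : u ^ k ∣ c := by
  rw [← h] at hX
  exact (Nat.Coprime.pow_left k ((Nat.Prime.coprime_iff_not_dvd hu).2 hd)).dvd_of_dvd_mul_left hX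

theorem not_dvd_sq {q e u : ℕ} (h : Prim q e u) (he : 3 ≤ e) : ¬ u ∣ q ^ 2 - 1 := by
  intro h1
  have := Nat.le_of_dvd (by norm_num) ((h.dvd_iff 2).1 h1)
  omega

theorem five_le' {q e u : ℕ} (h : Prim q e u) (he : 3 ≤ e) : 5 ≤ u := by
  have h1 := (prim_mod h (by omega)).2
  by_contra h2
  have h4 : u = 4 := by omega
  have := h.prime
  rw [h4] at this
  exact absurd this (by norm_num)

theorem not_dvd_le {u k j : ℕ} (h5 : 5 ≤ u) (hk : 1 ≤ k) (hk4 : k ≤ 4) : ¬ u ∣ Nat.gcd k j := by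
  intro h
  have := Nat.le_of_dvd (by omega) (h.trans (Nat.gcd_dvd_left _ _))
  omega

theorem pow_prB {q e u m k : ℕ} (_h : Prim q e u) (he : 3 ≤ e) (_hm : 1 ≤ m) (h1 : e ≤ 2 * m)
    (h2 : e % 2 = 1 → e ≤ m) (hk : u ^ k ∣ q ^ e - 1) : u ^ k ∣ prB q m := by
  rcases Nat.even_or_odd' e with ⟨j, hj | hj⟩
  · have h3 := prB_dvd (q := q) (m := m) (i := j - 1) (by omega)
    rw [Nat.sub_add_cancel (by omega), ← hj] at h3
    exact hk.trans h3
  · have h3 := prB_dvd (q := q) (m := m) (i := e - 1) (by omega)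
    rw [Nat.sub_add_cancel (by omega)] at h3
    refine (hk.trans ?_).trans h3
    rw [show q ^ (2 * e) - 1 = (q ^ e + 1) * (q ^ e - 1) by
      rw [mul_comm 2 e, pow_mul]
      have := Nat.sq_sub_sq (q ^ e) 1
      rwa [one_pow] at this]
    exact Dvd.intro_left _ rfl

/-- **The full part divides the order.** -/
theorem pow_dvd_named {g : Grp} {c e r k : ℕ} (hg : Cond g) (hc : den g * c = num g) (he : InE g e)
    (hr : Prim (Cx.fq g) e r) (hk : r ^ k ∣ Cx.fq g ^ e - 1) : r ^ k ∣ c := by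
  have he3 := he.three
  have hp := hr.prime
  have h5 := five_le' hr he3
  have h2 := not_dvd_sq hr he3
  cases g with
  | psl n q =>
    obtain ⟨h3, h4, h6⟩ := he
    obtain ⟨h7, -⟩ := not_dvd_of_sq h2
    have h1 : Nat.gcd n (q - 1) * (q - 1) * c = glN n q := hc
    refine pow_dvd_c hp (fun h8 => ?_) h1 ?_
    · rcases hp.dvd_mul.1 h8 with h9 | h9
      · exact h7 (h9.trans (Nat.gcd_dvd_right _ _))
      · exact h7 h9
    · have h8 := dvd_list (fun i => q ^ n - q ^ i) (n := n) (i := n - e) (by omega)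
      refine Dvd.dvd.trans ?_ h8
      rw [pow_sub_pow q (show n = (n - e) + e by omega)]
      exact hk.mul_left _
  | psp m q =>
    obtain ⟨h3, h4, h6, h7⟩ := he
    have h1 : Nat.gcd 2 (q - 1) * c = q ^ (m ^ 2) * prB q m := hc
    exact pow_dvd_c hp (not_dvd_le h5 (by norm_num) (by norm_num)) h1
      ((pow_prB hr he3 (by omega) h6 (by omega) hk).mul_left _)
  | psu n q =>
    obtain ⟨h3, h4, h6, h7⟩ := he
    obtain ⟨-, h8⟩ := not_dvd_of_sq h2
    have h1 : Nat.gcd n (q + 1) * (q + 1) * c = q ^ (n * (n - 1) / 2) * prU q n := hc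
    refine pow_dvd_c hp (fun h8' => ?_) h1 (Dvd.dvd.mul_left ?_ _)
    · rcases hp.dvd_mul.1 h8' with h9 | h9
      · exact h8 (h9.trans (Nat.gcd_dvd_right _ _))
      · exact h8 h9
    · obtain ⟨j, hj⟩ : ∃ j, e = 2 * j := ⟨e / 2, by omega⟩
      have h9 := dvd_list (fU q) (n := n) (i := j - 1) (by omega)
      refine Dvd.dvd.trans ?_ h9
      have h10 : fU q (j - 1) = q ^ j + 1 := by
        unfold fU
        rw [Nat.sub_add_cancel (by omega : 1 ≤ j)]
        have h11 : (j - 1) % 2 = 0 := by omega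
        rw [h11]; rfl
      rw [h10]
      have h11 : q ^ e - 1 = (q ^ j + 1) * (q ^ j - 1) := by
        rw [hj, mul_comm 2 j, pow_mul]
        have := Nat.sq_sub_sq (q ^ j) 1
        rwa [one_pow] at this
      have h12 : ¬ r ∣ q ^ j - 1 := by
        intro h
        have := Nat.le_of_dvd (by omega) ((hr.dvd_iff j).1 h)
        omega
      have hk' : r ^ k ∣ q ^ e - 1 := hk
      rw [h11] at hk'
      exact (Nat.Coprime.pow_left k ((Nat.Prime.coprime_iff_not_dvd hp).2 h12)).dvd_of_dvd_mul_right hk'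
  | oodd m q =>
    have h1 : 2 * c = q ^ (m ^ 2) * prB q m := hc
    have h3 : 3 ≤ m := hg.1
    simp only [InE] at he
    refine pow_dvd_c hp (fun h => ?_) h1 ((pow_prB hr he3 (by omega) (by omega) (by omega) hk).mul_left _)
    have := Nat.le_of_dvd (by norm_num) h
    omega
  | oplus m q =>
    have h1 : Nat.gcd 4 (q ^ m - 1) * c = q ^ (m * (m - 1)) * ((q ^ m - 1) * prB q (m - 1)) := hc
    have h3 : 4 ≤ m := hg.1
    simp only [InE] at he
    refine pow_dvd_c hp (not_dvd_le h5 (by norm_num) (by norm_num)) h1 (Dvd.dvd.mul_left ?_ _)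
    by_cases h4 : e = m ∧ e % 2 = 1
    · rw [← h4.1]
      exact hk.mul_right _
    · exact (pow_prB (m := m - 1) hr he3 (by omega) (by omega) (by omega) hk).mul_left _
  | ominus m q =>
    have h1 : Nat.gcd 4 (q ^ m + 1) * c = q ^ (m * (m - 1)) * ((q ^ m + 1) * prB q (m - 1)) := hc
    have h3 : 4 ≤ m := hg.1
    simp only [InE] at he
    refine pow_dvd_c hp (not_dvd_le h5 (by norm_num) (by norm_num)) h1 (Dvd.dvd.mul_left ?_ _)
    by_cases h4 : e = 2 * m
    · have h11 : q ^ e - 1 = (q ^ m + 1) * (q ^ m - 1) := by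
        rw [h4, mul_comm 2 m, pow_mul]
        have := Nat.sq_sub_sq (q ^ m) 1
        rwa [one_pow] at this
      have h12 : ¬ r ∣ q ^ m - 1 := by
        intro h
        have := Nat.le_of_dvd (by omega) ((hr.dvd_iff m).1 h)
        omega
      have hk' : r ^ k ∣ q ^ e - 1 := hk
      rw [h11] at hk'
      exact ((Nat.Coprime.pow_left k ((Nat.Prime.coprime_iff_not_dvd hp).2 h12)).dvd_of_dvd_mul_right hk').mul_right _
    · exact (pow_prB (m := m - 1) hr he3 (by omega) (by omega) (by omega) hk).mul_left _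
  | _ => exact he.elim

/-! ### cyclicity -/

theorem pp_of_prim {q e r : ℕ} (hq : 1 ≤ q) (h : Prim q e r) : PP q e r := by
  refine ⟨h.prime, Nat.dvd_antisymm ?_ ?_⟩
  · rw [← Lib.Zsigmondy.dvd_pow_sub_one_iff hq]
    exact h.dvd dvd_rfl
  · rw [← h.dvd_iff, Lib.Zsigmondy.dvd_pow_sub_one_iff hq]

theorem prim_of_pp {q e r : ℕ} (hq : 1 ≤ q) (he : 1 ≤ e) (h : PP q e r) : Prim q e r :=
  prim_of_orderOf hq he h.prime h.ord

section lin

variable {G : Type*} [Group G] [Finite G] {ι : Type*} [Fintype ι] [DecidableEq ι] {F : Type*} [Field F] [Fintype F]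

omit [Finite G] in
/-- one block -/
theorem cycW_lin {T : Type*} [Group T] {e r : ℕ} (π : G →* T) (hπ : Function.Surjective π)
    (hK : π.ker ≤ Subgroup.center G) (hrK : ¬ r ∣ Nat.card π.ker) (hrT : r ∣ Nat.card T) (ρ : G →* GL ι F)
    (hρ : Function.Injective ρ) (hr : PP (Nat.card F) e r) (he : 2 ≤ e) (hn : Fintype.card ι < 2 * e) :
    CycW T r := by
  have hlt := hr.lt (by omega)
  have hrp := Fact.mk hr.prime
  have hne : (r : F) ≠ 0 := hr.ne0 (by omega)
  let R : G →* Module.End F (ι → F) :=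
    ((Matrix.toLinAlgEquiv' : Matrix ι ι F ≃ₐ[F] _).toAlgHom.toRingHom.toMonoidHom.comp
      (Units.coeHom (Matrix ι ι F))).comp ρ
  have hR : Function.Injective R := by
    intro x y h
    apply hρ
    apply Units.ext
    exact (Matrix.toLinAlgEquiv' : Matrix ι ι F ≃ₐ[F] _).injective h
  have hU : ∀ x : G, x ^ r = 1 → ∀ U : Submodule F (ι → F), Inv (R x) U → U ⊓ fx (R x) = ⊥ → e ∣ finrank F U := by
    intro x hx U hU hUf
    have hxr : R x ^ r = 1 := by rw [← map_pow, hx, map_one]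
    have h1 := H951.ord_dvd_finrank hxr hU hUf
    rwa [ord_eq hr] at h1
  refine cycW_of (d := e) (e := e) π hπ hK hr.prime (by omega) hne hrK hrT R hR (by omega) (by omega) ?_ ?_
  · intro x hx hx1
    have hxr : R x ^ r = 1 := by rw [← map_pow, hx, map_one]
    have h1 := hU x hx (cm (R x)) H951.inv_cm (by
      rw [inf_comm]
      exact (H951.isCompl_fx_cm hne hxr).inf_eq_bot)
    have h2 : finrank F (cm (R x)) ≠ 0 := by
      intro h
      apply hx1
      apply hR
      rw [map_one]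
      exact sub_eq_zero.1 (LinearMap.range_eq_bot.1 (Submodule.finrank_eq_zero.1 h))
    have h3 : finrank F (cm (R x)) ≤ Fintype.card ι := by
      rw [← Module.finrank_fintype_fun_eq_card F (η := ι)]
      exact Submodule.finrank_le _
    obtain ⟨t, ht⟩ := h1
    have h4 : t ≠ 0 := by rintro rfl; omega
    have h5 : t < 2 := by
      by_contra h
      push Not at h
      have := Nat.mul_le_mul_left e h
      omega
    have h6 : t = 1 := by omega
    rw [ht, h6, mul_one]
  · intro x hx U h1 h2 h3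
    exact Nat.le_of_dvd (Nat.pos_of_ne_zero fun h => h3 (Submodule.finrank_eq_zero.1 h)) (hU x hx U h1 h2)

end lin

section orth

variable {ι : Type} [Fintype ι] [DecidableEq ι] {F : Type u} [Field F] [Fintype F] {Q : QuadraticForm F (ι → F)}

theorem cycW_orth' (hD : H390.Lift.Data Q) {e r : ℕ} (hr : PP (Nat.card F) e r) (he : 2 ≤ e) {d : ℕ} (hde : d ≤ 2 * e)
    (hd : ∀ g ∈ isometryGroup F (⇑Q), g ^ r = 1 → g ≠ 1 → finrank F (cm (lin g)) = d)
    (hg : r ∣ Nat.card (POmega F (⇑Q))) : CycW (POmega F (⇑Q)) r := by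
  have hlt := hr.lt (by omega)
  have hrp := Fact.mk hr.prime
  have hr2 : r ≠ 2 := by omega
  have hne := hr.ne0 (F := F) (by omega)
  refine cycW_of (QuotientGroup.mk' (Subgroup.center (Omega F (⇑Q)))) (QuotientGroup.mk'_surjective _) ?_ hr.prime
    (by omega) hne ?_ hg (rep (⇑Q)) (rep_injective _) (show 0 < e by omega) hde
    ?_ ?_
  · rw [QuotientGroup.ker_mk']
  · rw [QuotientGroup.ker_mk']
    intro h
    obtain ⟨z, hz⟩ := exists_prime_orderOf_dvd_card' r h
    have h1 := H390.Lift.center_sq hD z z.2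
    have h2 : z ^ 2 = 1 := Subtype.ext h1
    have h3 := orderOf_dvd_of_pow_eq_one h2
    rw [hz] at h3
    exact hr2 ((Nat.prime_dvd_prime_iff_eq hr.prime Nat.prime_two).1 h3)
  · intro x hx hx1
    refine hd _ x.1.2 ?_ ?_
    · exact congrArg (fun y : Omega F (⇑Q) => ((y : isometryGroup F (⇑Q)) : GL ι F)) hx
    · intro h
      exact hx1 (Subtype.ext (Subtype.ext h))
  · intro x hx U hU hUf hU0
    have hxr : rep (⇑Q) x ^ r = 1 := by rw [← map_pow, hx, map_one]
    have h1 := H951.ord_dvd_finrank hxr hU hUf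
    rw [ord_eq hr] at h1
    exact Nat.le_of_dvd (Nat.pos_of_ne_zero fun h => hU0 (Submodule.finrank_eq_zero.1 h)) h1

theorem cycW_orth_of (hD : H390.Lift.Data Q) (hQ : Nondeg Q) {e r : ℕ} (hr : PP (Nat.card F) e r) (he3 : 3 ≤ e)
    (h : (e % 2 = 0 ∧ Fintype.card ι < 2 * e) ∨ (e % 2 = 1 ∧ Fintype.card ι < 4 * e))
    (hg : r ∣ Nat.card (POmega F (⇑Q))) : CycW (POmega F (⇑Q)) r := by
  rcases h with ⟨he, hn⟩ | ⟨he, hn⟩
  · refine cycW_orth' hD hr (by omega) (d := e) (by omega) (fun g hg hgr hg1 => ?_) hg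
    have hx : lin g ^ r = 1 := by rw [← H251.GeoCard.toLin_pow, hgr]; exact lin_one
    exact ((Iso.mk' hr (by omega) hx (lin_iso le_rfl hg)).even_case hQ (lin_ne_one hg1) hr (Nat.even_iff.2 he)
      (by rw [finrank_V]; exact hn)).1
  · refine cycW_orth' hD hr (by omega) (d := 2 * e) le_rfl (fun g hg hgr hg1 => ?_) hg
    have hx : lin g ^ r = 1 := by rw [← H251.GeoCard.toLin_pow, hgr]; exact lin_one
    exact ((Iso.mk' hr (by omega) hx (lin_iso le_rfl hg)).odd_case hQ (lin_ne_one hg1) hr (Nat.odd_iff.2 he)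
      (by rw [finrank_V]; exact hn)).1

end orth

section named

variable {T : Type} [Group T] [Finite T]

theorem center_sl_pow {n : ℕ} {F : Type} [Field F] {z : SL(n, F)} (hz : z ∈ Subgroup.center SL(n, F))
    {r : ℕ} (hzr : z ^ r = 1) [Fintype F] (hr : r.Prime) (h : ¬ r ∣ Fintype.card F - 1) (hn : 1 ≤ n) : z = 1 := by
  obtain ⟨a, ha, hz2⟩ := Matrix.SpecialLinearGroup.mem_center_iff.1 hz
  have hne : Nonempty (Fin n) := ⟨⟨0, by omega⟩⟩
  have h1 : a ^ r = 1 := by
    have h2 : (Matrix.scalar (Fin n) a) ^ r = 1 := by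
      rw [hz2, ← Matrix.SpecialLinearGroup.coe_pow, hzr, Matrix.SpecialLinearGroup.coe_one]
    rw [← map_pow, ← map_one (Matrix.scalar (Fin n))] at h2
    exact Matrix.scalar_inj.1 h2
  have ha0 : a ≠ 0 := by
    rintro rfl
    rw [zero_pow hr.ne_zero] at h1
    exact zero_ne_one h1
  have h3 : a = 1 := by
    have h4 : orderOf a ∣ r := orderOf_dvd_of_pow_eq_one h1
    rcases (Nat.dvd_prime hr).1 h4 with h5 | h5
    · exact orderOf_eq_one_iff.1 h5
    · exfalso
      apply h
      rw [← h5]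
      exact orderOf_dvd_of_pow_eq_one (FiniteField.pow_card_sub_one_eq_one a ha0)
  apply Subtype.ext
  rw [← hz2, h3, map_one]
  rfl

/-- `Sp → GL` -/
def spHom (m : ℕ) (F : Type) [Field F] : Matrix.symplecticGroup (Fin m) F →* GL (Fin m ⊕ Fin m) F :=
  MonoidHom.toHomUnits (Matrix.symplecticGroup (Fin m) F).subtype

/-- **`CycW`.** -/
theorem cycW_named {g : Grp} (hT : IsNamed g T) {e r : ℕ} (he : InE g e) (hr : Prim (Cx.fq g) e r) : CycW T r := by
  have he3 := he.three
  have hlt := (prim_mod hr (by omega)).2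
  have h5 := five_le' hr he3
  have hrT : r ∣ Nat.card T := by
    have := pow_dvd_named (k := 1) hT.cond hT.eq he hr (by rw [pow_one]; exact hr.dvd dvd_rfl)
    rwa [pow_one] at this
  obtain ⟨hreal, hcond, -, -⟩ := hT
  cases g with
  | psl n q =>
    obtain ⟨F, _, _, hF, ⟨f⟩⟩ := hreal
    have hr' : Prim q e r := hr
    have hpp : PP (Nat.card F) e r := by
      rw [Nat.card_eq_fintype_card, hF]
      exact pp_of_prim (hcond.2.2.pos) hr'
    have hrS : r ∣ Nat.card (Matrix.ProjectiveSpecialLinearGroup (Fin n) F) := by rwa [← Nat.card_congr f.toEquiv]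
    refine CycW.congr f.symm (cycW_lin (QuotientGroup.mk' (Subgroup.center SL(n, F))) (QuotientGroup.mk'_surjective _)
      (by rw [QuotientGroup.ker_mk']) ?_ hrS Matrix.SpecialLinearGroup.toGL ?_ hpp (by omega)
      (by rw [Fintype.card_fin]; exact he.2.2))
    · rw [QuotientGroup.ker_mk']
      intro h
      have := Fact.mk hr.prime
      obtain ⟨z, hz⟩ := exists_prime_orderOf_dvd_card' r h
      have h1 : (z : SL(n, F)) ^ r = 1 := by
        rw [← hz, ← Subgroup.coe_pow, pow_orderOf_eq_one, Subgroup.coe_one]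
      have h2 := center_sl_pow z.2 h1 hr.prime (by
        rw [hF]
        intro h3
        have h4 : r ∣ q ^ 1 - 1 := by rwa [pow_one]
        have := Nat.le_of_dvd one_pos ((hr'.dvd_iff 1).1 h4)
        omega) (by have := he.2.1; omega)
      have h3 : z = 1 := Subtype.ext h2
      rw [h3, orderOf_one] at hz
      exact hr.prime.one_lt.ne hz
    · intro a b h
      exact Subtype.ext (congrArg (fun x : GL (Fin n) F => (x : Matrix (Fin n) (Fin n) F)) h)
  | psp m q =>
    obtain ⟨F, _, _, hF, ⟨f⟩⟩ := hreal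
    have hr' : Prim q e r := hr
    have hpp : PP (Nat.card F) e r := by
      rw [Nat.card_eq_fintype_card, hF]
      exact pp_of_prim (hcond.2.2.pos) hr'
    have hrS : r ∣ Nat.card (PSp m F) := by rwa [← Nat.card_congr f.toEquiv]
    refine CycW.congr f.symm (cycW_lin (QuotientGroup.mk' (Subgroup.center (Matrix.symplecticGroup (Fin m) F)))
      (QuotientGroup.mk'_surjective _) (by rw [QuotientGroup.ker_mk']) ?_ hrS (spHom m F) ?_ hpp (by omega)
      (by rw [Fintype.card_sum, Fintype.card_fin]; have := he.2.2.2; omega))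
    · rw [QuotientGroup.ker_mk', S0246.result (q := Fintype.card F) rfl m (by have := hcond.1; omega)]
      exact not_dvd_le h5 (by norm_num) (by norm_num)
    · intro a b h
      have h1 : ((spHom m F a : GL (Fin m ⊕ Fin m) F) : Matrix (Fin m ⊕ Fin m) (Fin m ⊕ Fin m) F) =
          ((spHom m F b : GL (Fin m ⊕ Fin m) F) : Matrix (Fin m ⊕ Fin m) (Fin m ⊕ Fin m) F) := by rw [h]
      exact Subtype.ext h1
  | psu n q =>
    obtain ⟨F, _, _, hF, ⟨f⟩⟩ := hreal
    have hr' : Prim q e r := hr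
    obtain ⟨h3, h4, h6, h7⟩ := he
    have hq := hcond.2.2.pos
    obtain ⟨j, hj⟩ : ∃ j, e = 2 * j := ⟨e / 2, by omega⟩
    have hpr : Prim (q ^ 2) j r := by
      refine ⟨hr'.prime, fun m => ?_, fun h => hr'.not_dvd (hr'.prime.dvd_of_dvd_pow h)⟩
      rw [← pow_mul, hr'.dvd_iff, hj]
      exact Nat.mul_dvd_mul_iff_left (by norm_num)
    have hpp : PP (Nat.card F) j r := by
      rw [Nat.card_eq_fintype_card, hF]
      exact pp_of_prim (Nat.one_le_pow _ _ hq) hpr
    have hrS : r ∣ Nat.card (PSU n F q) := by rwa [← Nat.card_congr f.toEquiv]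
    refine CycW.congr f.symm (cycW_lin (QuotientGroup.mk' (Subgroup.center (SU n F q)))
      (QuotientGroup.mk'_surjective _) (by rw [QuotientGroup.ker_mk']) ?_ hrS (H918.suHom n F q)
      H918.suHom_injective hpp (by omega) (by rw [Fintype.card_fin]; omega))
    rw [QuotientGroup.ker_mk', S0279.result hF n hcond.1]
    intro h
    have h8 : r ∣ q + 1 := h.trans (Nat.gcd_dvd_right _ _)
    exact (not_dvd_of_sq (not_dvd_sq hr' he3)).2 h8
  | oodd m q =>
    obtain ⟨F, _, _, hF, ⟨f⟩⟩ := hreal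
    have hpp : PP (Nat.card F) e r := by
      rw [Nat.card_eq_fintype_card, hF]
      exact pp_of_prim (hcond.2.2.pos) hr
    have hrS : r ∣ Nat.card (POmega F (quadFormOdd m F)) := by rwa [← Nat.card_congr f.toEquiv]
    have hodd : Odd (Fintype.card F) := by rw [hF]; exact hcond.2.1
    have h2 := H390.two_ne_zero_of_odd hodd
    refine CycW.congr f.symm ?_
    have key := cycW_orth_of (Q := quadOdd m F) (data_odd hcond.1 h2)
      (nondeg_iff.2 (quadOdd_nondegenerate h2 (F := F) (m := m))) hpp he3 (by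
        rw [card_odd]
        simp only [InE] at he
        omega)
    rw [coe_quadOdd] at key
    exact key hrS
  | oplus m q =>
    obtain ⟨F, _, _, hF, ⟨f⟩⟩ := hreal
    have hpp : PP (Nat.card F) e r := by
      rw [Nat.card_eq_fintype_card, hF]
      exact pp_of_prim (hcond.2.pos) hr
    have hrS : r ∣ Nat.card (POmega F (quadFormPlus m F)) := by rwa [← Nat.card_congr f.toEquiv]
    refine CycW.congr f.symm ?_
    have key := cycW_orth_of (Q := quadPlus m F) (data_plus (F := F) hcond.1)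
      (nondeg_iff.2 (quadPlus_nondegenerate (F := F) (m := m))) hpp he3 (by
        rw [card_plus]
        simp only [InE] at he
        omega)
    rw [coe_quadPlus] at key
    exact key hrS
  | ominus m q =>
    obtain ⟨F, _, _, a, b, hF, hab, ⟨f⟩⟩ := hreal
    have hm : 4 ≤ m := hcond.1
    have hpp : PP (Nat.card F) e r := by
      rw [Nat.card_eq_fintype_card, hF]
      exact pp_of_prim (hcond.2.pos) hr
    have hrS : r ∣ Nat.card (POmega F (quadFormMinus (m - 1) F a b)) := by rwa [← Nat.card_congr f.toEquiv]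
    refine CycW.congr f.symm ?_
    have key := cycW_orth_of (Q := quadMinus (m - 1) F a b) (data_minus hm hab)
      (nondeg_iff.2 (quadMinus_nondegenerate (m := m - 1) hab)) hpp he3 (by
        rw [card_minus (by omega)]
        simp only [InE] at he
        omega)
    rw [coe_quadMinus] at key
    exact key hrS
  | _ => exact he.elim

/-- **`Cyc`.** -/
theorem cyc_named [IsSimpleGroup T] (hna : ¬ ∀ a b : T, a * b = b * a) {g : Grp} {p : ℕ} (hp : p.Prime)
    (hT : IsNamed g T) (hch : HasChar p g) {e r : ℕ} (he : InE g e) (hr : Prim (Cx.fq g) e r)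
    (hnd : NDF (Cx.fq g) r) : Cyc T r := by
  have he3 := he.three
  have h2 := not_dvd_sq hr he3
  have hfld : fld g = Cx.fq g := by
    cases g <;> first | rfl | exact he.elim
  refine cyc_of_weak hna hp hT hch (five_le' hr he3) (by rw [hfld]; exact hnd) ?_ (cycW_named hT he hr)
  cases g with
  | psl n q => exact (not_dvd_of_sq h2).1
  | psu n q => exact (not_dvd_of_sq h2).2
  | _ => exact trivial

end named

end Cfsg.Agent.H884.Ig
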