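import Cfsg.Agent.H884.IgNum
import Cfsg.Agent.H278.ElCrossNum

/-!
# The finitely many `(n, p)` with the full primitive part of `p ^ n - 1` dividing `f |g|` (helper884)

`g` in helper278's `crossList` (Lie type, Landazuri-Seitz bound at most 36; `s` the characteristic, `f` the field
exponent), a sporadic group (`f = 2`) or `A_m`, `m ≤ 10` (`f = 4`).
-/

set_option autoImplicit false

namespace Cfsg.Agent.H884.Ig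

open Cfsg.Agent.OrdDiv

/-- an entry: name, characteristic, factor, factorization of `f |g|`, hits -/
structure Dat where
  g : Grp
  s : ℕ
  f : ℕ
  fac : List (ℕ × ℕ)
  L : List (ℕ × ℕ)

def okD (x : Dat) : Bool := Nat.beq (val x.fac) (x.f * ordN x.g) && hitsB x.fac x.s x.L

/-- groups of Lie type, part 0 -/
def lie0 : List Dat := [
  ⟨.psl 2 4, 2, 2, [(2, 3), (3, 1), (5, 1)], [(4, 3)]⟩,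
  ⟨.psl 2 5, 5, 1, [(2, 2), (3, 1), (5, 1)], [(4, 2), (4, 3), (6, 2)]⟩,
  ⟨.psl 2 7, 7, 1, [(2, 3), (3, 1), (7, 1)], [(3, 2), (6, 2), (6, 3), (6, 5)]⟩,
  ⟨.psl 2 8, 2, 3, [(2, 3), (3, 3), (7, 1)], [(6, 3), (6, 5)]⟩,
  ⟨.psl 2 9, 3, 2, [(2, 4), (3, 2), (5, 1)], [(4, 2), (6, 2)]⟩,
  ⟨.psl 2 11, 11, 1, [(2, 2), (3, 1), (5, 1), (11, 1)], [(4, 2), (4, 3), (6, 2), (10, 2)]⟩,
  ⟨.psl 2 13, 13, 1, [(2, 2), (3, 1), (7, 1), (13, 1)], [(3, 2), (3, 3), (4, 5), (6, 2), (6, 3), (6, 5), (6, 17), (12, 2)]⟩,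
  ⟨.psl 2 16, 2, 4, [(2, 6), (3, 1), (5, 1), (17, 1)], [(4, 3), (4, 13)]⟩,
  ⟨.psl 2 17, 17, 1, [(2, 4), (3, 2), (17, 1)], [(6, 2), (8, 2)]⟩,
  ⟨.psl 2 19, 19, 1, [(2, 2), (3, 2), (5, 1), (19, 1)], [(3, 7), (4, 2), (4, 3), (6, 2), (18, 2)]⟩,
  ⟨.psl 2 23, 23, 1, [(2, 3), (3, 1), (11, 1), (23, 1)], [(6, 2), (10, 2)]⟩,
  ⟨.psl 2 25, 5, 2, [(2, 4), (3, 1), (5, 2), (13, 1)], [(3, 3), (4, 2), (4, 3), (4, 7), (6, 2), (12, 2)]⟩,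
  ⟨.psl 2 27, 3, 3, [(2, 2), (3, 4), (7, 1), (13, 1)], [(3, 2), (4, 5), (6, 2), (6, 5), (6, 17), (12, 2)]⟩,
  ⟨.psl 2 29, 29, 1, [(2, 2), (3, 1), (5, 1), (7, 1), (29, 1)], [(3, 2), (4, 2), (4, 3), (4, 17), (6, 2), (6, 3), (6, 5)]⟩,
  ⟨.psl 2 31, 31, 1, [(2, 5), (3, 1), (5, 1), (31, 1)], [(3, 5), (4, 2), (4, 3), (5, 2), (6, 2)]⟩]

set_option maxRecDepth 100000 in
theorem lie0_ok : lie0.all okD = true := by decide +kernel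

/-- groups of Lie type, part 1 -/
def lie1 : List Dat := [
  ⟨.psl 2 32, 2, 5, [(2, 5), (3, 1), (5, 1), (11, 1), (31, 1)], [(3, 5), (4, 3)]⟩,
  ⟨.psl 2 37, 37, 1, [(2, 2), (3, 2), (19, 1), (37, 1)], [(3, 7), (6, 2), (6, 11), (18, 2), (18, 3)]⟩,
  ⟨.psl 2 41, 41, 1, [(2, 3), (3, 1), (5, 1), (7, 1), (41, 1)], [(3, 2), (4, 2), (4, 3), (6, 2), (6, 3), (6, 5), (8, 3), (20, 2)]⟩,
  ⟨.psl 2 43, 43, 1, [(2, 2), (3, 1), (7, 1), (11, 1), (43, 1)], [(3, 2), (6, 2), (6, 3), (6, 5), (6, 7), (10, 2), (14, 2)]⟩,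
  ⟨.psl 2 47, 47, 1, [(2, 4), (3, 1), (23, 1), (47, 1)], [(6, 2)]⟩,
  ⟨.psl 2 49, 7, 2, [(2, 5), (3, 1), (5, 2), (7, 2)], [(3, 2), (4, 2), (4, 3), (6, 2), (6, 3), (6, 5)]⟩,
  ⟨.psl 2 53, 53, 1, [(2, 2), (3, 3), (13, 1), (53, 1)], [(3, 3), (4, 5), (6, 2), (12, 2)]⟩,
  ⟨.psl 2 59, 59, 1, [(2, 2), (3, 1), (5, 1), (29, 1), (59, 1)], [(4, 2), (4, 3), (4, 17), (6, 2)]⟩,
  ⟨.psl 2 61, 61, 1, [(2, 2), (3, 1), (5, 1), (31, 1), (61, 1)], [(3, 5), (3, 13), (4, 2), (4, 3), (4, 11), (5, 2), (6, 2), (10, 3)]⟩,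
  ⟨.psl 2 64, 2, 6, [(2, 7), (3, 3), (5, 1), (7, 1), (13, 1)], [(3, 3), (4, 3), (4, 5), (6, 3), (6, 5), (6, 17)]⟩,
  ⟨.psl 2 67, 67, 1, [(2, 2), (3, 1), (11, 1), (17, 1), (67, 1)], [(6, 2), (8, 2), (10, 2)]⟩,
  ⟨.psl 2 71, 71, 1, [(2, 3), (3, 2), (5, 1), (7, 1), (71, 1)], [(3, 2), (4, 2), (4, 3), (6, 2), (6, 3), (6, 5)]⟩,
  ⟨.psl 2 73, 73, 1, [(2, 3), (3, 2), (37, 1), (73, 1)], [(6, 2), (6, 11), (9, 2), (12, 3)]⟩,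
  ⟨.psl 3 2, 2, 1, [(2, 3), (3, 1), (7, 1)], [(6, 3), (6, 5)]⟩,
  ⟨.psl 3 3, 3, 1, [(2, 4), (3, 3), (13, 1)], [(4, 5), (6, 2), (12, 2)]⟩]

set_option maxRecDepth 100000 in
theorem lie1_ok : lie1.all okD = true := by decide +kernel

/-- groups of Lie type, part 2 -/
def lie2 : List Dat := [
  ⟨.psl 3 4, 2, 2, [(2, 7), (3, 2), (5, 1), (7, 1)], [(4, 3), (6, 3), (6, 5)]⟩,
  ⟨.psl 3 5, 5, 1, [(2, 5), (3, 1), (5, 3), (31, 1)], [(4, 2), (4, 3), (4, 7), (5, 2), (6, 2)]⟩,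
  ⟨.psl 4 2, 2, 1, [(2, 6), (3, 2), (5, 1), (7, 1)], [(4, 3), (6, 3), (6, 5)]⟩,
  ⟨.psl 4 3, 3, 1, [(2, 7), (3, 6), (5, 1), (13, 1)], [(4, 2), (4, 5), (6, 2), (12, 2)]⟩,
  ⟨.psl 5 2, 2, 1, [(2, 10), (3, 2), (5, 1), (7, 1), (31, 1)], [(3, 5), (4, 3), (6, 3), (6, 5)]⟩,
  ⟨.psl 6 2, 2, 1, [(2, 15), (3, 4), (5, 1), (7, 2), (31, 1)], [(3, 5), (3, 67), (4, 3), (6, 3), (6, 5)]⟩,
  ⟨.psp 2 3, 3, 1, [(2, 6), (3, 4), (5, 1)], [(4, 2), (6, 2)]⟩,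
  ⟨.psp 2 4, 2, 2, [(2, 9), (3, 2), (5, 2), (17, 1)], [(4, 3), (4, 7), (4, 13)]⟩,
  ⟨.psp 2 5, 5, 1, [(2, 6), (3, 2), (5, 4), (13, 1)], [(3, 3), (4, 2), (4, 3), (4, 7), (6, 2), (12, 2)]⟩,
  ⟨.psp 2 7, 7, 1, [(2, 8), (3, 2), (5, 2), (7, 4)], [(3, 2), (4, 2), (4, 3), (6, 2), (6, 3), (6, 5), (6, 19)]⟩,
  ⟨.psp 3 2, 2, 1, [(2, 9), (3, 4), (5, 1), (7, 1)], [(4, 3), (6, 3), (6, 5)]⟩,
  ⟨.psp 3 3, 3, 1, [(2, 9), (3, 9), (5, 1), (7, 1), (13, 1)], [(3, 2), (4, 2), (4, 5), (6, 2), (6, 5), (6, 17), (12, 2)]⟩,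
  ⟨.psp 4 2, 2, 1, [(2, 16), (3, 5), (5, 2), (7, 1), (17, 1)], [(4, 3), (4, 7), (4, 13), (6, 3), (6, 5)]⟩,
  ⟨.psp 5 2, 2, 1, [(2, 25), (3, 6), (5, 2), (7, 1), (11, 1), (17, 1), (31, 1)], [(3, 5), (4, 3), (4, 7), (4, 13), (6, 3), (6, 5)]⟩,
  ⟨.psu 3 3, 3, 1, [(2, 5), (3, 3), (7, 1)], [(3, 2), (6, 2), (6, 5)]⟩]

set_option maxRecDepth 100000 in
theorem lie2_ok : lie2.all okD = true := by decide +kernel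

/-- groups of Lie type, part 3 -/
def lie3 : List Dat := [
  ⟨.oodd 3 3, 3, 1, [(2, 9), (3, 9), (5, 1), (7, 1), (13, 1)], [(3, 2), (4, 2), (4, 5), (6, 2), (6, 5), (6, 17), (12, 2)]⟩,
  ⟨.psu 3 4, 2, 2, [(2, 7), (3, 1), (5, 2), (13, 1)], [(3, 3), (4, 3), (4, 5), (4, 7)]⟩,
  ⟨.psu 3 5, 5, 1, [(2, 4), (3, 2), (5, 3), (7, 1)], [(3, 2), (4, 2), (4, 3), (4, 7), (6, 2), (6, 3)]⟩,
  ⟨.psu 4 2, 2, 1, [(2, 6), (3, 4), (5, 1)], [(4, 3)]⟩,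
  ⟨.psu 4 3, 3, 1, [(2, 7), (3, 6), (5, 1), (7, 1)], [(3, 2), (4, 2), (6, 2), (6, 5)]⟩,
  ⟨.oodd 4 3, 3, 1, [(2, 14), (3, 16), (5, 2), (7, 1), (13, 1), (41, 1)], [(3, 2), (4, 2), (4, 5), (4, 7), (4, 73), (6, 2), (6, 5), (6, 17), (12, 2), (20, 2)]⟩,
  ⟨.psu 5 2, 2, 1, [(2, 10), (3, 5), (5, 1), (11, 1)], [(4, 3)]⟩,
  ⟨.psu 6 2, 2, 1, [(2, 15), (3, 6), (5, 1), (7, 1), (11, 1)], [(4, 3), (6, 3), (6, 5)]⟩,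
  ⟨.psu 7 2, 2, 1, [(2, 21), (3, 8), (5, 1), (7, 1), (11, 1), (43, 1)], [(4, 3), (6, 3), (6, 5), (6, 7)]⟩,
  ⟨.oplus 4 2, 2, 1, [(2, 12), (3, 5), (5, 2), (7, 1)], [(4, 3), (4, 7), (6, 3), (6, 5)]⟩,
  ⟨.ominus 4 2, 2, 1, [(2, 12), (3, 4), (5, 1), (7, 1), (17, 1)], [(4, 3), (4, 13), (6, 3), (6, 5)]⟩,
  ⟨.oplus 4 3, 3, 1, [(2, 12), (3, 12), (5, 2), (7, 1), (13, 1)], [(3, 2), (4, 2), (4, 5), (4, 7), (6, 2), (6, 5), (6, 17), (12, 2)]⟩,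
  ⟨.ominus 4 3, 3, 1, [(2, 10), (3, 12), (5, 1), (7, 1), (13, 1), (41, 1)], [(3, 2), (4, 2), (4, 5), (4, 73), (6, 2), (6, 5), (6, 17), (12, 2), (20, 2)]⟩,
  ⟨.oplus 5 2, 2, 1, [(2, 20), (3, 5), (5, 2), (7, 1), (17, 1), (31, 1)], [(3, 5), (4, 3), (4, 7), (4, 13), (6, 3), (6, 5)]⟩,
  ⟨.ominus 5 2, 2, 1, [(2, 20), (3, 6), (5, 2), (7, 1), (11, 1), (17, 1)], [(4, 3), (4, 7), (4, 13), (6, 3), (6, 5)]⟩]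

set_option maxRecDepth 100000 in
theorem lie3_ok : lie3.all okD = true := by decide +kernel

/-- groups of Lie type, part 4 -/
def lie4 : List Dat := [
  ⟨.ominus 5 3, 3, 1, [(2, 15), (3, 20), (5, 2), (7, 1), (13, 1), (41, 1), (61, 1)], [(3, 2), (3, 13), (4, 2), (4, 5), (4, 7), (4, 11), (4, 73), (6, 2), (6, 5), (6, 17), (12, 2), (20, 2)]⟩,
  ⟨.oplus 6 2, 2, 1, [(2, 30), (3, 8), (5, 2), (7, 2), (11, 1), (17, 1), (31, 1)], [(3, 5), (3, 67), (4, 3), (4, 7), (4, 13), (6, 3), (6, 5)]⟩,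
  ⟨.ominus 6 2, 2, 1, [(2, 30), (3, 6), (5, 3), (7, 1), (11, 1), (13, 1), (17, 1), (31, 1)], [(3, 3), (3, 5), (4, 3), (4, 5), (4, 7), (4, 13), (4, 47), (6, 3), (6, 5), (6, 17)]⟩,
  ⟨.ominus 7 2, 2, 1, [(2, 42), (3, 9), (5, 3), (7, 2), (11, 1), (13, 1), (17, 1), (31, 1), (43, 1)], [(3, 3), (3, 5), (3, 67), (3, 79), (4, 3), (4, 5), (4, 7), (4, 13), (4, 47), (6, 3), (6, 5), (6, 7), (6, 17), (6, 37)]⟩,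
  ⟨.g2 3, 3, 1, [(2, 6), (3, 6), (7, 1), (13, 1)], [(3, 2), (4, 5), (6, 2), (6, 5), (6, 17), (12, 2)]⟩,
  ⟨.g2 4, 2, 2, [(2, 13), (3, 3), (5, 2), (7, 1), (13, 1)], [(3, 3), (4, 3), (4, 5), (4, 7), (6, 3), (6, 5), (6, 17)]⟩,
  ⟨.g2 5, 5, 1, [(2, 6), (3, 3), (5, 6), (7, 1), (31, 1)], [(3, 2), (4, 2), (4, 3), (4, 7), (5, 2), (6, 2), (6, 3)]⟩,
  ⟨.td4 2, 2, 1, [(2, 12), (3, 4), (7, 2), (13, 1)], [(3, 3), (4, 5), (6, 3), (6, 5), (6, 17)]⟩,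
  ⟨.te6 2, 2, 1, [(2, 36), (3, 9), (5, 2), (7, 2), (11, 1), (13, 1), (17, 1), (19, 1)], [(3, 3), (3, 7), (3, 11), (4, 3), (4, 5), (4, 7), (4, 13), (4, 47), (6, 3), (6, 5), (6, 17), (6, 31)]⟩,
  ⟨.f4 2, 2, 1, [(2, 24), (3, 6), (5, 2), (7, 2), (13, 1), (17, 1)], [(3, 3), (4, 3), (4, 5), (4, 7), (4, 13), (4, 47), (6, 3), (6, 5), (6, 17)]⟩,
  ⟨.td4 3, 3, 1, [(2, 6), (3, 12), (7, 2), (13, 2), (73, 1)], [(3, 2), (3, 373), (4, 5), (6, 2), (6, 5), (6, 17), (6, 23), (9, 2), (12, 2)]⟩,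
  ⟨.sz 8, 2, 3, [(2, 6), (3, 1), (5, 1), (7, 1), (13, 1)], [(3, 3), (4, 3), (4, 5), (6, 3), (6, 5), (6, 17)]⟩,
  ⟨.ree 27, 3, 3, [(2, 3), (3, 10), (7, 1), (13, 1), (19, 1), (37, 1)], [(3, 2), (3, 7), (3, 11), (4, 5), (4, 31), (6, 2), (6, 5), (6, 11), (6, 17), (6, 101), (12, 2), (18, 2)]⟩,
  ⟨.sz 32, 2, 5, [(2, 10), (5, 3), (31, 1), (41, 1)], [(3, 5), (4, 3), (4, 7), (8, 3)]⟩]

set_option maxRecDepth 100000 in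
theorem lie4_ok : lie4.all okD = true := by decide +kernel

/-- sporadic groups, part 0 -/
def sp0 : List Dat := [
  ⟨.tits, 0, 2, [(2, 12), (3, 3), (5, 2), (13, 1)], [(3, 3), (4, 2), (4, 3), (4, 5), (4, 7), (6, 2), (12, 2)]⟩,
  ⟨.m11, 0, 2, [(2, 5), (3, 2), (5, 1), (11, 1)], [(4, 2), (4, 3), (6, 2), (10, 2)]⟩,
  ⟨.m12, 0, 2, [(2, 7), (3, 3), (5, 1), (11, 1)], [(4, 2), (4, 3), (6, 2), (10, 2)]⟩,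
  ⟨.m22, 0, 2, [(2, 8), (3, 2), (5, 1), (7, 1), (11, 1)], [(3, 2), (4, 2), (4, 3), (6, 2), (6, 3), (6, 5), (10, 2)]⟩,
  ⟨.m23, 0, 2, [(2, 8), (3, 2), (5, 1), (7, 1), (11, 1), (23, 1)], [(3, 2), (4, 2), (4, 3), (6, 2), (6, 3), (6, 5), (10, 2)]⟩,
  ⟨.m24, 0, 2, [(2, 11), (3, 3), (5, 1), (7, 1), (11, 1), (23, 1)], [(3, 2), (4, 2), (4, 3), (6, 2), (6, 3), (6, 5), (10, 2)]⟩,
  ⟨.j1, 0, 2, [(2, 4), (3, 1), (5, 1), (7, 1), (11, 1), (19, 1)], [(3, 2), (3, 7), (3, 11), (4, 2), (4, 3), (6, 2), (6, 3), (6, 5), (10, 2), (18, 2)]⟩,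
  ⟨.j2, 0, 2, [(2, 8), (3, 3), (5, 2), (7, 1)], [(3, 2), (4, 2), (4, 3), (4, 7), (6, 2), (6, 3), (6, 5)]⟩,
  ⟨.j3, 0, 2, [(2, 8), (3, 5), (5, 1), (17, 1), (19, 1)], [(3, 7), (4, 2), (4, 3), (4, 13), (6, 2), (8, 2), (18, 2)]⟩,
  ⟨.j4, 0, 2, [(2, 22), (3, 3), (5, 1), (7, 1), (11, 3), (23, 1), (29, 1), (31, 1), (37, 1), (43, 1)], [(3, 2), (3, 5), (4, 2), (4, 3), (4, 17), (5, 2), (5, 3), (6, 2), (6, 3), (6, 5), (6, 7), (6, 11), (6, 37), (10, 2), (14, 2)]⟩,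
  ⟨.co1, 0, 2, [(2, 22), (3, 9), (5, 4), (7, 2), (11, 1), (13, 1), (23, 1)], [(3, 2), (3, 3), (4, 2), (4, 3), (4, 5), (4, 7), (6, 2), (6, 3), (6, 5), (6, 17), (10, 2), (12, 2)]⟩,
  ⟨.co2, 0, 2, [(2, 19), (3, 6), (5, 3), (7, 1), (11, 1), (23, 1)], [(3, 2), (4, 2), (4, 3), (4, 7), (6, 2), (6, 3), (6, 5), (10, 2)]⟩,
  ⟨.co3, 0, 2, [(2, 11), (3, 7), (5, 3), (7, 1), (11, 1), (23, 1)], [(3, 2), (4, 2), (4, 3), (4, 7), (6, 2), (6, 3), (6, 5), (10, 2)]⟩,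
  ⟨.mcl, 0, 2, [(2, 8), (3, 6), (5, 3), (7, 1), (11, 1)], [(3, 2), (4, 2), (4, 3), (4, 7), (6, 2), (6, 3), (6, 5), (10, 2)]⟩]

set_option maxRecDepth 100000 in
theorem sp0_ok : sp0.all okD = true := by decide +kernel

/-- sporadic groups, part 1 -/
def sp1 : List Dat := [
  ⟨.hs, 0, 2, [(2, 10), (3, 2), (5, 3), (7, 1), (11, 1)], [(3, 2), (4, 2), (4, 3), (4, 7), (6, 2), (6, 3), (6, 5), (10, 2)]⟩,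
  ⟨.suz, 0, 2, [(2, 14), (3, 7), (5, 2), (7, 1), (11, 1), (13, 1)], [(3, 2), (3, 3), (4, 2), (4, 3), (4, 5), (4, 7), (6, 2), (6, 3), (6, 5), (6, 17), (10, 2), (12, 2)]⟩,
  ⟨.he, 0, 2, [(2, 11), (3, 3), (5, 2), (7, 3), (17, 1)], [(3, 2), (4, 2), (4, 3), (4, 7), (4, 13), (6, 2), (6, 3), (6, 5), (6, 19), (8, 2)]⟩,
  ⟨.ru, 0, 2, [(2, 15), (3, 3), (5, 3), (7, 1), (13, 1), (29, 1)], [(3, 2), (3, 3), (4, 2), (4, 3), (4, 5), (4, 7), (4, 17), (4, 307), (6, 2), (6, 3), (6, 5), (6, 17), (12, 2)]⟩,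
  ⟨.on, 0, 2, [(2, 10), (3, 4), (5, 1), (7, 3), (11, 1), (19, 1), (31, 1)], [(3, 2), (3, 5), (3, 7), (3, 11), (3, 67), (4, 2), (4, 3), (5, 2), (6, 2), (6, 3), (6, 5), (6, 19), (6, 31), (10, 2), (18, 2)]⟩,
  ⟨.ly, 0, 2, [(2, 9), (3, 7), (5, 6), (7, 1), (11, 1), (31, 1), (37, 1), (67, 1)], [(3, 2), (3, 5), (3, 37), (4, 2), (4, 3), (4, 7), (4, 43), (5, 2), (6, 2), (6, 3), (6, 5), (6, 11), (10, 2)]⟩,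
  ⟨.fi22, 0, 2, [(2, 18), (3, 9), (5, 2), (7, 1), (11, 1), (13, 1)], [(3, 2), (3, 3), (4, 2), (4, 3), (4, 5), (4, 7), (6, 2), (6, 3), (6, 5), (6, 17), (10, 2), (12, 2)]⟩,
  ⟨.fi23, 0, 2, [(2, 19), (3, 13), (5, 2), (7, 1), (11, 1), (13, 1), (17, 1), (23, 1)], [(3, 2), (3, 3), (4, 2), (4, 3), (4, 5), (4, 7), (4, 13), (4, 47), (6, 2), (6, 3), (6, 5), (6, 17), (8, 2), (10, 2), (12, 2)]⟩,
  ⟨.fi24, 0, 2, [(2, 22), (3, 16), (5, 2), (7, 3), (11, 1), (13, 1), (17, 1), (23, 1), (29, 1)], [(3, 2), (3, 3), (4, 2), (4, 3), (4, 5), (4, 7), (4, 13), (4, 17), (4, 47), (4, 157), (6, 2), (6, 3), (6, 5), (6, 17), (6, 19), (8, 2), (10, 2), (12, 2)]⟩,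
  ⟨.hn, 0, 2, [(2, 15), (3, 6), (5, 6), (7, 1), (11, 1), (19, 1)], [(3, 2), (3, 7), (3, 11), (4, 2), (4, 3), (4, 7), (6, 2), (6, 3), (6, 5), (10, 2), (18, 2)]⟩,
  ⟨.th, 0, 2, [(2, 16), (3, 10), (5, 3), (7, 2), (13, 1), (19, 1), (31, 1)], [(3, 2), (3, 3), (3, 5), (3, 7), (3, 11), (3, 67), (4, 2), (4, 3), (4, 5), (4, 7), (5, 2), (6, 2), (6, 3), (6, 5), (6, 17), (6, 31), (12, 2), (18, 2)]⟩,
  ⟨.b, 0, 2, [(2, 42), (3, 13), (5, 6), (7, 2), (11, 1), (13, 1), (17, 1), (19, 1), (23, 1), (31, 1), (47, 1)], [(3, 2), (3, 3), (3, 5), (3, 7), (3, 11), (3, 67), (4, 2), (4, 3), (4, 5), (4, 7), (4, 13), (4, 47), (5, 2), (6, 2), (6, 3), (6, 5), (6, 17), (6, 31), (8, 2), (10, 2), (12, 2), (18, 2)]⟩]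

set_option maxRecDepth 100000 in
theorem sp1_ok : sp1.all okD = true := by decide +kernel

/-- the Monster -/
def sp2 : List Dat := [
  ⟨.m, 0, 2, [(2, 47), (3, 20), (5, 9), (7, 6), (11, 2), (13, 3), (17, 1), (19, 1), (23, 1), (29, 1), (31, 1), (41, 1), (47, 1), (59, 1), (71, 1)], [(3, 2), (3, 3), (3, 5), (3, 7), (3, 11), (3, 67), (3, 191), (4, 2), (4, 3), (4, 5), (4, 7), (4, 13), (4, 17), (4, 47), (4, 73), (4, 157), (4, 307), (5, 2), (5, 3), (5, 5), (6, 2), (6, 3), (6, 5), (6, 17), (6, 19), (6, 23), (6, 31), (8, 2), (8, 3), (10, 2), (12, 2), (18, 2), (20, 2)]⟩]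

set_option maxRecDepth 100000 in
theorem sp2_ok : sp2.all okD = true := by decide +kernel

/-- alternating groups -/
def al0 : List Dat := [
  ⟨.alt 5, 0, 4, [(2, 4), (3, 1), (5, 1)], [(4, 2), (4, 3), (6, 2)]⟩,
  ⟨.alt 6, 0, 4, [(2, 5), (3, 2), (5, 1)], [(4, 2), (4, 3), (6, 2)]⟩,
  ⟨.alt 7, 0, 4, [(2, 5), (3, 2), (5, 1), (7, 1)], [(3, 2), (4, 2), (4, 3), (6, 2), (6, 3), (6, 5)]⟩,
  ⟨.alt 8, 0, 4, [(2, 8), (3, 2), (5, 1), (7, 1)], [(3, 2), (4, 2), (4, 3), (6, 2), (6, 3), (6, 5)]⟩,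
  ⟨.alt 9, 0, 4, [(2, 8), (3, 4), (5, 1), (7, 1)], [(3, 2), (4, 2), (4, 3), (6, 2), (6, 3), (6, 5)]⟩,
  ⟨.alt 10, 0, 4, [(2, 9), (3, 4), (5, 2), (7, 1)], [(3, 2), (4, 2), (4, 3), (4, 7), (6, 2), (6, 3), (6, 5)]⟩]

set_option maxRecDepth 100000 in
theorem al0_ok : al0.all okD = true := by decide +kernel

end Cfsg.Agent.H884.Ig
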