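import Cfsg.Agent.H884.IgT
import Cfsg.Agent.H884.CxMain
import Cfsg.Agent.H262.ElFewAll
import Cfsg.Agent.H278.ElCrossIface
import Cfsg.Agent.S0254
import Cfsg.Agent.S2119

/-!
# Index gaps of classical groups: almost simple subgroups (helper884, for S3561 and S3679)

`T` a classical simple group (not `PSL_2`) in characteristic `p`, `M ≤ T` almost simple with socle `S`:
* `igap_cross` : `S` of Lie type in characteristic `≠ p`, quotient of a perfect subgroup of `GL_N(q)`;
* `igap_alt`   : `S ≅ A_m`;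
* `igap_spor`  : `S` sporadic or the Tits group:

`IGap T M` (a cyclic prime of `T` divides `|T : M|`), or `(S, T)` is in the list `excI`.
-/

set_option autoImplicit false

namespace Cfsg.Agent.H884.Ig

open Cfsg Cfsg.Agent.OrdDiv Cfsg.Agent.H436 Cfsg.Agent.H264.FKS Cfsg.Agent.H915.GN Cfsg.Agent.H899.CG
open Cfsg.Agent.H278.El.SporNum (IsCl)
open Cfsg.Agent.H278.El.AltNum (dimOf)
open Cfsg.Agent.H278.El.CrossNum (Six Few not_few cross_mem crossList)
open Cfsg.Agent.H927.SgX (lsb IsLieN)
open Cfsg.Agent.H884.Cx (fs lb fq)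
open Cfsg.Agent Cfsg.Agent.H902

universe u

/-! ### the side of `T` -/

section T

variable {T : Type} [Group T] [Finite T] [IsSimpleGroup T] {gT : Grp} {M : Subgroup T} {p a : ℕ}

theorem ndf_of {q r : ℕ} (hp : p.Prime) (ha : 1 ≤ a) (hq : q = p ^ a) (hr : ¬ r ∣ a) : NDF q r := by
  rw [hq]
  exact (ndf_iff hp ha).2 hr

/-- the full parts of the cyclic primes divide `|M|` -/
theorem pow_dvd_M (hna : ¬ ∀ x y : T, x * y = y * x) (hp : p.Prime) (ha : 1 ≤ a) (hT : IsNamed gT T)
    (hch : HasChar p gT) (hq : fq gT = p ^ a) (h : ¬ Cfsg.Agent.H899.CG.IGap T M) {e r k : ℕ} (he : InE gT e)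
    (hr : Prim (fq gT) e r) (hra : ¬ r ∣ a) (hk : r ^ k ∣ fq gT ^ e - 1) : r ^ k ∣ Nat.card M :=
  pow_dvd_of_not_iGap h (cyc_named hna hp hT hch he hr (ndf_of hp ha hq hra))
    (pow_dvd_named hT.cond hT.eq he hr hk)

omit [IsSimpleGroup T] in
theorem once_dvd_M (h : ¬ Cfsg.Agent.H899.CG.IGap T M) {u : ℕ} (hu : u.Prime) (h1 : u ∣ Nat.card T)
    (h2 : ¬ u ^ 2 ∣ Nat.card T) : u ∣ Nat.card M := dvd_of_not_iGap h (cyc_of_sq hu h1 h2)

/-- **The finite check, group form.** -/
theorem igap_dat (hna : ¬ ∀ x y : T, x * y = y * x) (hp : p.Prime) (hT : IsNamed gT T) (hcl : IsCl gT)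
    (hch : HasChar p gT) {x : Dat} {l : ℕ} (hx : okD x = true) (hE : survB l x = true) (hps : p ≠ x.s)
    (hl : l ≤ dimOf gT) (hdiv : ordN x.g ∣ Nat.card T)
    (hM : ∀ r k : ℕ, r.Prime → 5 ≤ r → r ^ k ∣ Nat.card M → r ^ k ∣ val x.fac) :
    Cfsg.Agent.H899.CG.IGap T M ∨ (x.g, gT) ∈ excI := by
  by_cases h : Cfsg.Agent.H899.CG.IGap T M
  · exact Or.inl h
  right
  obtain ⟨a, ha⟩ := Cx.fq_char hcl hch
  have hin := topE_in hT.cond hcl
  have ha1 : 1 ≤ a := by
    by_contra h0
    have h1 : a = 0 := by omega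
    rw [h1, pow_zero] at ha
    have h2 : IsPrimePow (fq gT) := by
      obtain ⟨-, hc, -, -⟩ := hT
      cases gT with
      | psl m q => exact hc.2.2
      | psp m q => exact hc.2.2
      | psu m q => exact hc.2.2
      | oodd m q => exact hc.2.2
      | oplus m q => exact hc.2
      | ominus m q => exact hc.2
      | _ => exact hcl.elim
    rw [ha] at h2
    exact h2.one_lt.ne rfl
  refine igNum (c := Nat.card T) hT.cond hcl hT.ord hp ha1 ha hx hE hps hl hdiv ?_ ?_
  · intro e r k he hr hra hk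
    exact hM r k hr.prime (five_le' hr he.three) (pow_dvd_M hna hp ha1 hT hch ha h he hr hra hk)
  · intro u hu h5 h1 h2
    have := hM u 1 hu h5 (by rw [pow_one]; exact once_dvd_M h hu h1 h2)
    rwa [pow_one] at this

/-! ### six cyclic primes -/

theorem six_exp {g : Grp} (hg : Cond g) (hcl : IsCl g) (hN : 37 ≤ dimOf g) : ∃ e : ℕ → ℕ,
    (∀ i < 6, ∀ j < 6, e i = e j → i = j) ∧ (∀ i < 6, 7 ≤ e i ∧ dimOf g ≤ e i + 12 ∧ InE g (e i)) ∧
      ∀ i < 5, dimOf g ≤ e i + 10 := by
  cases g with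
  | psl n q =>
    have hN : 37 ≤ n := hN
    refine ⟨fun i => n - i, fun i hi j hj h => by dsimp only at h; omega, fun i hi => ?_, fun i hi => ?_⟩
    · simp only [InE, dimOf]; omega
    · simp only [dimOf]; omega
  | psp m q =>
    have hN : 37 ≤ 2 * m := hN
    refine ⟨fun i => 2 * (m - i), fun i hi j hj h => by dsimp only at h; omega, fun i hi => ?_, fun i hi => ?_⟩
    · simp only [InE, dimOf]; omega
    · simp only [dimOf]; omega
  | oodd m q =>
    have hN : 37 ≤ 2 * m + 1 := hN
    refine ⟨fun i => 2 * (m - i), fun i hi j hj h => by dsimp only at h; omega, fun i hi => ?_, fun i hi => ?_⟩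
    · simp only [InE, dimOf]; omega
    · simp only [dimOf]; omega
  | oplus m q =>
    have hN : 37 ≤ 2 * m := hN
    refine ⟨fun i => 2 * (m - 1 - i), fun i hi j hj h => by dsimp only at h; omega, fun i hi => ?_, fun i hi => ?_⟩
    · simp only [InE, dimOf]; omega
    · simp only [dimOf]; omega
  | ominus m q =>
    have hN : 37 ≤ 2 * m := hN
    refine ⟨fun i => 2 * (m - i), fun i hi j hj h => by dsimp only at h; omega, fun i hi => ?_, fun i hi => ?_⟩
    · simp only [InE, dimOf]; omega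
    · simp only [dimOf]; omega
  | psu n q =>
    have hN : 37 ≤ n := hN
    obtain ⟨k, hk1, hk2, hk3⟩ : ∃ k, k % 2 = 1 ∧ k ≤ n ∧ n ≤ k + 1 := by
      rcases Nat.even_or_odd' n with ⟨j, hj | hj⟩
      · exact ⟨n - 1, by omega, by omega, by omega⟩
      · exact ⟨n, by omega, le_rfl, by omega⟩
    refine ⟨fun i => 2 * (k - 2 * i), fun i hi j hj h => by dsimp only at h; omega, fun i hi => ?_, fun i hi => ?_⟩
    · simp only [InE, dimOf]; omega
    · simp only [dimOf]; omega
  | _ => exact hcl.elim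

/-- **Six large cyclic primes.** -/
theorem six_cyc (hna : ¬ ∀ x y : T, x * y = y * x) (hp : p.Prime) (hT : IsNamed gT T) (hcl : IsCl gT)
    (hch : HasChar p gT) (hN : 37 ≤ dimOf gT) : ∃ c, Six (dimOf gT) c ∧ ∀ u : ℕ, u.Prime → u ∣ c → Cyc T u := by
  obtain ⟨e, h1, h2, h3⟩ := six_exp hT.cond hcl hN
  obtain ⟨a, ha⟩ := Cx.fq_char hcl hch
  have hpp : IsPrimePow (fq gT) := by
    obtain ⟨-, hc, -, -⟩ := hT
    cases gT with
    | psl m q => exact hc.2.2
    | psp m q => exact hc.2.2
    | psu m q => exact hc.2.2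
    | oodd m q => exact hc.2.2
    | oplus m q => exact hc.2
    | ominus m q => exact hc.2
    | _ => exact hcl.elim
  have h4 : ∀ i, ∃ t, i < 6 → Prim (fq gT) (e i) t ∧ NDF (fq gT) t := by
    intro i
    by_cases hi : i < 6
    · obtain ⟨t, ht⟩ := exists_prim_ndf hpp (e := e i) (by have := (h2 i hi).1; omega)
        (fun h => by have := (h2 i hi).1; omega)
      exact ⟨t, fun _ => ht⟩
    · exact ⟨0, fun h => absurd h hi⟩
  choose t ht using h4
  refine ⟨∏ i ∈ Finset.range 6, t i, ⟨t, fun i hi j hj hij => h1 i hi j hj ?_, fun i hi =>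
    ⟨(ht i hi).1.prime, Finset.dvd_prod_of_mem t (Finset.mem_range.2 hi), ?_⟩, fun i hi => ?_⟩, fun u hu hd => ?_⟩
  · have h5 := (ht i hi).1
    rw [hij] at h5
    exact h5.unique (ht j hj).1
  · have h5 := (prim_mod (ht i hi).1 (by have := (h2 i hi).1; omega)).2
    have := (h2 i hi).2.1
    omega
  · have hi6 : i < 6 := by omega
    have h5 := (prim_mod (ht i hi6).1 (by have := (h2 i hi6).1; omega)).2
    have := h3 i hi
    omega
  · obtain ⟨i, hi, hd⟩ := (hu.prime.dvd_finsetProd_iff _).1 hd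
    have hi := Finset.mem_range.1 hi
    have h5 : u = t i := (Nat.prime_dvd_prime_iff_eq hu (ht i hi).1.prime).1 hd
    rw [h5]
    exact cyc_named hna hp hT hch (h2 i hi).2.2 (ht i hi).1 (ht i hi).2

end T

/-! ### the side of `S` -/

section S

variable {R : Type u} [Group R] [Finite R]

/-- the diagonal part of the outer automorphism group has order dividing 12 -/
def okdd : Grp → Bool
  | .psl n q => Nat.beq (12 % Nat.gcd n (q - 1)) 0
  | .psu n q => Nat.beq (12 % Nat.gcd n (q + 1)) 0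
  | _ => true

theorem dd_dvd {g : Grp} {X : Art.Sh} {s f : ℕ} (hg : Cfsg.Agent.H902.Names.IsLie g X s f) (h : okdd g = true) :
    Art.dd X (s ^ f) ∣ 12 := by
  have h4 : ∀ {a b : ℕ}, a ∣ 12 → Nat.gcd a b ∣ 12 := fun h1 => (Nat.gcd_dvd_left _ _).trans h1
  cases hg with
  | psl n p f =>
    unfold okdd at h
    exact Nat.dvd_of_mod_eq_zero (Nat.eq_of_beq_eq_true h)
  | psu n p f =>
    unfold okdd at h
    exact Nat.dvd_of_mod_eq_zero (Nat.eq_of_beq_eq_true h)
  | _ => first | exact one_dvd 12 | exact h4 (by norm_num)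

/-- **Lie type.** -/
theorem pow_dvd_lie (S : Subgroup R) [S.Normal] [IsSimpleGroup S] (hna : ¬ IsMulCommutative S)
    (hC : Subgroup.centralizer (S : Set R) = ⊥) {s : ℕ} {g : Grp} (hs : s.Prime) (hS : IsNamed g S)
    (hch : HasChar s g) (hdd : okdd g = true) {f : ℕ} (hf : fs g = s ^ f) {r k : ℕ} (hr : r.Prime) (h5 : 5 ≤ r)
    (h : r ^ k ∣ Nat.card R) : r ^ k ∣ f * ordN g := by
  have h1 := h.trans (dvd_aut S hC)
  rw [← H934.OutB.card_out_mul S hna] at h1
  obtain ⟨X, f₁, h2, h3, h4⟩ := exists_lie hs hS hch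
  have hff : f = f₁ := by
    rw [Cx.fs_eq, h4] at hf
    exact (Nat.pow_right_injective hs.two_le hf).symm
  obtain ⟨j, h6, h7, -⟩ := H364.OutLie.card_out (not_comm hna) h2 hS.real h3
  rw [h6, hS.ord, mul_assoc] at h1
  have h8 : ¬ r ∣ j := by
    intro h9
    rcases hr.dvd_mul.1 (h9.trans h7) with h10 | h10
    · have h11 : r ∣ 24 := h10
      have h12 : r ∣ 2 ^ 3 * 3 := h11
      rcases hr.dvd_mul.1 h12 with h13 | h13
      · have := Nat.le_of_dvd (by norm_num) (hr.dvd_of_dvd_pow h13)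
        omega
      · have := Nat.le_of_dvd (by norm_num) h13
        omega
    · have h11 : r ∣ 2 ^ 2 * 3 := h10.trans (dd_dvd h2 hdd)
      rcases hr.dvd_mul.1 h11 with h13 | h13
      · have := Nat.le_of_dvd (by norm_num) (hr.dvd_of_dvd_pow h13)
        omega
      · have := Nat.le_of_dvd (by norm_num) h13
        omega
  rw [hff]
  exact (Nat.Coprime.pow_left k ((Nat.Prime.coprime_iff_not_dvd hr).2 h8)).dvd_of_dvd_mul_left h1

/-- the list of all the groups of Lie type -/
def lieA : List Dat := lie0 ++ lie1 ++ lie2 ++ lie3 ++ lie4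

/-- checks on the list -/
def okL (x : Dat) : Bool := okD x && (survB (lb x.g) x && (Nat.beq (fs x.g) (x.s ^ x.f) && (decide (x.s ∈ ps) &&
  okdd x.g)))

set_option maxRecDepth 100000 in
theorem aux0 : (lieA.all fun x => Nat.beq (fs x.g) (x.s ^ x.f) && (decide (x.s ∈ ps) && okdd x.g)) = true := by
  decide +kernel

theorem okL_all {x : Dat} (hx : x ∈ lieA) : okL x = true := by
  have h1 := aux0
  rw [List.all_eq_true] at h1
  have h2 := h1 x hx
  have h3 : okD x = true ∧ survB (lb x.g) x = true := by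
    have k0 := lie0_ok
    have k1 := lie1_ok
    have k2 := lie2_ok
    have k3 := lie3_ok
    have k4 := lie4_ok
    have j0 := s_lie0
    have j1 := s_lie1
    have j2 := s_lie2
    have j3 := s_lie3
    have j4 := s_lie4
    rw [List.all_eq_true] at k0 k1 k2 k3 k4 j0 j1 j2 j3 j4
    unfold lieA at hx
    simp only [List.mem_append] at hx
    rcases hx with (((hx | hx) | hx) | hx) | hx
    · exact ⟨k0 x hx, j0 x hx⟩
    · exact ⟨k1 x hx, j1 x hx⟩
    · exact ⟨k2 x hx, j2 x hx⟩
    · exact ⟨k3 x hx, j3 x hx⟩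
    · exact ⟨k4 x hx, j4 x hx⟩
  unfold okL
  rw [h3.1, h3.2, h2]
  rfl

set_option maxRecDepth 100000 in
theorem aux1 : (crossList.all fun y => lieA.any fun x => decide (x.g = y.g)) = true := by decide +kernel

theorem mem_lieA {g : Grp} (hg : Cond g) (hlie : IsLieN g) (hl : lsb g ≤ 36) : ∃ x ∈ lieA, x.g = g := by
  obtain ⟨y, hy, rfl⟩ := cross_mem hg hlie hl
  have h1 := aux1
  rw [List.all_eq_true] at h1
  have h2 := h1 y hy
  rw [List.any_eq_true] at h2
  obtain ⟨x, hx, h3⟩ := h2
  exact ⟨x, hx, of_decide_eq_true h3⟩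

set_option maxRecDepth 100000 in
theorem excM_small : ∀ g ∈ Cx.excM, lsb g ≤ 36 := by decide +kernel

end S

section main

variable {T : Type} [Group T] [Finite T] [IsSimpleGroup T] {gT : Grp} {R : Subgroup T} {p : ℕ}

/-- **The cross characteristic row.** -/
theorem igap_cross (hnaT : ¬ ∀ x y : T, x * y = y * x) (hp : p.Prime) (hT : IsNamed gT T) (hcl : IsCl gT)
    (hchT : HasChar p gT) {ι : Type} [Fintype ι] [DecidableEq ι] {F : Type} [Field F] [Finite F] [CharP F p]
    (hcard : Fintype.card ι = dimOf gT) (S : Subgroup R) [S.Normal] [IsSimpleGroup S]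
    (hna : ¬ IsMulCommutative S) (hC : Subgroup.centralizer (S : Set R) = ⊥) {P : Subgroup (GL ι F)}
    (hP : ⁅P, P⁆ = P) (e : S ≃* P ⧸ (Geo.scalars ι F).subgroupOf P) {s : ℕ} {g : Grp} (hs : s.Prime)
    (hsp : s ≠ p) (hS : IsNamed g S) (hch : HasChar s g) :
    Cfsg.Agent.H899.CG.IGap T R ∨ (g, gT) ∈ excI := by
  have hlie := H927.SgX.isLieN_of_hasChar hch
  have hna' := not_comm hna
  obtain ⟨f, hf⟩ := Cx.fs_char hch
  have hdiv : ordN g ∣ Nat.card T := by
    rw [← hS.ord]
    exact (Subgroup.card_subgroup_dvd_card S).trans (Subgroup.card_subgroup_dvd_card R)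
  have hlb : lb g ≤ dimOf gT := by
    rw [← hcard]
    obtain ⟨e2⟩ := Cx.exists_quot (P := P)
    have hex : ∃ x y : S, x * y ≠ y * x := by
      by_contra h
      push Not at h
      exact hna' h
    refine Cx.lb_le hS.cond hs hch hex hS.real ?_ (P.map (Cx.toFin ι F).toMonoidHom) (Cx.perfect_map hP)
      (e2.trans e.symm)
    intro h0
    have h1 : p ∣ s := (CharP.cast_eq_zero_iff F p s).1 h0
    exact hsp ((Nat.prime_dvd_prime_iff_eq hp hs).1 h1).symm
  rcases Nat.lt_or_ge (lsb g) 37 with h37 | h37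
  · obtain ⟨x, hx, rfl⟩ := mem_lieA hS.cond hlie (by omega)
    have hok := okL_all hx
    unfold okL at hok
    simp only [Bool.and_eq_true] at hok
    obtain ⟨h1, h2, h3, h4, h5⟩ := hok
    have h3 := Nat.eq_of_beq_eq_true h3
    have hxs := prime_of_mem_ps (of_decide_eq_true h4)
    have hf0 : f ≠ 0 := by
      rintro rfl
      have := (Cx.fs_pp hS.cond hlie).one_lt
      rw [hf, pow_zero] at this
      exact this.ne rfl
    have hsx : s = x.s := by
      have h6 : s ∣ x.s ^ x.f := by rw [← h3, hf]; exact dvd_pow_self s hf0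
      exact (Nat.prime_dvd_prime_iff_eq hs hxs).1 (hs.dvd_of_dvd_pow h6)
    refine igap_dat hnaT hp hT hcl hchT h1 h2 (fun h => hsp (by rw [hsx, h])) hlb hdiv fun r k hr hr5 hk => ?_
    have h6 : val x.fac = x.f * ordN x.g := by
      unfold okD at h1
      rw [Bool.and_eq_true] at h1
      exact Nat.eq_of_beq_eq_true h1.1
    rw [h6]
    refine pow_dvd_lie S hna hC hs hS hch h5 ?_ hr hr5 hk
    rw [h3, hsx]
  · left
    by_contra hcon
    have hM : g ∉ Cx.excM := fun h => by have := excM_small g h; omega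
    have hlb' : lsb g ≤ dimOf gT := by
      unfold lb at hlb
      rwa [if_neg hM] at hlb
    obtain ⟨c, h6, h7⟩ := six_cyc hnaT hp hT hcl hchT (h37.trans hlb')
    have hF := Cfsg.Agent.H262.Few.few hS.cond hlie hS.eq hs (by rw [← Cx.fs_eq]; exact hf) h37
    have h8 : ∀ u, u.Prime → u ∣ c → Cyc T u := h7
    obtain ⟨t, ht1, ht2, ht3⟩ := h6
    refine not_few (N := dimOf gT) (c := ∏ i ∈ Finset.range 6, t i) ⟨t, ht1, fun i hi => ⟨(ht2 i hi).1,
      Finset.dvd_prod_of_mem t (Finset.mem_range.2 hi), (ht2 i hi).2.2⟩, ht3⟩ hlb' (fun u hu hd => ?_) hF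
    obtain ⟨i, hi, hd⟩ := (hu.prime.dvd_finsetProd_iff _).1 hd
    have hi := Finset.mem_range.1 hi
    have h9 : u = t i := (Nat.prime_dvd_prime_iff_eq hu (ht2 i hi).1).1 hd
    have h10 : u ∣ Nat.card R := dvd_of_not_iGap hcon (h8 u hu (by rw [h9]; exact (ht2 i hi).2.1))
    have hu5 : 5 ≤ u := by
      have := (ht2 i hi).2.2
      omega
    have h11 := h10.trans (dvd_aut S hC)
    rw [← H934.OutB.card_out_mul S hna] at h11
    rcases hu.dvd_mul.1 h11 with h12 | h12
    · rcases Cx.dvd_of_out' hna' hs hS hch hu hu5 h12 with h13 | h13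
      · exact h13.mul_left _
      · exact ((h13 f hf).mul_left 6).mul_right _
    · exact h12.mul_left _

/-! ### alternating socle -/

theorem card_alt_dvd {m : ℕ} (hm : 5 ≤ m) {A : Type} [Group A] [Finite A] (S : Subgroup A) [S.Normal]
    (hC : Subgroup.centralizer (S : Set A) = ⊥) (e : S ≃* alternatingGroup (Fin m)) {r k : ℕ}
    (hr : r.Prime) (h5 : 5 ≤ r) (h : r ^ k ∣ Nat.card A) : r ^ k ∣ 4 * (m.factorial / 2) := by
  by_cases h6 : m = 6
  · subst h6
    have := Fact.mk Nat.prime_three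
    let : Fintype (GaloisField 3 2) := Fintype.ofFinite _
    have h9 : Fintype.card (GaloisField 3 2) = 9 := by
      rw [← Nat.card_eq_fintype_card, GaloisField.card 3 2 (by norm_num)]
      norm_num
    obtain ⟨e2⟩ := Cfsg.Agent.S0254.result h9
    have hs6 : IsSimpleGroup (alternatingGroup (Fin 6)) :=
      alternatingGroup.isSimpleGroup (by rw [Nat.card_eq_fintype_card, Fintype.card_fin]; norm_num)
    have hsS : IsSimpleGroup S := e.isSimpleGroup
    have hNS : IsNamed (.psl 2 9) S := by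
      have h1 := psl_eq (F := GaloisField 3 2) (n := 2) le_rfl
      have hc : Nat.card S = Nat.card (Matrix.ProjectiveSpecialLinearGroup (Fin 2) (GaloisField 3 2)) :=
        Nat.card_congr (e.trans e2.symm).toEquiv
      refine .mk' ⟨GaloisField 3 2, inferInstance, inferInstance, h9, ⟨e.trans e2.symm⟩⟩ ⟨le_rfl, fun _ => by norm_num,
        ?_⟩ ?_
      · exact (isPrimePow_nat_iff _).2 ⟨3, 2, by norm_num, by norm_num, by norm_num⟩
      · rw [hc]
        rw [h9] at h1
        exact h1
    have hna : ¬ IsMulCommutative S := by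
      intro hc
      have h1 : Nat.card S = 360 := by
        rw [hNS.ord]
        decide +kernel
      let : CommGroup S := { mul_comm := hc.is_comm.comm }
      have h2 := IsSimpleGroup.prime_card (α := S)
      rw [h1] at h2
      exact absurd h2 (by norm_num)
    have h7 := pow_dvd_lie S hna hC Nat.prime_three hNS ⟨2, by norm_num⟩ (by decide +kernel) (f := 2)
      (by norm_num [fs]) hr h5 h
    refine h7.trans ?_
    decide +kernel
  · have h1 := h.trans (dvd_aut S hC)
    rw [Nat.card_congr (MulAut.congr e).toEquiv] at h1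
    have h2 : Nat.card (MulAut (alternatingGroup (Fin m))) = Nat.card (Equiv.Perm (Fin m)) :=
      (Nat.card_congr (Equiv.ofBijective _ (S2119.result m (by omega) h6))).symm
    rw [h2, Nat.card_perm, Nat.card_eq_fintype_card, Fintype.card_fin] at h1
    refine h1.trans ?_
    obtain ⟨t, ht⟩ : 2 ∣ m.factorial := (Nat.factorial_dvd_factorial (show 2 ≤ m by omega))
    rw [ht, Nat.mul_div_cancel_left t (by norm_num)]
    exact ⟨2, by ring⟩

theorem card_alternating {m : ℕ} (hm : 5 ≤ m) : Nat.card (alternatingGroup (Fin m)) = m.factorial / 2 := by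
  have : Nontrivial (Fin m) := Fin.nontrivial_iff_two_le.2 (by omega)
  rw [nat_card_alternatingGroup, Nat.card_eq_fintype_card, Fintype.card_fin]

theorem prim_big {q e r : ℕ} (h : Prim q e r) (he : 3 ≤ e) (h3 : e % 2 = 1 ∨ e % 3 = 2) : 2 * e + 1 ≤ r := by
  obtain ⟨h1, h2⟩ := prim_mod h (by omega)
  have h5 := five_le' h he
  by_contra hcon
  push Not at hcon
  have h4 : r = e + 1 := by
    have h6 := Nat.div_add_mod r e
    rw [h1] at h6
    have h7 : r / e = 1 := by
      have h8 : r / e < 2 := by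
        rw [Nat.div_lt_iff_lt_mul (by omega)]
        rcases Nat.lt_or_ge r (2 * e) with h9 | h9
        · omega
        · exfalso
          have h10 : r = 2 * e := by omega
          rw [h10, Nat.mul_mod_left] at h1
          omega
      have h9 : 0 < r / e := Nat.div_pos (by omega) (by omega)
      omega
    rw [h7, mul_one] at h6
    omega
  rcases h3 with h3 | h3
  · have h6 : 2 ∣ r := by omega
    have := (Nat.prime_dvd_prime_iff_eq Nat.prime_two h.prime).1 h6
    omega
  · have h6 : 3 ∣ r := by omega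
    have := (Nat.prime_dvd_prime_iff_eq Nat.prime_three h.prime).1 h6
    omega

/-- an exponent all of whose primitive primes are larger than `m` -/
theorem exists_big {m : ℕ} {g : Grp} (hg : Cond g) (hcl : IsCl g) (hm : 11 ≤ m) (hN : m ≤ dimOf g + 2) :
    ∃ e, InE g e ∧ 7 ≤ e ∧ ∀ q r, Prim q e r → m < r := by
  have key : ∀ e, InE g e → 7 ≤ e → (e % 2 = 1 ∨ e % 3 = 2) → m ≤ 2 * e →
      ∃ e, InE g e ∧ 7 ≤ e ∧ ∀ q r, Prim q e r → m < r := fun e h1 h2 h3 h4 =>
    ⟨e, h1, h2, fun q r h => by have := prim_big h (by omega) h3; omega⟩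
  cases g with
  | psl n q =>
    have hN : m ≤ n + 2 := hN
    rcases Nat.even_or_odd' n with ⟨k, hk | hk⟩
    · exact key (n - 1) (by simp only [InE]; omega) (by omega) (by omega) (by omega)
    · exact key n (by simp only [InE]; omega) (by omega) (by omega) (by omega)
  | psp k q =>
    have hN : m ≤ 2 * k + 2 := hN
    have h3 : k % 3 = 1 ∨ k % 3 = 2 ∨ k % 3 = 0 := by omega
    rcases h3 with h3 | h3 | h3
    · exact key (2 * k) (by simp only [InE]; omega) (by omega) (by omega) (by omega)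
    · exact key (2 * k - 2) (by simp only [InE]; omega) (by omega) (by omega) (by omega)
    · exact key (2 * k - 4) (by simp only [InE]; omega) (by omega) (by omega) (by omega)
  | oodd k q =>
    have hN : m ≤ 2 * k + 1 + 2 := hN
    have h3 : k % 3 = 1 ∨ k % 3 = 2 ∨ k % 3 = 0 := by omega
    rcases h3 with h3 | h3 | h3
    · exact key (2 * k) (by simp only [InE]; omega) (by omega) (by omega) (by omega)
    · exact key (2 * k - 2) (by simp only [InE]; omega) (by omega) (by omega) (by omega)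
    · exact key (2 * k - 4) (by simp only [InE]; omega) (by omega) (by omega) (by omega)
  | oplus k q =>
    have hN : m ≤ 2 * k + 2 := hN
    have h3 : k % 3 = 1 ∨ k % 3 = 2 ∨ k % 3 = 0 := by omega
    rcases h3 with h3 | h3 | h3
    · exact key (2 * k - 6) (by simp only [InE]; omega) (by omega) (by omega) (by omega)
    · exact key (2 * k - 2) (by simp only [InE]; omega) (by omega) (by omega) (by omega)
    · exact key (2 * k - 4) (by simp only [InE]; omega) (by omega) (by omega) (by omega)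
  | ominus k q =>
    have hN : m ≤ 2 * k + 2 := hN
    have h3 : k % 3 = 1 ∨ k % 3 = 2 ∨ k % 3 = 0 := by omega
    rcases h3 with h3 | h3 | h3
    · exact key (2 * k) (by simp only [InE]; omega) (by omega) (by omega) (by omega)
    · exact key (2 * k - 2) (by simp only [InE]; omega) (by omega) (by omega) (by omega)
    · exact key (2 * k - 4) (by simp only [InE]; omega) (by omega) (by omega) (by omega)
  | psu n q =>
    have hN : m ≤ n + 2 := hN
    have key2 : ∀ e, InE (.psu n q) e → 7 ≤ e → m ≤ e →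
        ∃ e, InE (.psu n q) e ∧ 7 ≤ e ∧ ∀ q r, Prim q e r → m < r := fun e h1 h2 h4 =>
      ⟨e, h1, h2, fun q r h => by have := (prim_mod h (by omega)).2; omega⟩
    rcases Nat.even_or_odd' n with ⟨k, hk | hk⟩
    · exact key2 (2 * (n - 1)) (by simp only [InE]; omega) (by omega) (by omega)
    · exact key2 (2 * n) (by simp only [InE]; omega) (by omega) (by omega)
  | _ => exact hcl.elim

set_option maxRecDepth 100000 in
theorem aux2 : ∀ m < 11, 5 ≤ m → ∃ x ∈ al0, x.g = .alt m ∧ x.f = 4 ∧ x.s = 0 := by decide +kernel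

/-- **Alternating socle.** -/
theorem igap_alt (hnaT : ¬ ∀ x y : T, x * y = y * x) (hp : p.Prime) (hT : IsNamed gT T) (hcl : IsCl gT)
    (hchT : HasChar p gT) (S : Subgroup R) [S.Normal] (hC : Subgroup.centralizer (S : Set R) = ⊥) {m : ℕ}
    (hm : 5 ≤ m) (e : S ≃* alternatingGroup (Fin m)) (hN : 9 ≤ m → m ≤ dimOf gT + 2) :
    Cfsg.Agent.H899.CG.IGap T R ∨ (.alt m, gT) ∈ excI := by
  have hcard : Nat.card S = m.factorial / 2 := by rw [Nat.card_congr e.toEquiv, card_alternating hm]
  rcases Nat.lt_or_ge m 11 with h11 | h11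
  · obtain ⟨x, hx, h1, h2, h3⟩ := aux2 m h11 hm
    rw [← h1]
    have k1 := al0_ok
    have k2 := s_al0
    rw [List.all_eq_true] at k1 k2
    have h4 := k1 x hx
    refine igap_dat hnaT hp hT hcl hchT h4 (k2 x hx) (by rw [h3]; exact hp.ne_zero) (Nat.zero_le _) ?_ ?_
    · rw [h1]
      change m.factorial / 2 ∣ _
      rw [← hcard]
      exact (Subgroup.card_subgroup_dvd_card S).trans (Subgroup.card_subgroup_dvd_card R)
    · intro r k hr h5 h
      have h6 : val x.fac = x.f * ordN x.g := by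
        unfold okD at h4
        rw [Bool.and_eq_true] at h4
        exact Nat.eq_of_beq_eq_true h4.1
      rw [h6, h2, h1]
      exact card_alt_dvd hm S hC e hr h5 h
  · left
    by_contra hcon
    obtain ⟨e₀, h1, h2, h3⟩ := exists_big hT.cond hcl h11 (hN (by omega))
    have hpp : IsPrimePow (fq gT) := by
      obtain ⟨-, hc, -, -⟩ := hT
      cases gT with
      | psl m q => exact hc.2.2
      | psp m q => exact hc.2.2
      | psu m q => exact hc.2.2
      | oodd m q => exact hc.2.2
      | oplus m q => exact hc.2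
      | ominus m q => exact hc.2
      | _ => exact hcl.elim
    obtain ⟨r, hr, hnd⟩ := exists_prim_ndf hpp (e := e₀) (by omega) (fun h => by omega)
    have h4 := h3 _ r hr
    have h5 : r ∣ Nat.card R := dvd_of_not_iGap hcon (cyc_named hnaT hp hT hchT h1 hr hnd)
    have h6 := card_alt_dvd hm S hC e (k := 1) hr.prime (by omega) (by rw [pow_one]; exact h5)
    rw [pow_one] at h6
    obtain ⟨t, ht⟩ : 2 ∣ m.factorial := (Nat.factorial_dvd_factorial (show 2 ≤ m by omega))
    have h7 : r ∣ 2 * m.factorial := by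
      rw [ht, Nat.mul_div_cancel_left t (by norm_num)] at h6
      rw [ht]
      refine h6.trans ⟨1, by ring⟩
    rcases hr.prime.dvd_mul.1 h7 with h8 | h8
    · have := Nat.le_of_dvd (by norm_num) h8
      omega
    · have := (hr.prime.dvd_factorial).1 h8
      omega

/-! ### sporadic socle -/

/-- the sporadic groups -/
def spA : List Dat := sp0 ++ sp1 ++ sp2

set_option maxRecDepth 100000 in
theorem aux3 : ∀ y ∈ spor, ∃ x ∈ spA, x.g = y.1 ∧ x.f = 2 ∧ x.s = 0 := by decide +kernel

theorem okS_all {x : Dat} (hx : x ∈ spA) : okD x = true ∧ survB 0 x = true := by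
  have k0 := sp0_ok
  have k1 := sp1_ok
  have k2 := sp2_ok
  have j0 := s_sp0
  have j1 := s_sp1
  have j2 := s_sp2
  rw [List.all_eq_true] at k0 k1 k2 j0 j1 j2
  unfold spA at hx
  simp only [List.mem_append] at hx
  rcases hx with (hx | hx) | hx
  · exact ⟨k0 x hx, j0 x hx⟩
  · exact ⟨k1 x hx, j1 x hx⟩
  · exact ⟨k2 x hx, j2 x hx⟩

/-- **Sporadic socle.** -/
theorem igap_spor (hnaT : ¬ ∀ x y : T, x * y = y * x) (hp : p.Prime) (hT : IsNamed gT T) (hcl : IsCl gT)
    (hchT : HasChar p gT) (S : Subgroup R) [S.Normal] [IsSimpleGroup S] (hna : ¬ IsMulCommutative S)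
    (hC : Subgroup.centralizer (S : Set R) = ⊥) {y : Grp × ℕ} (hy : y ∈ spor) (hS : IsNamed y.1 S)
    (hout : ∀ r : ℕ, r.Prime → 5 ≤ r → ¬ r ∣ Nat.card (Cfsg.Out S)) :
    Cfsg.Agent.H899.CG.IGap T R ∨ (y.1, gT) ∈ excI := by
  obtain ⟨x, hx, h1, h2, h3⟩ := aux3 y hy
  obtain ⟨h4, h5⟩ := okS_all hx
  rw [← h1]
  refine igap_dat hnaT hp hT hcl hchT h4 h5 (by rw [h3]; exact hp.ne_zero) (Nat.zero_le _) ?_ ?_
  · rw [h1, ← hS.ord]
    exact (Subgroup.card_subgroup_dvd_card S).trans (Subgroup.card_subgroup_dvd_card R)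
  · intro r k hr hr5 h
    have h6 : val x.fac = x.f * ordN x.g := by
      unfold okD at h4
      rw [Bool.and_eq_true] at h4
      exact Nat.eq_of_beq_eq_true h4.1
    have h7 := h.trans (dvd_aut S hC)
    rw [← H934.OutB.card_out_mul S hna] at h7
    rw [h6, h1, ← hS.ord]
    exact ((Nat.Coprime.pow_left k ((Nat.Prime.coprime_iff_not_dvd hr).2 (hout r hr hr5))).dvd_of_dvd_mul_left
      h7).mul_left _

end main

end Cfsg.Agent.H884.Ig
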