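import Cfsg.Agent.H884.IgCyc
import Cfsg.Agent.H884.IgDat
import Cfsg.Agent.H884.CxChk

/-!
# The finite check for the classical groups (helper884, for S3561 and S3679)

`igNum` : `x` an entry of `IgDat` (a simple group `S`), `T` a classical group of dimension at least `l` over `F_q`,
`q = p ^ a`, `p ≠ x.s`, `|S| ∣ |T|`, all full parts of the primes `r` with `ord_r(q) = e`, `InE gT e`, `r ∤ a`, and all
primes `≥ 5` which divide `|T|` exactly once, divide `f |S|`: then `(S, T)` is in the list `excI`.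
-/

set_option autoImplicit false

namespace Cfsg.Agent.H884.Ig

open Cfsg Cfsg.Agent.OrdDiv Cfsg.Agent.H436 Cfsg.Agent.H899.CG
open Cfsg.Agent.H278.El.SporNum (IsCl)
open Cfsg.Agent.H278.El.AltNum (dimOf)

/-- boolean version of `InE` -/
def inEB : Grp → ℕ → Bool
  | .psl n _, e => Nat.ble 3 e && (Nat.ble e n && Nat.blt n (2 * e))
  | .psp m _, e => Nat.beq (e % 2) 0 && (Nat.ble 4 e && (Nat.ble e (2 * m) && Nat.blt m e))
  | .psu n _, e => Nat.beq (e % 4) 2 && (Nat.ble 6 e && (Nat.ble e (2 * n) && Nat.blt n e))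
  | .oodd m _, e => (Nat.beq (e % 2) 0 && (Nat.ble 4 e && (Nat.ble e (2 * m) && Nat.blt (2 * m + 1) (2 * e)))) ||
      (Nat.beq (e % 2) 1 && (Nat.ble 3 e && (Nat.ble e m && Nat.blt (2 * m + 1) (4 * e))))
  | .oplus m _, e => (Nat.beq (e % 2) 0 && (Nat.ble 4 e && (Nat.ble e (2 * m - 2) && Nat.blt m e))) ||
      (Nat.beq (e % 2) 1 && (Nat.ble 3 e && (Nat.ble e m && Nat.blt m (2 * e))))
  | .ominus m _, e => (Nat.beq (e % 2) 0 && (Nat.ble 4 e && (Nat.ble e (2 * m) && Nat.blt m e))) ||
      (Nat.beq (e % 2) 1 && (Nat.ble 3 e && (Nat.blt e m && Nat.blt m (2 * e))))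
  | _, _ => false

theorem inE_of {g : Grp} {e : ℕ} (h : inEB g e = true) : InE g e := by
  have hble : ∀ {a b : ℕ}, Nat.ble a b = true ↔ a ≤ b := fun {a b} => by rw [Nat.ble_eq]
  cases g <;> simp only [inEB, Bool.and_eq_true, Bool.or_eq_true, Nat.blt_eq, Nat.beq_eq, hble,
    Bool.false_eq_true] at h <;> simp only [InE] <;> omega

/-- the largest exponent used -/
def topE : Grp → ℕ
  | .psl n _ => n
  | .psp m _ => 2 * m
  | .psu n _ => 2 * (n - (n + 1) % 2)
  | .oodd m _ => 2 * m
  | .oplus m _ => 2 * (m - 1)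
  | .ominus m _ => 2 * m
  | _ => 0

theorem topE_in {g : Grp} (hg : Cond g) (hcl : IsCl g) : InE g (topE g) := by
  cases g with
  | psl n q =>
    have h : 3 ≤ n := hcl
    simp only [InE, topE]
    omega
  | psp m q =>
    have h : 2 ≤ m := hg.1
    simp only [InE, topE]
    omega
  | psu n q =>
    have h : 3 ≤ n := hg.1
    simp only [InE, topE]
    omega
  | oodd m q =>
    have h : 3 ≤ m := hg.1
    simp only [InE, topE]
    omega
  | oplus m q =>
    have h : 4 ≤ m := hg.1
    simp only [InE, topE]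
    omega
  | ominus m q =>
    have h : 4 ≤ m := hg.1
    simp only [InE, topE]
    omega
  | _ => exact hcl.elim

/-- the groups with largest exponent `e` -/
def fams (e q : ℕ) : List Grp :=
  .psl e q :: (bif Nat.beq (e % 2) 0 then [.psp (e / 2) q, .oodd (e / 2) q, .ominus (e / 2) q, .oplus (e / 2 + 1) q,
    .psu (e / 2) q, .psu (e / 2 + 1) q] else [])

theorem mem_fams {g : Grp} (hg : Cond g) (hcl : IsCl g) : g ∈ fams (topE g) (Cx.fq g) := by
  have h2 : ∀ j : ℕ, Nat.beq (2 * j % 2) 0 = true := fun j => by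
    rw [Nat.mul_mod_right]
    rfl
  have h3 : ∀ j : ℕ, 2 * j / 2 = j := fun j => by omega
  cases g with
  | psl n q => exact List.mem_cons_self
  | psp m q =>
    simp only [fams, topE, h2, h3, cond_true, Cx.fq, List.mem_cons, true_or, or_true]
  | psu n q =>
    have h : 3 ≤ n := hg.1
    simp only [fams, topE, h2, h3, cond_true, Cx.fq, List.mem_cons]
    rcases Nat.even_or_odd' n with ⟨k, hk | hk⟩
    · have h4 : n - (n + 1) % 2 + 1 = n := by omega
      rw [h4]
      simp only [true_or, or_true]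
    · have h4 : n - (n + 1) % 2 = n := by omega
      rw [h4]
      simp only [true_or, or_true]
  | oodd m q =>
    simp only [fams, topE, h2, h3, cond_true, Cx.fq, List.mem_cons, true_or, or_true]
  | oplus m q =>
    have h : 4 ≤ m := hg.1
    simp only [fams, topE, h2, h3, cond_true, Cx.fq, List.mem_cons]
    rw [Nat.sub_add_cancel (by omega)]
    simp only [true_or, or_true]
  | ominus m q =>
    simp only [fams, topE, h2, h3, cond_true, Cx.fq, List.mem_cons, true_or, or_true]
  | _ => exact hcl.elim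

/-- the surviving pairs `(S, T)` -/
def excI : List (Grp × Grp) := [
  (.sz 8, .oodd 3 3), (.sz 8, .oplus 4 3), (.g2 4, .oplus 4 3), (.psl 2 13, .oplus 4 3), (.psl 2 13, .oplus 4 4),
  (.j2, .oplus 4 2), (.alt 7, .oplus 4 2), (.alt 8, .oplus 4 2), (.alt 9, .oplus 4 2), (.alt 10, .oplus 4 2),
  (.psl 2 7, .oplus 4 2), (.psu 3 3, .oplus 4 2), (.j1, .psl 3 11), (.psl 2 7, .psl 3 2), (.alt 7, .psl 3 4),
  (.alt 8, .psl 3 4), (.alt 7, .psl 4 2), (.alt 8, .psl 4 2), (.alt 5, .psp 2 3), (.alt 6, .psp 2 3),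
  (.psl 2 4, .psp 2 3), (.psl 2 5, .psp 2 3), (.psu 4 2, .psp 2 3), (.alt 7, .psp 3 2), (.alt 8, .psp 3 2),
  (.alt 9, .psp 3 2), (.psl 2 7, .psu 3 3), (.psl 2 8, .psu 3 3), (.psl 3 2, .psu 3 3), (.alt 7, .psu 3 5),
  (.psl 2 7, .psu 3 5), (.psl 2 8, .psu 3 5), (.psl 3 2, .psu 3 5), (.alt 7, .psu 4 3), (.alt 8, .psu 4 3),
  (.alt 9, .psu 4 3), (.psl 3 4, .psu 4 3), (.psl 4 2, .psu 4 3), (.m11, .psu 5 2), (.m12, .psu 5 2),
  (.psl 2 11, .psu 5 2), (.m22, .psu 6 2), (.psl 2 5, .psu 4 2), (.psl 2 9, .psu 4 2), (.psp 2 3, .psu 4 2),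
  (.alt 5, .psu 4 2), (.alt 6, .psu 4 2)]

/-- the names with good parameters, as a boolean (a necessary condition) -/
def condB : Grp → Bool
  | .psl n _ => Nat.ble 3 n
  | .psp m q => Nat.ble 2 m && (Nat.ble 3 m || Nat.ble 3 q)
  | .psu n q => Nat.ble 3 n && (Nat.ble 4 n || Nat.ble 3 q)
  | .oodd m q => Nat.ble 3 m && Nat.beq (q % 2) 1
  | .oplus m _ => Nat.ble 4 m
  | .ominus m _ => Nat.ble 4 m
  | _ => false

theorem condB_of {g : Grp} (hg : Cond g) (hcl : IsCl g) : condB g = true := by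
  have hble : ∀ {a b : ℕ}, Nat.ble a b = true ↔ a ≤ b := fun {a b} => by rw [Nat.ble_eq]
  cases g with
  | psl n q => exact hble.2 hcl
  | psp m q =>
    simp only [condB, Bool.and_eq_true, Bool.or_eq_true, hble]
    have h1 : 2 ≤ m := hg.1
    have h2 := hg.2.1
    refine ⟨h1, ?_⟩
    by_cases h : m = 2
    · exact Or.inr (h2 h)
    · left; omega
  | psu n q =>
    simp only [condB, Bool.and_eq_true, Bool.or_eq_true, hble]
    have h1 : 3 ≤ n := hg.1
    have h2 := hg.2.1
    have h3 := hg.2.2.two_le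
    refine ⟨h1, ?_⟩
    by_cases h : n = 3
    · right
      by_contra hcon
      exact h2 ⟨h, by omega⟩
    · left; omega
  | oodd m q =>
    simp only [condB, Bool.and_eq_true, hble, Nat.beq_eq]
    exact ⟨hg.1, Nat.odd_iff.1 hg.2.1⟩
  | oplus m q => exact hble.2 hg.1
  | ominus m q => exact hble.2 hg.1
  | _ => exact hcl.elim

/-- the test for one group `T` -/
def tt (x : Dat) (l a : ℕ) (g : Grp) : Bool :=
  !(condB g) || (Nat.blt (dimOf g) l || (!(Nat.beq (ordN g % ordN x.g) 0) || (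
    (ps.any fun u => Nat.ble 5 u && (Nat.beq (ordN g % u) 0 && (!(Nat.beq (ordN g % u ^ 2) 0) &&
      !(Nat.beq (val x.fac % u) 0)))) ||
    ((List.range 73).any fun e => inEB g e && killB (val x.fac) e (Cx.fq g) a))))

def survB (l : ℕ) (x : Dat) : Bool := x.L.all fun h => (List.range (h.1 + 1)).all fun e =>
  Nat.blt e 3 || (!(Nat.beq (h.1 % e) 0) || (fams e (h.2 ^ (h.1 / e))).all fun g =>
    tt x l (h.1 / e) g || decide ((x.g, g) ∈ excI))

section

variable {gT : Grp} {c : ℕ}

/-- **The finite check.** -/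
theorem igNum (hg : Cond gT) (hcl : IsCl gT) (hord : c = ordN gT) {p a : ℕ}
    (hp : p.Prime) (ha : 1 ≤ a) (hq : Cx.fq gT = p ^ a) {x : Dat} {l : ℕ} (hx : okD x = true)
    (hE : survB l x = true) (hps : p ≠ x.s) (hl : l ≤ dimOf gT) (hdiv : ordN x.g ∣ c)
    (h1 : ∀ e r k : ℕ, InE gT e → Prim (Cx.fq gT) e r → ¬ r ∣ a → r ^ k ∣ Cx.fq gT ^ e - 1 → r ^ k ∣ val x.fac)
    (h2 : ∀ u : ℕ, u.Prime → 5 ≤ u → u ∣ c → ¬ u ^ 2 ∣ c → u ∣ val x.fac) : (x.g, gT) ∈ excI := by
  have hin := topE_in hg hcl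
  have he3 := hin.three
  have hq2 : 2 ≤ Cx.fq gT := by
    rw [hq]
    exact hp.two_le.trans (Nat.le_self_pow (by omega) p)
  have hmem : (topE gT * a, p) ∈ x.L := by
    unfold okD at hx
    rw [Bool.and_eq_true] at hx
    refine hits_complete hx.2 (by nlinarith) hp hps fun r k hr hk => ?_
    have h3 : Prim (Cx.fq gT) (topE gT) r := by
      rw [hq]
      exact prim_of_pow ha hr
    refine h1 _ r k hin h3 (fun hd => ?_) ?_
    · have h4 := (prim_mod hr (by nlinarith)).2
      have h5 := Nat.le_of_dvd (by omega) hd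
      have h6 : 1 * a ≤ topE gT * a := Nat.mul_le_mul_right a (by omega)
      omega
    · rw [hq, ← pow_mul, mul_comm a]
      exact hk
  unfold survB at hE
  rw [List.all_eq_true] at hE
  have h3 := hE _ hmem
  rw [List.all_eq_true] at h3
  have h4 := h3 (topE gT) (List.mem_range.2 (by
    show topE gT < topE gT * a + 1
    nlinarith))
  have h5 : topE gT * a % topE gT = 0 := Nat.mul_mod_right _ _
  have h6 : topE gT * a / topE gT = a := Nat.mul_div_cancel_left a (by omega)
  simp only [h5, h6] at h4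
  rw [Bool.or_eq_true, Bool.or_eq_true, Nat.blt_eq] at h4
  rcases h4 with h4 | h4 | h4
  · omega
  · exact absurd h4 (by decide)
  rw [List.all_eq_true, ← hq] at h4
  have h7 := h4 gT (mem_fams hg hcl)
  rw [Bool.or_eq_true] at h7
  rcases h7 with h7 | h7
  swap
  · exact of_decide_eq_true h7
  exfalso
  unfold tt at h7
  simp only [Bool.or_eq_true, Bool.not_eq_true', List.any_eq_true, Bool.and_eq_true, Nat.blt_eq] at h7
  rcases h7 with h7 | h7 | h7 | ⟨u, hu, h7, h8, h9, h10⟩ | ⟨e, he, h7, h8⟩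
  · rw [condB_of hg hcl] at h7
    exact absurd h7 (by decide)
  · omega
  · rw [hord] at hdiv
    rw [Nat.mod_eq_zero_of_dvd hdiv] at h7
    exact absurd h7 (by decide)
  · have h7 := Nat.le_of_ble_eq_true h7
    have h8 : c % u = 0 := by rw [hord]; exact Nat.eq_of_beq_eq_true h8
    have h11 := h2 u (prime_of_mem_ps hu) h7 (Nat.dvd_of_mod_eq_zero h8) (fun h => by
      rw [hord] at h
      rw [Nat.mod_eq_zero_of_dvd h] at h9
      exact absurd h9 (by decide))
    rw [Nat.mod_eq_zero_of_dvd h11] at h10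
    exact absurd h10 (by decide)
  · have h9 := inE_of h7
    have h10 := h9.three
    exact kill hq2 (by omega) (by have := List.mem_range.1 he; omega) h8 fun r k h11 h12 h13 =>
      h1 e r k h9 h11 h12 h13

end

/-! ### the checks -/

set_option maxRecDepth 100000 in
theorem s_lie0 : (lie0.all fun x => survB (Cx.lb x.g) x) = true := by decide +kernel
set_option maxRecDepth 100000 in
theorem s_lie1 : (lie1.all fun x => survB (Cx.lb x.g) x) = true := by decide +kernel
set_option maxRecDepth 100000 in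
theorem s_lie2 : (lie2.all fun x => survB (Cx.lb x.g) x) = true := by decide +kernel
set_option maxRecDepth 100000 in
theorem s_lie3 : (lie3.all fun x => survB (Cx.lb x.g) x) = true := by decide +kernel
set_option maxRecDepth 100000 in
theorem s_lie4 : (lie4.all fun x => survB (Cx.lb x.g) x) = true := by decide +kernel
set_option maxRecDepth 100000 in
theorem s_sp0 : (sp0.all fun x => survB 0 x) = true := by decide +kernel
set_option maxRecDepth 100000 in
theorem s_sp1 : (sp1.all fun x => survB 0 x) = true := by decide +kernel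
set_option maxRecDepth 100000 in
theorem s_sp2 : (sp2.all fun x => survB 0 x) = true := by decide +kernel
set_option maxRecDepth 100000 in
theorem s_al0 : (al0.all fun x => survB 0 x) = true := by decide +kernel

end Cfsg.Agent.H884.Ig
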