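import Cfsg.Agent.H884.IgRow
import Cfsg.Agent.H189.FeitTits

/-!
# Rows of the classical groups for S3561 and S3679: the residual class, any classical group (helper884)

* `AS g M`  : `M` is almost simple, with socle named `g`;
* `OutSpor` : no prime `≥ 5` divides `|Out S|`, `S` sporadic;
* `res_ig`  : `T` a classical simple group in characteristic `p`, `R ≤ T` almost simple with socle `S` named `g`,
  quotient of a perfect `P ≤ GL(ι, F)` by its scalars, `|ι|` the dimension of `T`:
  `IGap T R`, or `(g, T)` is in the list `excI`, or `S` is of Lie type in characteristic `p`.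
-/

set_option autoImplicit false

namespace Cfsg.Agent.H884.Row

open Cfsg Cfsg.Agent.OrdDiv Cfsg.Agent.H436 Cfsg.Agent.H264.FKS Cfsg.Agent.H915.GN
open Cfsg.Agent.H278.El.SporNum (IsCl)
open Cfsg.Agent.H278.El.AltNum (dimOf)
open Cfsg.Agent.H927.SgX (IsLieN)
open Cfsg.Agent.H884.Ig

universe u

/-- `M` is almost simple with socle named `g` -/
def AS (g : Grp) {T : Type u} [Group T] (M : Subgroup T) : Prop :=
  ∃ S : Subgroup M, S.Normal ∧ IsSimpleGroup S ∧ ¬ IsMulCommutative S ∧ Subgroup.centralizer (S : Set M) = ⊥ ∧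
    IsNamed g S

/-- no prime `≥ 5` divides `|Out S|`, `S` sporadic -/
def OutSpor : Prop := ∀ (S : Type) [Group S], ∀ y ∈ spor, IsNamed y.1 S →
  ∀ r : ℕ, r.Prime → 5 ≤ r → ¬ r ∣ Nat.card (Cfsg.Out S)

/-- all simple groups are known -/
def KnownS : Prop := ∀ (X : Type) [Group X] [Finite X] [IsSimpleGroup X], Cfsg.IsKnownSimple' X

theorem exists_char_of {q : ℕ} (h : IsPrimePow q) : ∃ s, s.Prime ∧ ∃ f, q = s ^ f := by
  obtain ⟨s, f, hs, -, h⟩ := (isPrimePow_nat_iff q).1 h
  exact ⟨s, hs, f, h.symm⟩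

theorem exists_charN {g : Grp} (hg : Cond g) (hlie : IsLieN g) : ∃ s, s.Prime ∧ HasChar s g := by
  cases g with
  | psl n q => exact exists_char_of hg.2.2
  | psp n q => exact exists_char_of hg.2.2
  | psu n q => exact exists_char_of hg.2.2
  | oodd n q => exact exists_char_of hg.2.2
  | oplus n q => exact exists_char_of hg.2
  | ominus n q => exact exists_char_of hg.2
  | g2 q => exact exists_char_of hg.2
  | f4 q => exact exists_char_of hg
  | e6 q => exact exists_char_of hg
  | e7 q => exact exists_char_of hg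
  | e8 q => exact exists_char_of hg
  | te6 q => exact exists_char_of hg
  | td4 q => exact exists_char_of hg
  | sz q => obtain ⟨m, -, h⟩ := hg; exact ⟨2, Nat.prime_two, _, h⟩
  | ree q => obtain ⟨m, -, h⟩ := hg; exact ⟨3, Nat.prime_three, _, h⟩
  | tf4 q => obtain ⟨m, -, h⟩ := hg; exact ⟨2, Nat.prime_two, _, h⟩
  | _ => exact hlie.elim

/-- the three kinds of names -/
theorem name_cases (g : Grp) : (∃ m, g = .alt m) ∨ (∃ x ∈ spor, x.1 = g) ∨ IsLieN g := by
  cases g with
  | alt m => exact .inl ⟨m, rfl⟩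
  | psl n q => exact .inr (.inr trivial)
  | psp n q => exact .inr (.inr trivial)
  | psu n q => exact .inr (.inr trivial)
  | oodd n q => exact .inr (.inr trivial)
  | oplus n q => exact .inr (.inr trivial)
  | ominus n q => exact .inr (.inr trivial)
  | g2 q => exact .inr (.inr trivial)
  | f4 q => exact .inr (.inr trivial)
  | e6 q => exact .inr (.inr trivial)
  | e7 q => exact .inr (.inr trivial)
  | e8 q => exact .inr (.inr trivial)
  | te6 q => exact .inr (.inr trivial)
  | td4 q => exact .inr (.inr trivial)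
  | sz q => exact .inr (.inr trivial)
  | ree q => exact .inr (.inr trivial)
  | tf4 q => exact .inr (.inr trivial)
  | _ => exact .inr (.inl (by simp only [spor, List.mem_cons, exists_eq_or_imp, true_or, or_true, reduceCtorEq,
      false_or]))

/-- the degree of an alternating section of a linear group -/
theorem alt_bound {ι : Type} [Fintype ι] [DecidableEq ι] {F : Type} [Field F] [Finite F] (P : Subgroup (GL ι F))
    (K : Subgroup P) [K.Normal] {m : ℕ} (hm : 9 ≤ m) (e : P ⧸ K ≃* alternatingGroup (Fin m)) :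
    m ≤ Fintype.card ι + 2 := by
  obtain ⟨p, hp⟩ := CharP.exists F
  have h1 := Cfsg.Agent.H189.FeitTits.feit_tits p (V := ι → F) hm (e.toMonoidHom.comp (QuotientGroup.mk' K))
    (e.surjective.comp (QuotientGroup.mk'_surjective K))
    (((Matrix.toLinAlgEquiv' : Matrix ι ι F ≃ₐ[F] _).toAlgHom.toRingHom.toMonoidHom.comp
      (Units.coeHom (Matrix ι ι F))).comp P.subtype) ?_
  · rw [Module.finrank_fintype_fun_eq_card] at h1
    split_ifs at h1 <;> omega
  · intro g hg
    have h2 : g = 1 := Subtype.ext (((Matrix.toLinAlgEquiv' : Matrix ι ι F ≃ₐ[F] _).injective.comp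
      Units.val_injective) (by rw [← map_one ((Matrix.toLinAlgEquiv' : Matrix ι ι F ≃ₐ[F] _))] at hg; exact hg))
    rw [h2, map_one]

theorem named_of_simple (tab : OrderTable.{0}) (hK : KnownS) {S : Type} [Group S] [Finite S] [IsSimpleGroup S]
    (hna : ¬ IsMulCommutative S) : ∃ g, IsNamed g S :=
  exists_named tab (hK S) fun h => hna ⟨⟨h⟩⟩

/-- **The residual class.** -/
theorem res_ig {T : Type} [Group T] [Finite T] [IsSimpleGroup T] {gT : Grp} {R : Subgroup T} {p : ℕ}
    (hO : OutSpor) (hp : p.Prime) (hT : IsNamed gT T) (hcl : IsCl gT) (hchT : HasChar p gT)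
    {ι : Type} [Fintype ι] [DecidableEq ι] {F : Type} [Field F] [Finite F] [CharP F p]
    (hcard : Fintype.card ι = dimOf gT) (S : Subgroup R) [S.Normal] [IsSimpleGroup S]
    (hna : ¬ IsMulCommutative S) (hC : Subgroup.centralizer (S : Set R) = ⊥) {P : Subgroup (GL ι F)}
    (hP : ⁅P, P⁆ = P) (e : S ≃* P ⧸ (Geo.scalars ι F).subgroupOf P) {g : Grp} (hS : IsNamed g S) :
    Cfsg.Agent.H899.CG.IGap T R ∨ (g, gT) ∈ excI ∨ HasChar p g := by
  have hnaT : ¬ ∀ x y : T, x * y = y * x := fun h => hna ⟨⟨fun a b => Subtype.ext (Subtype.ext (h _ _))⟩⟩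
  rcases name_cases g with ⟨m, rfl⟩ | ⟨x, hx, rfl⟩ | hlie
  · obtain ⟨e1⟩ := hS.real
    have hm : 5 ≤ m := hS.cond
    rcases igap_alt hnaT hp hT hcl hchT S hC hm e1 (fun h9 => by
      rw [← hcard]
      exact alt_bound P _ h9 (e.symm.trans e1)) with h | h
    · exact .inl h
    · exact .inr (.inl h)
  · rcases igap_spor hnaT hp hT hcl hchT S hna hC hx hS (hO S x hx hS) with h | h
    · exact .inl h
    · exact .inr (.inl h)
  · obtain ⟨s, hs, hch⟩ := exists_charN hS.cond hlie
    by_cases hsp : s = p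
    · subst hsp
      exact .inr (.inr hch)
    · rcases igap_cross hnaT hp hT hcl hchT hcard S hna hC hP e hs hsp hS hch with h | h
      · exact .inl h
      · exact .inr (.inl h)

end Cfsg.Agent.H884.Row
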