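import Cfsg.Agent.H884.RowAllA
import Cfsg.Agent.H264.FKS.ResCore
import Cfsg.Agent.H304.PslRes
import Cfsg.Agent.H251.GeoUMain
import Cfsg.Agent.H262.ElSympPSp
import Cfsg.Agent.H884.ElT
import Cfsg.Agent.LieClassical.SLGen
import Cfsg.Agent.S0270
import Cfsg.Agent.S0283
import Cfsg.Agent.S0295
import Cfsg.Agent.S0296
import Cfsg.Agent.S0297

/-!
# Rows of the classical groups for S3561 and S3679: the residual classes (helper884)

`T` a concrete classical group over `F`, `M ≤ T` in the residual class: `IGap T M`, or the socle of `M` and `T` are in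
the list `excI`, or the socle of `M` is of Lie type in the characteristic of `F`.
-/

set_option autoImplicit false

namespace Cfsg.Agent.H884.Row

open Cfsg Cfsg.Geo Cfsg.Agent.OrdDiv Cfsg.Agent.H436 Cfsg.Agent.H264.FKS Cfsg.Agent.H915.GN
open Cfsg.Agent.H278.El.SporNum (IsCl)
open Cfsg.Agent.H278.El.AltNum (dimOf)
open Cfsg.Agent.H884.Ig Cfsg.Agent.H899.CG
open scoped MatrixGroups

universe u

/-- `M` is almost simple with socle named `g`, which is the residual core of `H ≤ GL(ι, F)` modulo scalars -/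
def ASR (g : Grp) {T : Type u} [Group T] (M : Subgroup T) {ι : Type} [Fintype ι] [DecidableEq ι] {F : Type} [Field F]
    (H : Subgroup (GL ι F)) : Prop :=
  ∃ S : Subgroup M, S.Normal ∧ IsSimpleGroup S ∧ ¬ IsMulCommutative S ∧ Subgroup.centralizer (S : Set M) = ⊥ ∧
    IsNamed g S ∧ ∃ P : Subgroup (GL ι F), IsResidualCore H P ∧ Nonempty (S ≃* P ⧸ (scalars ι F).subgroupOf P)

theorem ASR.as {g : Grp} {T : Type u} [Group T] {M : Subgroup T} {ι : Type} [Fintype ι] [DecidableEq ι] {F : Type}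
    [Field F] {H : Subgroup (GL ι F)} (h : ASR g M H) : AS g M := by
  obtain ⟨S, h1, h2, h3, h4, h5, -⟩ := h
  exact ⟨S, h1, h2, h3, h4, h5⟩

theorem charP_of {F : Type} [Field F] [Fintype F] {p : ℕ} (hp : p.Prime) (h : p ∣ Fintype.card F) : CharP F p := by
  obtain ⟨r, hr⟩ := CharP.exists F
  obtain ⟨n, hrp, hn⟩ := FiniteField.card F r
  rw [hn] at h
  have h1 : p = r := (Nat.prime_dvd_prime_iff_eq hp hrp).1 (hp.dvd_of_dvd_pow h)
  rw [h1]
  exact hr

theorem card_char {F : Type} [Field F] [Fintype F] {p : ℕ} (hp : p.Prime) (h : p ∣ Fintype.card F) :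
    ∃ f, Fintype.card F = p ^ f := by
  have := charP_of hp h
  obtain ⟨n, -, hn⟩ := FiniteField.card F p
  exact ⟨n, hn⟩

/-! ### Names of the classical groups -/

section names

variable (F : Type) [Field F] [Fintype F]

theorem nm_psl {n : ℕ} (hn : 2 ≤ n) (h2 : n = 2 → 4 ≤ Fintype.card F) :
    IsNamed (.psl n (Fintype.card F)) (Matrix.ProjectiveSpecialLinearGroup (Fin n) F) :=
  .mk' ⟨F, inferInstance, inferInstance, rfl, ⟨MulEquiv.refl _⟩⟩ ⟨hn, h2, Fintype.isPrimePow_card_of_field⟩ (psl_eq hn)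

theorem nm_psp {n : ℕ} (hn : 2 ≤ n) (h2 : n = 2 → 3 ≤ Fintype.card F) :
    IsNamed (.psp n (Fintype.card F)) (PSp n F) :=
  .mk' ⟨F, inferInstance, inferInstance, rfl, ⟨MulEquiv.refl _⟩⟩ ⟨hn, h2, Fintype.isPrimePow_card_of_field⟩ (psp_eq hn)

theorem nm_psu {n q : ℕ} (hF : Fintype.card F = q ^ 2) (hn : 3 ≤ n) (h2 : ¬ (n = 3 ∧ q = 2)) :
    IsNamed (.psu n q) (PSU n F q) := by
  have hq2 : IsPrimePow (q ^ 2) := hF ▸ Fintype.isPrimePow_card_of_field
  have hqp : IsPrimePow q := (isPrimePow_pow_iff (by norm_num)).1 hq2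
  exact .mk' ⟨F, inferInstance, inferInstance, hF, ⟨MulEquiv.refl _⟩⟩ ⟨hn, h2, hqp⟩ (psu_eq hF hn)

theorem nm_oodd {n : ℕ} (hn : 3 ≤ n) (ho : Odd (Fintype.card F)) :
    IsNamed (.oodd n (Fintype.card F)) (POmega F (quadFormOdd n F)) :=
  .mk' ⟨F, inferInstance, inferInstance, rfl, ⟨MulEquiv.refl _⟩⟩ ⟨hn, ho, Fintype.isPrimePow_card_of_field⟩
    (oodd_eq hn ho)

theorem nm_oplus {n : ℕ} (hn : 4 ≤ n) : IsNamed (.oplus n (Fintype.card F)) (POmega F (quadFormPlus n F)) :=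
  .mk' ⟨F, inferInstance, inferInstance, rfl, ⟨MulEquiv.refl _⟩⟩ ⟨hn, Fintype.isPrimePow_card_of_field⟩
    (oplus_eq hn)

theorem nm_ominus {n : ℕ} (hn : 4 ≤ n) {a b : F}
    (hab : ∀ z₁ z₂ : F, z₁ ^ 2 + a * z₁ * z₂ + b * z₂ ^ 2 = 0 → z₁ = 0 ∧ z₂ = 0) :
    IsNamed (.ominus n (Fintype.card F)) (POmega F (quadFormMinus (n - 1) F a b)) :=
  .mk' ⟨F, inferInstance, inferInstance, a, b, rfl, hab, ⟨MulEquiv.refl _⟩⟩ ⟨hn, Fintype.isPrimePow_card_of_field⟩
    (ominus_eq hn hab)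

end names

/-- **The residual class, from the socle.** -/
theorem res_gen (tab : OrderTable.{0}) (hK : KnownS) (hO : OutSpor) {T : Type} [Group T] [Finite T] [IsSimpleGroup T]
    {gT : Grp} {R : Subgroup T} {p : ℕ} (hp : p.Prime) (hT : IsNamed gT T) (hcl : IsCl gT) (hchT : HasChar p gT)
    {ι : Type} [Fintype ι] [DecidableEq ι] {F : Type} [Field F] [Fintype F] (hpF : p ∣ Fintype.card F)
    (hcard : Fintype.card ι = dimOf gT) {H P : Subgroup (GL ι F)} (hP : IsResidualCore H P) (hS : SocleOf R P) :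
    Cfsg.Agent.H899.CG.IGap T R ∨ (∃ g, ASR g R H ∧ (g, gT) ∈ excI) ∨ ∃ g, ASR g R H ∧ HasChar p g := by
  obtain ⟨S, hSn, hSs, hna, hC, ⟨e⟩⟩ := hS
  obtain ⟨g, hg⟩ := named_of_simple tab hK hna
  have := charP_of hp hpF
  have hA : ASR g R H := ⟨S, hSn, hSs, hna, hC, hg, P, hP, ⟨e⟩⟩
  rcases res_ig hO hp hT hcl hchT hcard S hna hC hP.perfect e hg with h | h | h
  · exact .inl h
  · exact .inr (.inl ⟨g, hA, h⟩)
  · exact .inr (.inr ⟨g, hA, h⟩)

section rows

variable {F : Type} [Field F] [Fintype F]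

/-- **`PSL_n(q)`, `n ≥ 3`.** -/
theorem res_psl (tab : OrderTable.{0}) (hK : KnownS) (hO : OutSpor) {n p : ℕ} (hn : 3 ≤ n) (hp : p.Prime)
    (hpF : p ∣ Fintype.card F) {M : Subgroup (Matrix.ProjectiveSpecialLinearGroup (Fin n) F)}
    (hM : InLinearResidualClass (H304.PslT.pre M)) :
    IGap _ M ∨ (∃ g, ASR g M (H304.PslT.pre M) ∧ (g, Grp.psl n (Fintype.card F)) ∈ excI) ∨
      ∃ g, ASR g M (H304.PslT.pre M) ∧ HasChar p g := by
  obtain ⟨P, hP, -⟩ := hM
  have hs : IsSimpleGroup (Matrix.ProjectiveSpecialLinearGroup (Fin n) F) :=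
    LieClassical.SLGen.psl_isSimpleGroup (by rw [Fintype.card_fin]; exact hn)
  have hfin : Finite (Matrix.ProjectiveSpecialLinearGroup (Fin n) F) := Quotient.finite _
  exact res_gen tab hK hO hp (nm_psl F (by omega) (by omega)) hn (card_char hp hpF) hpF (Fintype.card_fin n) hP
    (exists_socle (Matrix.SpecialLinearGroup.toGL (n := Fin n) (R := F)) H304.PslT.toGL_injective
      (H304.PslT.pr n F) (QuotientGroup.mk'_surjective _)
      (fun x => (QuotientGroup.eq_one_iff x).trans (H304.PslT.center_iff (by omega))) hP)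

/-- **`PSU_n(q)`, `n ≥ 3`.** -/
theorem res_psu (tab : OrderTable.{0}) (hK : KnownS) (hO : OutSpor) {n q p : ℕ} (hF : Fintype.card F = q ^ 2)
    (hn : 3 ≤ n) (h32 : ¬ (n = 3 ∧ q = 2)) (hp : p.Prime) (hpq : p ∣ q) {M : Subgroup (PSU n F q)}
    (hM : InUnitaryResidualClass (H251.GeoU.pre M)) :
    IGap _ M ∨ (∃ g, ASR g M (H251.GeoU.pre M) ∧ (g, Grp.psu n q) ∈ excI) ∨
      ∃ g, ASR g M (H251.GeoU.pre M) ∧ HasChar p g := by
  obtain ⟨P, hP, -⟩ := hM
  have hs : IsSimpleGroup (PSU n F q) := S0283.result hF n hn h32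
  have : Finite (SU n F q) := Finite.of_injective _ H918.suHom_injective
  have hfin : Finite (PSU n F q) := Quotient.finite _
  have hT := nm_psu F hF hn h32
  obtain ⟨p', f, hp', hf, hpf⟩ := (isPrimePow_nat_iff _).1 hT.cond.2.2
  have hpp : p = p' := by
    rw [← hpf] at hpq
    exact (Nat.prime_dvd_prime_iff_eq hp hp').1 (hp.dvd_of_dvd_pow hpq)
  exact res_gen tab hK hO hp hT trivial ⟨f, by rw [hpp, hpf]⟩ (hF ▸ (hpq.trans (dvd_pow_self q (by norm_num))))
    (Fintype.card_fin n) hP (exists_res_psu hF hn hP)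

omit [Fintype F] in
theorem hker_sp' {m : ℕ} (x : Matrix.symplecticGroup (Fin m) F) :
    QuotientGroup.mk' (Subgroup.center (Matrix.symplecticGroup (Fin m) F)) x = 1 ↔
      H876.spToGL m F x ∈ scalars (Fin m ⊕ Fin m) F := by
  rw [show QuotientGroup.mk' (Subgroup.center (Matrix.symplecticGroup (Fin m) F)) x = 1 ↔
    x ∈ Subgroup.center (Matrix.symplecticGroup (Fin m) F) from QuotientGroup.eq_one_iff x]
  constructor
  · intro h
    obtain ⟨a, ha⟩ := (LieClassical.SympCenter.mem_center_iff m x).1 h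
    rcases isEmpty_or_nonempty (Fin m ⊕ Fin m) with hι | ⟨⟨i⟩⟩
    · have : H876.spToGL m F x = 1 := Units.ext (by ext i; exact (hι.false i).elim)
      rw [this]
      exact Subgroup.one_mem _
    · have ha0 : a ≠ 0 := by
        rintro rfl
        rw [zero_smul] at ha
        have h3 : (0 : Matrix (Fin m ⊕ Fin m) (Fin m ⊕ Fin m) F) = 1 := by
          have h1 : x.1 * (x⁻¹).1 = 1 := congrArg Subtype.val (mul_inv_cancel x)
          rw [ha, zero_mul] at h1
          exact h1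
        have h4 := congrFun (congrFun h3 i) i
        rw [Matrix.zero_apply, Matrix.one_apply_eq] at h4
        exact zero_ne_one h4
      refine ⟨Units.mk0 a ha0, Units.ext ?_⟩
      ext i j
      have h5 := congrFun (congrFun ha i) j
      change (Matrix.scalar (Fin m ⊕ Fin m) a) i j = x.1 i j
      rw [h5, Matrix.scalar_apply, Matrix.smul_apply, Matrix.diagonal_apply, Matrix.one_apply]
      split_ifs <;> simp
  · rintro ⟨u, hu⟩
    refine (LieClassical.SympCenter.mem_center_iff m x).2 ⟨(u : F), ?_⟩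
    have h1 := congrArg Units.val hu
    ext i j
    have h5 := congrFun (congrFun h1 i) j
    change (Matrix.scalar (Fin m ⊕ Fin m) (u : F)) i j = x.1 i j at h5
    rw [← h5, Matrix.scalar_apply, Matrix.smul_apply, Matrix.diagonal_apply, Matrix.one_apply]
    split_ifs <;> simp

/-- **`PSp_2m(q)`, `m ≥ 2`.** -/
theorem res_psp (tab : OrderTable.{0}) (hK : KnownS) (hO : OutSpor) {m p : ℕ} (hm : 2 ≤ m)
    (h2 : m = 2 → 3 ≤ Fintype.card F) (hp : p.Prime) (hpF : p ∣ Fintype.card F) {M : Subgroup (PSp m F)}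
    (hM : InSymplecticResidualClass (H262.El.pre M)) :
    IGap _ M ∨ (∃ g, ASR g M (H262.El.pre M) ∧ (g, Grp.psp m (Fintype.card F)) ∈ excI) ∨
      ∃ g, ASR g M (H262.El.pre M) ∧ HasChar p g := by
  obtain ⟨P, hP, -⟩ := hM
  have hs : IsSimpleGroup (PSp m F) := S0270.result m hm h2
  have hfin : Finite (PSp m F) := Quotient.finite _
  exact res_gen tab hK hO hp (nm_psp F hm h2) trivial (card_char hp hpF) hpF
    (by rw [Fintype.card_sum, Fintype.card_fin]; exact (two_mul m).symm) hP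
    (exists_socle (H876.spToGL m F) H262.El.spToGL_injective _ (QuotientGroup.mk'_surjective _) hker_sp' hP)

/-- **`Ω_{2m+1}(q)`, `m ≥ 3`.** -/
theorem res_oodd (tab : OrderTable.{0}) (hK : KnownS) (hO : OutSpor) {m p : ℕ} (hm : 3 ≤ m)
    (hodd : Odd (Fintype.card F)) (hp : p.Prime) (hpF : p ∣ Fintype.card F) {M : Subgroup (POmega F (quadFormOdd m F))}
    (hM : InOrthogonalResidualClass (H884.El.pre (quadFormOdd m F) M)) :
    IGap _ M ∨ (∃ g, ASR g M (H884.El.pre (quadFormOdd m F) M) ∧ (g, Grp.oodd m (Fintype.card F)) ∈ excI) ∨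
      ∃ g, ASR g M (H884.El.pre (quadFormOdd m F) M) ∧ HasChar p g := by
  obtain ⟨P, hP, -⟩ := hM
  have hs : IsSimpleGroup (POmega F (quadFormOdd m F)) := S0295.result hodd m hm
  have hfin : Finite (POmega F (quadFormOdd m F)) := Quotient.finite _
  refine res_gen tab hK hO hp (nm_oodd F hm hodd) trivial (card_char hp hpF) hpF ?_ hP
    (exists_res_odd hm hodd (M := M) hP)
  rw [Fintype.card_sum, Fintype.card_sum, Fintype.card_fin, Fintype.card_unit]
  change 1 + (m + m) = 2 * m + 1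
  omega

/-- **`PΩ⁺_{2m}(q)`, `m ≥ 4`.** -/
theorem res_oplus (tab : OrderTable.{0}) (hK : KnownS) (hO : OutSpor) {m p : ℕ} (hm : 4 ≤ m) (hp : p.Prime)
    (hpF : p ∣ Fintype.card F) {M : Subgroup (POmega F (quadFormPlus m F))}
    (hM : InOrthogonalResidualClass (H884.El.pre (quadFormPlus m F) M)) :
    IGap _ M ∨ (∃ g, ASR g M (H884.El.pre (quadFormPlus m F) M) ∧ (g, Grp.oplus m (Fintype.card F)) ∈ excI) ∨
      ∃ g, ASR g M (H884.El.pre (quadFormPlus m F) M) ∧ HasChar p g := by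
  obtain ⟨P, hP, -⟩ := hM
  have hs : IsSimpleGroup (POmega F (quadFormPlus m F)) := S0296.result m hm
  have hfin : Finite (POmega F (quadFormPlus m F)) := Quotient.finite _
  refine res_gen tab hK hO hp (nm_oplus F hm) trivial (card_char hp hpF) hpF ?_ hP (exists_res_plus hm (M := M) hP)
  rw [Fintype.card_sum, Fintype.card_fin]
  exact (two_mul m).symm

/-- **`PΩ⁻_{2m}(q)`, `m ≥ 4`.** -/
theorem res_ominus (tab : OrderTable.{0}) (hK : KnownS) (hO : OutSpor) {m p : ℕ} (hm : 4 ≤ m) {a b : F}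
    (hab : ∀ z₁ z₂ : F, z₁ ^ 2 + a * z₁ * z₂ + b * z₂ ^ 2 = 0 → z₁ = 0 ∧ z₂ = 0) (hp : p.Prime)
    (hpF : p ∣ Fintype.card F) {M : Subgroup (POmega F (quadFormMinus (m - 1) F a b))}
    (hM : InOrthogonalResidualClass (H884.El.pre (quadFormMinus (m - 1) F a b) M)) :
    IGap _ M ∨ (∃ g, ASR g M (H884.El.pre (quadFormMinus (m - 1) F a b) M) ∧
      (g, Grp.ominus m (Fintype.card F)) ∈ excI) ∨
      ∃ g, ASR g M (H884.El.pre (quadFormMinus (m - 1) F a b) M) ∧ HasChar p g := by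
  obtain ⟨P, hP, -⟩ := hM
  have hs : IsSimpleGroup (POmega F (quadFormMinus (m - 1) F a b)) := S0297.result m hm a b hab
  have hfin : Finite (POmega F (quadFormMinus (m - 1) F a b)) := Quotient.finite _
  refine res_gen tab hK hO hp (nm_ominus F hm hab) trivial (card_char hp hpF) hpF ?_ hP
    (exists_res_minus hm a b hab (M := M) hP)
  rw [Fintype.card_sum, Fintype.card_sum, Fintype.card_fin, Fintype.card_fin]
  change m - 1 + (m - 1) + 2 = 2 * m
  omega

end rows

end Cfsg.Agent.H884.Row
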