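import Cfsg.Agent.H884.RowAllB
import Cfsg.Agent.H884.RowAllS
import Cfsg.Agent.H597.CycLb
import Cfsg.Agent.S5776

/-!
# Rows of the classical groups for S3561 and S3679: `PSL_3(q)` (helper884)

`row_psl3` : `M` maximal in `PSL_3(q)`: `IGap`, or `|M| (q - 1) ≤ 3 (q³ - 1)` (the normaliser of a Singer cycle).
-/

set_option autoImplicit false

namespace Cfsg.Agent.H884.Row

open Cfsg Cfsg.Geo Cfsg.Agent.OrdDiv Cfsg.Agent.H436 Cfsg.Agent.H264.FKS Cfsg.Agent.H915.GN
open Cfsg.Agent.H278.El.SporNum (IsCl)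
open Cfsg.Agent.H278.El.AltNum (dimOf)
open Cfsg.Agent.H884.Ig Cfsg.Agent.H899.CG
open scoped MatrixGroups

variable {F : Type} [Field F] [Fintype F]

/-- the residual class of `PSL_3(q)` -/
theorem res_psl3 {M : Subgroup (Matrix.ProjectiveSpecialLinearGroup (Fin 3) F)} (hM : IsCoatom M)
    (h : InLinearResidualClass (H304.PslT.pre M)) : IGap _ M := by
  have hs : IsSimpleGroup (Matrix.ProjectiveSpecialLinearGroup (Fin 3) F) :=
    LieClassical.SLGen.psl_isSimpleGroup (by rw [Fintype.card_fin])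
  have hfin : Finite (Matrix.ProjectiveSpecialLinearGroup (Fin 3) F) := Quotient.finite _
  obtain ⟨P, p, hP, hp, hcp, hcase⟩ := S5776.result (H304.PslT.pre M) (H304.PslT.isMaximalIn_pre hM) h
  obtain ⟨S, hSn, hSs, hna, hC, ⟨e⟩⟩ :=
    exists_socle (Matrix.SpecialLinearGroup.toGL (n := Fin 3) (R := F)) H304.PslT.toGL_injective
      (H304.PslT.pr 3 F) (QuotientGroup.mk'_surjective _)
      (fun x => (QuotientGroup.eq_one_iff x).trans (H304.PslT.center_iff (by omega))) hP
  obtain ⟨f, -, hf⟩ := FiniteField.card F p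
  have hT : IsNamed (.psl 3 (Fintype.card F)) (Matrix.ProjectiveSpecialLinearGroup (Fin 3) F) :=
    nm_psl F (by omega) (by omega)
  have hnaT : ¬ ∀ x y : Matrix.ProjectiveSpecialLinearGroup (Fin 3) F, x * y = y * x :=
    fun h => hna ⟨⟨fun a b => Subtype.ext (Subtype.ext (h _ _))⟩⟩
  rcases hcase with ⟨⟨e1⟩, hF, hp2, -⟩ | ⟨⟨e1⟩, -⟩
  · have hc2 : Fintype.card (ZMod 2) = 2 := ZMod.card 2
    have : Fact (Nat.Prime 2) := ⟨Nat.prime_two⟩
    have hS : IsNamed (.psl 3 2) S := by
      refine .mk' ⟨ZMod 2, inferInstance, inferInstance, hc2, ⟨e.trans e1⟩⟩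
        ⟨by norm_num, fun h => absurd h (by norm_num), Nat.prime_two.isPrimePow⟩ ?_
      rw [Nat.card_congr (e.trans e1).toEquiv]
      have := psl_eq (F := ZMod 2) (n := 3) (by norm_num)
      rw [hc2] at this
      exact this
    rcases igap_cross hnaT hp hT le_rfl ⟨f, hf⟩ (Fintype.card_fin 3) S hna hC hP.perfect e Nat.prime_two
      (fun h => hp2 h.symm) hS ⟨1, by norm_num⟩ with h | h
    · exact h
    · simp only [excI, List.mem_cons, Prod.mk.injEq, Grp.psl.injEq, reduceCtorEq, and_false, or_false,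
        false_or, List.not_mem_nil, false_and, true_and] at h
      omega
  · rcases igap_alt hnaT hp hT le_rfl ⟨f, hf⟩ S hC (m := 6) (by norm_num) (e.trans e1) (by omega) with h | h
    · exact h
    · simp only [excI, List.mem_cons, Prod.mk.injEq, Grp.alt.injEq, Grp.psl.injEq, reduceCtorEq, and_false, or_false,
        false_or, List.not_mem_nil, false_and, true_and] at h
      omega

/-- **`PSL_3(q)`.** -/
theorem row_psl3 {M : Subgroup (Matrix.ProjectiveSpecialLinearGroup (Fin 3) F)} (hM : IsCoatom M) : IGap _ M ∨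
    Nat.card M * (Fintype.card F - 1) ≤ 3 * (Fintype.card F ^ 3 - 1) := by
  rcases H597.CycL.geo_cyc_three hM with h | ⟨K, hK, h⟩ | h
  · exact .inl h
  · right
    rw [← Nat.card_eq_fintype_card]
    exact card_singer_le (by norm_num) hK (h.le.trans inf_le_left)
  · exact .inl (res_psl3 hM h)

end Cfsg.Agent.H884.Row
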